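import Cfsg.Agent.Unitary.Commutators
import Mathlib.LinearAlgebra.Projectivization.Action
import Mathlib.GroupTheory.GroupAction.Iwasawa

/-!
Primitivity on isotropic points and simplicity of PSU.
-/

set_option autoImplicit false
set_option linter.style.haveILetI false

namespace CfsgLib.Unitary

open Matrix CfsgLib.Forms
open scoped LinearAlgebra.Projectivization

variable {F : Type*} [Field F] [Finite F] {q : ℕ} {n : ℕ} (hF : Nat.card F = q ^ 2)

include hF in
/-- An isotropic partner. -/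
theorem exists_partner {H : Submodule F (Fin n → F)} {x : Fin n → F} (hx : x ∉ H)
    (hxx : Cfsg.hermForm n F q x x = 0) (hxH : ∀ v ∈ H, Cfsg.hermForm n F q v x = 0) :
    ∃ y, (∀ v ∈ H, Cfsg.hermForm n F q v y = 0) ∧ Cfsg.hermForm n F q x y = 1 ∧
      Cfsg.hermForm n F q y x = 1 ∧ Cfsg.hermForm n F q y y = 0 := by
  obtain ⟨y, hy, hy1⟩ := (uForm hF n).exists_perp_one (uForm_nondeg hF n) hx
  simp only [uForm_h] at hy hy1
  have hyx : Cfsg.hermForm n F q y x = 1 := by rw [herm_swap hF x y, hy1, one_pow]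
  obtain ⟨t, ht⟩ := exists_trace_eq hF (herm_self_fixed hF y)
  refine ⟨y - t • x, fun v hv => ?_, ?_, ?_, ?_⟩
  · rw [herm_sub_right hF, herm_smul_right hF, hy v hv, hxH v hv, mul_zero, sub_zero]
  · rw [herm_sub_right hF, herm_smul_right hF, hy1, hxx, mul_zero, sub_zero]
  · rw [herm_sub_left hF, herm_smul_left, hyx, hxx, mul_zero, sub_zero]
  · rw [herm_sub_left hF, herm_smul_left, herm_sub_right hF, herm_sub_right hF,
      herm_smul_right hF, herm_smul_right hF, hy1, hyx, hxx]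
    linear_combination -ht

include hF in
/-- Correct the determinant of an isometry on a hyperbolic pair. -/
theorem exists_SU_adjust (g : Cfsg.GU n F q) {p p' : Fin n → F}
    (hp : Cfsg.hermForm n F q p p = 0) (hp' : Cfsg.hermForm n F q p' p' = 0)
    (hpp : Cfsg.hermForm n F q p p' = 1) :
    ∃ s : Cfsg.SU n F q, ∃ a b : F, a ≠ 0 ∧ b ≠ 0 ∧
      suMat s *ᵥ p = a • ((g.1 : Matrix (Fin n) (Fin n) F) *ᵥ p) ∧
      suMat s *ᵥ p' = b • ((g.1 : Matrix (Fin n) (Fin n) F) *ᵥ p') ∧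
      ∀ x, Cfsg.hermForm n F q x p = 0 → Cfsg.hermForm n F q x p' = 0 →
        suMat s *ᵥ x = (g.1 : Matrix (Fin n) (Fin n) F) *ᵥ x := by
  have hq := two_le_q hF
  have hp'p : Cfsg.hermForm n F q p' p = 1 := by rw [herm_swap hF p p', hpp, one_pow]
  obtain ⟨w, hw⟩ := exists_pow_eq_of_pow_eq_one (d := q - 1) (k := q + 1) (m := 1)
    (by rw [card_units_eq hF]; ring) (u := detGU n g) (det_GU hF g.2)
  set a : F := (w : F) with ha
  set b : F := (a ^ q)⁻¹ with hb
  have ha0 : a ≠ 0 := w.ne_zero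
  have hb0 : b ≠ 0 := inv_ne_zero (pow_ne_zero _ ha0)
  have haq : a ^ q = a ^ (q - 1) * a := by rw [← pow_succ, Nat.sub_add_cancel (by omega)]
  obtain ⟨D, hD⟩ : ∃ D : Matrix (Fin n) (Fin n) F, D =
      (1 + Matrix.vecMulVec ((a - 1) • p) (barVec q p')) *
      (1 + Matrix.vecMulVec ((b - 1) • p') (barVec q p)) := ⟨_, rfl⟩
  have hDx : ∀ x, D *ᵥ x = x + ((a - 1) * Cfsg.hermForm n F q x p') • p +
      ((b - 1) * Cfsg.hermForm n F q x p) • p' := by
    intro x
    simp only [hD, ← Matrix.mulVec_mulVec, Matrix.add_mulVec, Matrix.one_mulVec,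
      Matrix.vecMulVec_mulVec, op_smul_eq_smul, smul_smul, barVec_dot, herm_add_left,
      herm_smul_left, hp', mul_zero, add_zero]
    module
  have hdet : D.det = a * b := by
    rw [hD, Matrix.det_mul, Matrix.vecMulVec_eq (Fin 1), Matrix.vecMulVec_eq (Fin 1),
      Matrix.det_one_add_replicateCol_mul_replicateRow,
      Matrix.det_one_add_replicateCol_mul_replicateRow, dotProduct_smul, dotProduct_smul,
      barVec_dot, barVec_dot, hpp, hp'p]
    simp
  have hM : ((g.1 : Matrix (Fin n) (Fin n) F) * D).det = 1 := by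
    have h1 : (g.1 : Matrix (Fin n) (Fin n) F).det = a ^ (q - 1) := by
      rw [ha, ← Units.val_pow_eq_pow_val, hw]; rfl
    rw [Matrix.det_mul, hdet, h1, hb, ← mul_assoc, ← haq,
      mul_inv_cancel₀ (pow_ne_zero _ ha0)]
  have hab : a * b ^ q = 1 := by
    rw [hb, inv_pow, pow_q_q hF, mul_inv_cancel₀ ha0]
  have hba : b * a ^ q = 1 := by rw [hb, inv_mul_cancel₀ (pow_ne_zero _ ha0)]
  refine ⟨⟨⟨_, hM⟩, fun x y => ?_⟩, a, b, ha0, hb0, ?_, ?_, fun x hx hx' => ?_⟩
  · change Cfsg.hermForm n F q (((g.1 : Matrix (Fin n) (Fin n) F) * D) *ᵥ x)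
      (((g.1 : Matrix (Fin n) (Fin n) F) * D) *ᵥ y) = _
    rw [← Matrix.mulVec_mulVec, ← Matrix.mulVec_mulVec, mem_GU_iff.mp g.2, hDx, hDx]
    simp only [herm_add_left, herm_add_right hF, herm_smul_left, herm_smul_right hF, hp, hp', hpp,
      hp'p, mul_pow, ← herm_swap hF]
    rw [← frobQ_apply hF (a - 1), ← frobQ_apply hF (b - 1), map_sub, map_sub, map_one,
      frobQ_apply, frobQ_apply]
    linear_combination
      (Cfsg.hermForm n F q x p' * Cfsg.hermForm n F q p y) * hab +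
      (Cfsg.hermForm n F q x p * Cfsg.hermForm n F q p' y) * hba
  · change ((g.1 : Matrix (Fin n) (Fin n) F) * D) *ᵥ p = _
    rw [← Matrix.mulVec_mulVec, hDx, hp, hpp, ← Matrix.mulVec_smul]
    congr 1; module
  · change ((g.1 : Matrix (Fin n) (Fin n) F) * D) *ᵥ p' = _
    rw [← Matrix.mulVec_mulVec, hDx, hp', hp'p, ← Matrix.mulVec_smul]
    congr 1; module
  · change ((g.1 : Matrix (Fin n) (Fin n) F) * D) *ᵥ x = _
    rw [← Matrix.mulVec_mulVec, hDx, hx, hx', mul_zero, mul_zero, zero_smul, zero_smul, add_zero,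
      add_zero]

omit [Finite F] in
theorem indep_pair {u v : Fin n → F} (hu : u ≠ 0) (hv : ∀ a : F, a • u ≠ v) :
    LinearIndependent F ![u, v] := by
  rw [linearIndependent_fin2]
  refine ⟨fun e => hv 0 (by simpa using e.symm), fun a e => ?_⟩
  simp only [Matrix.cons_val_one, Matrix.cons_val_zero] at e
  rcases eq_or_ne a 0 with rfl | ha
  · exact hu (by simpa using e.symm)
  · exact hv a⁻¹ (by rw [← e, smul_smul, inv_mul_cancel₀ ha, one_smul])

include hF in
theorem exists_SU_nonorth {u v w : Fin n → F} (hu : Cfsg.hermForm n F q u u = 0)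
    (hv : Cfsg.hermForm n F q v v = 0) (hw : Cfsg.hermForm n F q w w = 0)
    (huv : Cfsg.hermForm n F q u v ≠ 0) (huw : Cfsg.hermForm n F q u w ≠ 0) :
    ∃ s : Cfsg.SU n F q, (∃ a : F, suMat s *ᵥ u = a • u) ∧ ∃ b : F, suMat s *ᵥ v = b • w := by
  have hq := two_le_q hF
  set v1 := ((Cfsg.hermForm n F q u v)⁻¹) ^ q • v with hv1
  set w1 := ((Cfsg.hermForm n F q u w)⁻¹) ^ q • w with hw1
  have huv1 : Cfsg.hermForm n F q u v1 = 1 := by
    rw [hv1, herm_smul_right hF, pow_q_q hF, inv_mul_cancel₀ huv]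
  have huw1 : Cfsg.hermForm n F q u w1 = 1 := by
    rw [hw1, herm_smul_right hF, pow_q_q hF, inv_mul_cancel₀ huw]
  have hv11 : Cfsg.hermForm n F q v1 v1 = 0 := by
    rw [hv1, herm_smul_left, herm_smul_right hF, hv, mul_zero, mul_zero]
  have hw11 : Cfsg.hermForm n F q w1 w1 = 0 := by
    rw [hw1, herm_smul_left, herm_smul_right hF, hw, mul_zero, mul_zero]
  have hind : ∀ z, Cfsg.hermForm n F q u z = 1 → LinearIndependent F ![u, z] := fun z hz =>
    indep_pair (fun e => by rw [e] at hz; simp [Cfsg.hermForm] at hz) fun a e => by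
      rw [← e, herm_smul_right hF, hu, mul_zero] at hz; exact zero_ne_one hz
  obtain ⟨g, hg⟩ := exists_GU_family hF ![u, v1] ![u, w1] (hind v1 huv1) (hind w1 huw1)
    (fun i j => by
      fin_cases i <;> fin_cases j <;>
        simp [hu, huv1, huw1, hv11, hw11, herm_swap hF u v1, herm_swap hF u w1])
  obtain ⟨s, a, b, -, -, hsu, hsv, -⟩ := exists_SU_adjust hF g hu hv11 huv1
  have hg0 := hg 0
  have hg1 := hg 1
  simp only [Matrix.cons_val_zero, Matrix.cons_val_one] at hg0 hg1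
  rw [hg0] at hsu
  rw [hg1, hv1, hw1, Matrix.mulVec_smul, smul_smul] at hsv
  have h := congrArg (fun z => (((Cfsg.hermForm n F q u v)⁻¹) ^ q)⁻¹ • z) hsv
  simp only [smul_smul, inv_mul_cancel₀ (pow_ne_zero q (inv_ne_zero huv)), one_smul] at h
  exact ⟨s, ⟨a, hsu⟩, _, h⟩

include hF in
theorem exists_SU_orth {p r a : Fin n → F} (hp : Cfsg.hermForm n F q p p = 0)
    (hr : Cfsg.hermForm n F q r r = 0) (ha : Cfsg.hermForm n F q a a = 0)
    (hpr : Cfsg.hermForm n F q p r = 0) (hpa : Cfsg.hermForm n F q p a = 0) (hp0 : p ≠ 0)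
    (hr0 : ∀ c : F, c • p ≠ r) (ha0 : ∀ c : F, c • p ≠ a) :
    ∃ s : Cfsg.SU n F q, (∃ c : F, suMat s *ᵥ p = c • p) ∧ suMat s *ᵥ r = a := by
  have hq := two_le_q hF
  have hrp : Cfsg.hermForm n F q r p = 0 := by rw [herm_swap hF p r, hpr, zero_pow (by omega)]
  have hap : Cfsg.hermForm n F q a p = 0 := by rw [herm_swap hF p a, hpa, zero_pow (by omega)]
  obtain ⟨g, hg⟩ := exists_GU_family hF ![p, r] ![p, a] (indep_pair hp0 hr0) (indep_pair hp0 ha0)
    (fun i j => by fin_cases i <;> fin_cases j <;> simp [hp, hr, ha, hpr, hpa, hrp, hap])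
  have hr00 : r ≠ 0 := fun e => hr0 0 (by rw [zero_smul, e])
  obtain ⟨p', hp'H, hpp', -, hp'p'⟩ := exists_partner hF (H := Submodule.span F {r}) (x := p)
    (fun hm => by
      obtain ⟨c, hc⟩ := Submodule.mem_span_singleton.mp hm
      rcases eq_or_ne c 0 with rfl | hc0
      · exact hp0 (by simpa using hc.symm)
      · exact hr0 c⁻¹ (by rw [← hc, smul_smul, inv_mul_cancel₀ hc0, one_smul]))
    hp (fun v hv => by
      obtain ⟨c, rfl⟩ := Submodule.mem_span_singleton.mp hv
      rw [herm_smul_left, hrp, mul_zero])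
  obtain ⟨s, c, -, -, -, hsp, -, hsx⟩ := exists_SU_adjust hF g hp hp'p' hpp'
  have hg0 := hg 0
  have hg1 := hg 1
  simp only [Matrix.cons_val_zero, Matrix.cons_val_one] at hg0 hg1
  rw [hg0] at hsp
  exact ⟨s, ⟨c, hsp⟩, (hsx r hrp (hp'H r (Submodule.mem_span_singleton_self r))).trans hg1⟩

/-- Isotropic points. -/
def IsoPt (n : ℕ) (F : Type*) [Field F] (q : ℕ) : Type _ :=
  {P : ℙ F (Fin n → F) // Cfsg.hermForm n F q P.rep P.rep = 0}

theorem mk_isotropic_iff (hF : Nat.card F = q ^ 2) {v : Fin n → F} (hv : v ≠ 0) :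
    Cfsg.hermForm n F q (Projectivization.mk F v hv).rep (Projectivization.mk F v hv).rep = 0 ↔
      Cfsg.hermForm n F q v v = 0 := by
  obtain ⟨c, hc⟩ := Projectivization.exists_smul_eq_mk_rep F v hv
  rw [← hc, Units.smul_def, herm_smul_left, herm_smul_right hF]
  simp

omit [Finite F] in
theorem suMat_injective (g : Cfsg.SU n F q) :
    Function.Injective (Matrix.toLin' (suMat g)) := fun x y e => by
  rw [Matrix.toLin'_apply, Matrix.toLin'_apply] at e
  rw [← su_inv_mulVec g x, e, su_inv_mulVec]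

omit [Finite F] in
theorem su_mulVec_ne_zero (g : Cfsg.SU n F q) {v : Fin n → F} (hv : v ≠ 0) :
    suMat g *ᵥ v ≠ 0 := fun e => hv (by rw [← su_inv_mulVec g v, e, Matrix.mulVec_zero])

/-- The action on all points. -/
def actP (g : Cfsg.SU n F q) (P : ℙ F (Fin n → F)) : ℙ F (Fin n → F) :=
  Projectivization.map (Matrix.toLin' (suMat g)) (suMat_injective g) P

omit [Finite F] in
theorem actP_mk (g : Cfsg.SU n F q) {v : Fin n → F} (hv : v ≠ 0) :
    actP g (Projectivization.mk F v hv) =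
      Projectivization.mk F (suMat g *ᵥ v) (su_mulVec_ne_zero g hv) := by
  rw [actP, Projectivization.map_mk]
  simp only [Matrix.toLin'_apply]

instance : MulAction (Cfsg.SU n F q) (IsoPt n F q) where
  smul g P := ⟨actP g P.1, by
    obtain ⟨⟨v, hv⟩, hP⟩ : ∃ v : {v : Fin n → F // v ≠ 0}, P.1 = Projectivization.mk F v.1 v.2 :=
      ⟨⟨P.1.rep, P.1.rep_nonzero⟩, (Projectivization.mk_rep P.1).symm⟩
    obtain ⟨c, hc⟩ := Projectivization.exists_smul_eq_mk_rep F _ (su_mulVec_ne_zero g P.1.rep_nonzero)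
    rw [show actP g P.1 = Projectivization.mk F (suMat g *ᵥ P.1.rep)
        (su_mulVec_ne_zero g P.1.rep_nonzero) by
      conv_lhs => rw [← Projectivization.mk_rep P.1]
      rw [actP_mk], ← hc, Units.smul_def, ← Matrix.mulVec_smul, su_preserves, herm_smul_left]
    have h2 : Cfsg.hermForm n F q P.1.rep ((c : F) • P.1.rep) =
        (c : F) ^ q * Cfsg.hermForm n F q P.1.rep P.1.rep := by
      simp [Cfsg.hermForm, mul_pow, Finset.mul_sum, mul_left_comm]
    rw [h2, P.2, mul_zero, mul_zero]⟩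
  one_smul P := Subtype.ext (by
    change actP 1 P.1 = P.1
    induction P.1 using Projectivization.ind with | _ v hv =>
    simp [actP_mk, suMat_one])
  mul_smul g h P := Subtype.ext (by
    change actP (g * h) P.1 = actP g (actP h P.1)
    induction P.1 using Projectivization.ind with | _ v hv =>
    simp [actP_mk, suMat_mul, Matrix.mulVec_mulVec])

/-- The point of an isotropic vector. -/
def pt (hF : Nat.card F = q ^ 2) (v : Fin n → F) (hv : v ≠ 0)
    (h0 : Cfsg.hermForm n F q v v = 0) : IsoPt n F q :=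
  ⟨Projectivization.mk F v hv, (mk_isotropic_iff hF hv).mpr h0⟩

theorem smul_pt (hF : Nat.card F = q ^ 2) (g : Cfsg.SU n F q) {v : Fin n → F} (hv : v ≠ 0)
    (h0 : Cfsg.hermForm n F q v v = 0) :
    g • pt hF v hv h0 =
      pt hF (suMat g *ᵥ v) (su_mulVec_ne_zero g hv) (by rw [su_preserves, h0]) :=
  Subtype.ext (actP_mk g hv)

include hF in
theorem exists_pt (P : IsoPt n F q) :
    ∃ (v : Fin n → F) (hv : v ≠ 0) (h0 : Cfsg.hermForm n F q v v = 0), P = pt hF v hv h0 :=
  ⟨P.1.rep, P.1.rep_nonzero, P.2, Subtype.ext (Projectivization.mk_rep P.1).symm⟩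

theorem pt_eq_iff (hF : Nat.card F = q ^ 2) {u v : Fin n → F} {hu : u ≠ 0} {hv : v ≠ 0}
    {hu0 : Cfsg.hermForm n F q u u = 0} {hv0 : Cfsg.hermForm n F q v v = 0} :
    pt hF u hu hu0 = pt hF v hv hv0 ↔ ∃ a : F, a • v = u := by
  rw [← Projectivization.mk_eq_mk_iff' F u v hu hv]
  exact Subtype.ext_iff

include hF in
theorem isPretransitive : MulAction.IsPretransitive (Cfsg.SU n F q) (IsoPt n F q) := by
  constructor
  intro P Q
  obtain ⟨u, hu, hu0, rfl⟩ := exists_pt hF P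
  obtain ⟨v, hv, hv0, rfl⟩ := exists_pt hF Q
  obtain ⟨g, hg⟩ := exists_GU_family hF (fun _ : Fin 1 => u) (fun _ => v)
    (linearIndependent_unique_iff.mpr hu) (linearIndependent_unique_iff.mpr hv)
    (fun _ _ => by rw [hu0, hv0])
  obtain ⟨u', -, huu', -, hu'⟩ := exists_partner hF (H := ⊥) (x := u) (by simpa using hu) hu0
    (fun w hw => by rw [(Submodule.mem_bot F).mp hw]; simp [Cfsg.hermForm])
  obtain ⟨s, a, -, -, -, hs, -⟩ := exists_SU_adjust hF g hu0 hu' huu'
  refine ⟨s, ?_⟩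
  rw [smul_pt, pt_eq_iff]
  exact ⟨a, by rw [hs, hg 0]⟩

include hF in
theorem isPreprimitive : MulAction.IsPreprimitive (Cfsg.SU n F q) (IsoPt n F q) := by
  haveI := isPretransitive (n := n) hF
  have hq := two_le_q hF
  constructor
  intro B hB
  by_contra hne
  rw [MulAction.IsTrivialBlock, not_or, Set.not_subsingleton_iff] at hne
  obtain ⟨⟨P, hP, Q, hQ, hPQ⟩, huniv⟩ := hne
  have hfix : ∀ (g : Cfsg.SU n F q) (X : IsoPt n F q), X ∈ B → g • X ∈ B → ∀ Y ∈ B, g • Y ∈ B := by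
    intro g X hX hgX Y hY
    rw [← hB.smul_eq_of_mem hX hgX]
    exact Set.smul_mem_smul_set hY
  have hz : ∀ {x y : Fin n → F}, Cfsg.hermForm n F q x y = 0 ↔ Cfsg.hermForm n F q y x = 0 :=
    (uForm hF n).eq_zero_comm
  have hnon : ∀ u v (hu : u ≠ 0) (hv : v ≠ 0) (hu0 : Cfsg.hermForm n F q u u = 0)
      (hv0 : Cfsg.hermForm n F q v v = 0), Cfsg.hermForm n F q u v ≠ 0 →
      pt hF u hu hu0 ∈ B → pt hF v hv hv0 ∈ B → ∀ w (hw : w ≠ 0)
      (hw0 : Cfsg.hermForm n F q w w = 0), Cfsg.hermForm n F q u w ≠ 0 → pt hF w hw hw0 ∈ B := by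
    intro u v hu hv hu0 hv0 huv hUB hVB w hw hw0 huw
    obtain ⟨s, ⟨a, hsu⟩, b, hsv⟩ := exists_SU_nonorth hF hu0 hv0 hw0 huv huw
    have e1 : s • pt hF u hu hu0 = pt hF u hu hu0 := by
      rw [smul_pt, pt_eq_iff]; exact ⟨a, hsu.symm⟩
    have e2 : s • pt hF v hv hv0 = pt hF w hw hw0 := by
      rw [smul_pt, pt_eq_iff]; exact ⟨b, hsv.symm⟩
    rw [← e2]
    exact hfix s _ hUB (by rw [e1]; exact hUB) _ hVB
  obtain ⟨u, v, hu, hv, hu0, hv0, huv, hUB, hVB⟩ : ∃ u v, ∃ (hu : u ≠ 0) (hv : v ≠ 0)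
      (hu0 : Cfsg.hermForm n F q u u = 0) (hv0 : Cfsg.hermForm n F q v v = 0),
      Cfsg.hermForm n F q u v ≠ 0 ∧ pt hF u hu hu0 ∈ B ∧ pt hF v hv hv0 ∈ B := by
    obtain ⟨p, hp, hp0, rfl⟩ := exists_pt hF P
    obtain ⟨r, hr, hr0, rfl⟩ := exists_pt hF Q
    by_cases hpr : Cfsg.hermForm n F q p r = 0
    swap
    · exact ⟨p, r, hp, hr, hp0, hr0, hpr, hP, hQ⟩
    have hind : ∀ c : F, c • p ≠ r := fun c e => hPQ ((pt_eq_iff hF).mpr ⟨c, e⟩).symm
    obtain ⟨a, hpa, hra, -, haa⟩ := exists_partner hF (H := Submodule.span F {p}) (x := r)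
      (fun hm => by
        obtain ⟨c, hc⟩ := Submodule.mem_span_singleton.mp hm
        exact hind c hc)
      hr0 (fun w hw => by
        obtain ⟨c, rfl⟩ := Submodule.mem_span_singleton.mp hw
        rw [herm_smul_left, hpr, mul_zero])
    have hpa' := hpa p (Submodule.mem_span_singleton_self p)
    have ha : a ≠ 0 := by rintro rfl; simp [Cfsg.hermForm, show q ≠ 0 by omega] at hra
    obtain ⟨s, ⟨c, hsp⟩, hsr⟩ := exists_SU_orth hF hp0 hr0 haa hpr hpa' hp hind (fun c e => by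
      rw [← e, herm_smul_right hF, hz.mp hpr, mul_zero] at hra
      exact zero_ne_one hra)
    have e1 : s • pt hF p hp hp0 = pt hF p hp hp0 := by
      rw [smul_pt, pt_eq_iff]; exact ⟨c, hsp.symm⟩
    have e2 : s • pt hF r hr hr0 = pt hF a ha haa := by
      rw [smul_pt, pt_eq_iff]; exact ⟨1, by rw [hsr, one_smul]⟩
    refine ⟨r, a, hr, ha, hr0, haa, by rw [hra]; exact one_ne_zero, hQ, ?_⟩
    rw [← e2]
    exact hfix s _ hP (by rw [e1]; exact hP) _ hQ
  apply huniv
  rw [Set.eq_univ_iff_forall]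
  intro W
  obtain ⟨w, hw, hw0, rfl⟩ := exists_pt hF W
  by_cases huw : Cfsg.hermForm n F q u w = 0
  swap
  · exact hnon u v hu hv hu0 hv0 huv hUB hVB w hw hw0 huw
  obtain ⟨x, hx0, hux, hwx⟩ : ∃ x, Cfsg.hermForm n F q x x = 0 ∧
      Cfsg.hermForm n F q u x ≠ 0 ∧ Cfsg.hermForm n F q w x ≠ 0 := by
    by_cases hdep : ∃ c : F, c • u = w
    · obtain ⟨c, rfl⟩ := hdep
      exact ⟨v, hv0, huv, by
        rw [herm_smul_left]
        exact mul_ne_zero (fun e => hw (by rw [e, zero_smul])) huv⟩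
    push Not at hdep
    have hwu : ∀ c : F, c • w ≠ u := fun c e => by
      rcases eq_or_ne c 0 with rfl | hc
      · exact hu (by simpa using e.symm)
      · exact hdep c⁻¹ (by rw [← e, smul_smul, inv_mul_cancel₀ hc, one_smul])
    obtain ⟨y1, hy1, hwy1⟩ := (uForm hF n).exists_perp_one (uForm_nondeg hF n)
      (U := Submodule.span F {u}) (x := w) (fun hm => by
        obtain ⟨c, hc⟩ := Submodule.mem_span_singleton.mp hm; exact hdep c hc)
    obtain ⟨y2, hy2, huy2⟩ := (uForm hF n).exists_perp_one (uForm_nondeg hF n)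
      (U := Submodule.span F {w}) (x := u) (fun hm => by
        obtain ⟨c, hc⟩ := Submodule.mem_span_singleton.mp hm; exact hwu c hc)
    simp only [uForm_h] at hy1 hwy1 hy2 huy2
    have a1 := hy1 u (Submodule.mem_span_singleton_self u)
    have a2 := hy2 w (Submodule.mem_span_singleton_self w)
    obtain ⟨t, ht⟩ := exists_trace_eq hF (herm_self_fixed hF (y1 + y2))
    refine ⟨y1 + y2 - t • u, ?_, ?_, ?_⟩
    · have e1 : Cfsg.hermForm n F q u (y1 + y2) = 1 := by
        rw [herm_add_right hF, a1, huy2, zero_add]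
      have e2 : Cfsg.hermForm n F q (y1 + y2) u = 1 := by
        rw [herm_swap hF u (y1 + y2), e1, one_pow]
      rw [herm_sub_left hF, herm_smul_left, herm_sub_right hF, herm_sub_right hF,
        herm_smul_right hF, herm_smul_right hF, e1, e2, hu0]
      linear_combination -ht
    · rw [herm_sub_right hF, herm_add_right hF, herm_smul_right hF, a1, huy2, hu0]; simp
    · rw [herm_sub_right hF, herm_add_right hF, herm_smul_right hF, a2, hwy1, hz.mp huw]; simp
  have hx : x ≠ 0 := by rintro rfl; simp [Cfsg.hermForm, show q ≠ 0 by omega] at hux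
  exact hnon x u hx hu hx0 hu0 (fun e => hux (hz.mp e))
    (hnon u v hu hv hu0 hv0 huv hUB hVB x hx hx0 hux) hUB w hw hw0 (fun e => hwx (hz.mp e))

include hF in
theorem fix_all_mem_center (hn : 2 ≤ n) {g : Cfsg.SU n F q}
    (h : ∀ P : IsoPt n F q, g • P = P) : g ∈ Subgroup.center (Cfsg.SU n F q) := by
  refine (mem_center_SU_iff hF hn).mpr (eq_scalar_of_eigen hF hn fun v hv => ?_)
  rcases eq_or_ne v 0 with rfl | h0
  · exact ⟨0, by simp⟩
  obtain ⟨a, ha⟩ := (pt_eq_iff hF).mp ((smul_pt hF g h0 hv).symm.trans (h (pt hF v h0 hv)))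
  exact ⟨a, ha.symm⟩

theorem utv_conj (g : Cfsg.SU n F q) {A : Cfsg.SU n F q} {v : Fin n → F} {c : F}
    (hA : suMat A = Cfsg.unitaryTransvection n q v c) :
    suMat (g * A * g⁻¹) = Cfsg.unitaryTransvection n q (suMat g *ᵥ v) c := by
  refine Matrix.ext_iff_smul.mpr fun x => ?_
  have hx : x = suMat g *ᵥ (suMat g⁻¹ *ᵥ x) := by
    simpa using (su_inv_mulVec g⁻¹ x).symm
  rw [Matrix.smul_eq_mulVec, Matrix.smul_eq_mulVec, suMat_mul, suMat_mul, ← Matrix.mulVec_mulVec,
    ← Matrix.mulVec_mulVec, hA, utv_mulVec, utv_mulVec, Matrix.mulVec_add, Matrix.mulVec_smul]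
  conv_rhs => rw [hx]
  have hp : ∀ y z, Cfsg.hermForm n F q (suMat g *ᵥ y) (suMat g *ᵥ z) = Cfsg.hermForm n F q y z :=
    fun y z => g.2 y z
  rw [hp]

theorem utv_smul (hF : Nat.card F = q ^ 2) (a : F) (v : Fin n → F) (c : F) :
    Cfsg.unitaryTransvection n q (a • v) c =
      Cfsg.unitaryTransvection n q v (c * a ^ (q + 1)) := by
  refine Matrix.ext_iff_smul.mpr fun x => ?_
  rw [Matrix.smul_eq_mulVec, Matrix.smul_eq_mulVec, utv_mulVec, utv_mulVec, herm_smul_right hF,
    smul_smul, pow_succ]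
  congr 2; ring

/-- Transvections centred at a point. -/
def tvAt (hF : Nat.card F = q ^ 2) (P : IsoPt n F q) : Subgroup (Cfsg.SU n F q) where
  carrier := {A | ∃ c, suMat A = Cfsg.unitaryTransvection n q P.1.rep c}
  mul_mem' := by
    rintro A B ⟨c, hc⟩ ⟨d, hd⟩
    refine ⟨c + d, ?_⟩
    refine Matrix.ext_iff_smul.mpr fun x => ?_
    rw [Matrix.smul_eq_mulVec, Matrix.smul_eq_mulVec, suMat_mul, ← Matrix.mulVec_mulVec, hc, hd,
      utv_mulVec, utv_mulVec, utv_mulVec, herm_add_left, herm_smul_left, P.2]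
    module
  one_mem' := ⟨0, by rw [suMat_one]; simp [Cfsg.unitaryTransvection]⟩
  inv_mem' := by
    rintro A ⟨c, hc⟩
    refine ⟨-c, Matrix.ext_iff_smul.mpr fun x => ?_⟩
    rw [Matrix.smul_eq_mulVec, Matrix.smul_eq_mulVec, utv_mulVec]
    have h1 : suMat A *ᵥ (x + (-c * Cfsg.hermForm n F q x P.1.rep) • P.1.rep) = x := by
      rw [hc, utv_mulVec, herm_add_left, herm_smul_left, P.2]
      module
    conv_lhs => rw [← h1]
    rw [su_inv_mulVec]

/-- The Iwasawa structure. -/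
noncomputable def suIwasawa (hF : Nat.card F = q ^ 2) (hn : 1 ≤ n) (h32 : ¬ (n = 3 ∧ q = 2)) :
    MulAction.IwasawaStructure (Cfsg.SU n F q) (IsoPt n F q) where
  T P := tvAt hF P
  is_comm P := ⟨⟨fun ⟨A, c, hc⟩ ⟨B, d, hd⟩ => Subtype.ext (su_ext fun x => by
    change suMat (A * B) *ᵥ x = suMat (B * A) *ᵥ x
    simp only [suMat_mul, ← Matrix.mulVec_mulVec, hc, hd, utv_mulVec, herm_add_left,
      herm_smul_left, P.2]
    module)⟩⟩
  is_conj g P := by
    obtain ⟨a, ha⟩ : ∃ a : Fˣ, a • (suMat g *ᵥ P.1.rep) = (g • P).1.rep := by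
      have e : (g • P).1 = Projectivization.mk F (suMat g *ᵥ P.1.rep)
          (su_mulVec_ne_zero g P.1.rep_nonzero) := by
        change actP g P.1 = _
        conv_lhs => rw [← Projectivization.mk_rep P.1]
        rw [actP_mk]
      rw [e]
      exact Projectivization.exists_smul_eq_mk_rep F _ _
    ext A
    rw [Subgroup.mem_pointwise_smul_iff_inv_smul_mem]
    simp only [MulAut.smul_def, MulAut.inv_apply, MulAut.conj_symm_apply]
    constructor
    · rintro ⟨c, hc⟩
      refine ⟨c * (a : F) ^ (q + 1), ?_⟩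
      rw [← ha, Units.smul_def, utv_smul hF] at hc
      have := utv_conj g⁻¹ hc
      rw [inv_inv, su_inv_mulVec] at this
      exact this
    · rintro ⟨c, hc⟩
      refine ⟨c * ((a : F) ^ (q + 1))⁻¹, ?_⟩
      have := utv_conj g hc
      rw [show g * (g⁻¹ * A * g) * g⁻¹ = A by group] at this
      rw [← ha, Units.smul_def, utv_smul hF, mul_assoc, inv_mul_cancel₀ (by simp), mul_one]
      exact this
  is_generator := by
    rw [eq_top_iff, ← tvGroup_eq_top hF hn h32]
    refine (Subgroup.closure_le _).mpr ?_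
    rintro A ⟨v, c, hv, hA⟩
    rcases eq_or_ne v 0 with rfl | h0
    · have : A = 1 := su_ext fun x => by rw [hA, suMat_one, utv_mulVec]; simp
      rw [this]; exact one_mem _
    obtain ⟨a, ha⟩ := Projectivization.exists_smul_eq_mk_rep F v h0
    refine Subgroup.mem_iSup_of_mem (pt hF v h0 hv) ⟨c * ((a : F) ^ (q + 1))⁻¹, ?_⟩
    rw [hA, show (pt hF v h0 hv).1.rep = (Projectivization.mk F v h0).rep from rfl, ← ha,
      Units.smul_def, utv_smul hF, mul_assoc, inv_mul_cancel₀ (by simp), mul_one]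

include hF in
theorem isSimpleGroup_PSU (hn : 3 ≤ n) (h32 : ¬ (n = 3 ∧ q = 2)) :
    IsSimpleGroup (Cfsg.PSU n F q) := by
  haveI := isPreprimitive (n := n) hF
  have hperf := commutator_SU_eq_top hF hn h32
  have hN : ∀ N : Subgroup (Cfsg.SU n F q), N.Normal → N ≤ Subgroup.center _ ∨ N = ⊤ := by
    intro N hN
    rw [or_iff_not_imp_left]
    intro hle
    refine eq_top_iff.mpr (hperf.symm.le.trans
      ((suIwasawa hF (by omega) h32).commutator_le N fun hfp => hle fun m hm =>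
        fix_all_mem_center hF (by omega) fun P => ?_))
    exact Set.eq_univ_iff_forall.mp hfp P ⟨m, hm⟩
  haveI : Nontrivial (Cfsg.PSU n F q) := by
    by_contra hnt
    rw [not_nontrivial_iff_subsingleton] at hnt
    have htop : Subgroup.center (Cfsg.SU n F q) = ⊤ :=
      QuotientGroup.subsingleton_iff.mp hnt
    have hbot : commutator (Cfsg.SU n F q) = ⊥ := by
      rw [_root_.commutator_def, Subgroup.commutator_eq_bot_iff_le_centralizer,
        Subgroup.coe_top, Subgroup.centralizer_univ, htop]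
    rw [hperf] at hbot
    haveI : Subsingleton (Cfsg.SU n F q) := Subgroup.subsingleton_iff.mp
      (subsingleton_of_top_le_bot (by rw [hbot])) 
    have h1 := card_center_SU hF (n := n) (by omega)
    have h2 := card_SU_mul hF (n := n) (by omega)
    rw [Nat.card_of_subsingleton 1, mul_one, card_GU hF] at h2
    have h3 : q ^ (n * (n - 1) / 2) ∣ q + 1 := Dvd.intro _ h2.symm
    have hq := two_le_q hF
    have h4 : 3 ≤ n * (n - 1) / 2 := by
      rw [Nat.le_div_iff_mul_le two_pos]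
      calc 3 * 2 ≤ 3 * (3 - 1) := le_rfl
        _ ≤ n * (n - 1) := Nat.mul_le_mul hn (by omega)
    have h5 := (Nat.pow_le_pow_right (by omega : 0 < q) h4).trans (Nat.le_of_dvd (by omega) h3)
    nlinarith
  refine ⟨fun K hK => ?_⟩
  rcases hN (K.comap (QuotientGroup.mk' _)) inferInstance with h1 | h1
  · left
    rw [eq_bot_iff]
    intro x hx
    obtain ⟨g, rfl⟩ := QuotientGroup.mk_surjective x
    rw [Subgroup.mem_bot, QuotientGroup.eq_one_iff]
    exact h1 hx
  · right
    rw [← Subgroup.map_comap_eq_self_of_surjective (QuotientGroup.mk'_surjective _) K, h1,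
      Subgroup.map_top_of_surjective _ (QuotientGroup.mk'_surjective _)]

end CfsgLib.Unitary
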