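import Cfsg.Agent.Unitary.Basic
import Cfsg.Prelude.Def_ClassicalGeometry
import Cfsg.Agent.Classical.LinearOrder
import Mathlib.LinearAlgebra.Center

/-!
Determinants, SU, PSU: orders and centres. Unitary transvections.
-/

set_option autoImplicit false
set_option linter.style.haveILetI false

namespace CfsgLib.Unitary

open Matrix CfsgLib.Forms

variable {F : Type*} [Field F] [Finite F] {q : ℕ} (hF : Nat.card F = q ^ 2)

include hF in
theorem det_GU {n : ℕ} {g : Matrix.GeneralLinearGroup (Fin n) F} (hg : g ∈ Cfsg.GU n F q) :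
    (Matrix.GeneralLinearGroup.det g) ^ (q + 1) = 1 := by
  set M := (g : Matrix (Fin n) (Fin n) F) with hM
  have h1 : M.transpose * M.map (frobQ hF) = 1 := by
    ext i j
    have h := mem_GU_iff.mp hg (Pi.single i 1) (Pi.single j 1)
    rw [herm_single_left] at h
    simp only [Matrix.mul_apply, Matrix.transpose_apply, Matrix.map_apply, Matrix.one_apply,
      frobQ_apply]
    refine Eq.trans ?_ (h.trans ?_)
    · simp [Cfsg.hermForm, hM]
    · by_cases e : i = j
      · subst e; simp
      · simp [e, zero_pow (show q ≠ 0 by have := two_le_q hF; omega)]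
  have h2 := congrArg Matrix.det h1
  rw [Matrix.det_mul, Matrix.det_transpose, ← RingHom.mapMatrix_apply, ← RingHom.map_det,
    Matrix.det_one, frobQ_apply, ← pow_succ'] at h2
  exact Units.ext (by rw [Units.val_pow_eq_pow_val, Units.val_one]; exact h2)

/-- Diagonal element with `lam` in the first place. -/
noncomputable def diagFirst {n : ℕ} (lam : Fˣ) (h : lam ^ (q + 1) = 1) : Cfsg.GU (n + 1) F q :=
  ⟨⟨Matrix.diagonal (Fin.cons (lam : F) fun _ => 1),
    Matrix.diagonal (Fin.cons ((lam⁻¹ : Fˣ) : F) fun _ => 1),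
    by rw [Matrix.diagonal_mul_diagonal, ← Matrix.diagonal_one]; congr 1; funext i
       induction i using Fin.cases <;> simp,
    by rw [Matrix.diagonal_mul_diagonal, ← Matrix.diagonal_one]; congr 1; funext i
       induction i using Fin.cases <;> simp⟩, mem_GU_iff.mpr fun u v => by
    simp only [Cfsg.hermForm, Matrix.mulVec_diagonal]
    refine Finset.sum_congr rfl fun i _ => ?_
    induction i using Fin.cases with
    | zero =>
      have : (lam : F) * (lam : F) ^ q = 1 := by
        rw [← pow_succ', ← Units.val_pow_eq_pow_val, h, Units.val_one]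
      simp only [Fin.cons_zero, mul_pow]
      linear_combination (u 0 * v 0 ^ q) * this
    | succ i => simp⟩

omit [Finite F] in
theorem det_diagFirst {n : ℕ} (lam : Fˣ) (h : lam ^ (q + 1) = 1) :
    Matrix.GeneralLinearGroup.det (diagFirst (n := n) lam h).1 = lam := by
  refine Units.ext ?_
  simp [diagFirst, Matrix.det_diagonal, Fin.prod_univ_succ]

/-- The determinant on GU. -/
noncomputable def detGU (n : ℕ) : Cfsg.GU n F q →* Fˣ :=
  Matrix.GeneralLinearGroup.det.comp (Cfsg.GU n F q).subtype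

include hF in
theorem range_detGU {n : ℕ} :
    (detGU (F := F) (q := q) (n + 1)).range = (powMonoidHom (q + 1) : Fˣ →* Fˣ).ker := by
  ext u
  constructor
  · rintro ⟨g, rfl⟩; exact det_GU hF g.2
  · intro hu; exact ⟨diagFirst u hu, det_diagFirst u hu⟩

/-- SU as the kernel of the determinant on GU. -/
noncomputable def suEquiv (n : ℕ) : Cfsg.SU n F q ≃* (detGU (F := F) (q := q) n).ker where
  toFun g := ⟨⟨Matrix.SpecialLinearGroup.toGL g.1, g.2⟩, Units.ext g.1.2⟩
  invFun g := ⟨⟨(g.1.1 : Matrix (Fin n) (Fin n) F), by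
      have := congrArg Units.val (MonoidHom.mem_ker.mp g.2); simpa [detGU] using this⟩, g.1.2⟩
  left_inv g := rfl
  right_inv g := Subtype.ext (Subtype.ext (Units.ext rfl))
  map_mul' g h := Subtype.ext (Subtype.ext (map_mul _ _ _))

include hF in
theorem card_SU_mul {n : ℕ} (hn : 1 ≤ n) :
    (q + 1) * Nat.card (Cfsg.SU n F q) = Nat.card (Cfsg.GU n F q) := by
  obtain ⟨m, rfl⟩ : ∃ m, n = m + 1 := Nat.exists_eq_succ_of_ne_zero (by omega)
  rw [Nat.card_congr (suEquiv (F := F) (q := q) (m + 1)).toEquiv,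
    ← Subgroup.card_mul_index (detGU (F := F) (q := q) (m + 1)).ker, Subgroup.index_ker,
    range_detGU hF, IsCyclic.card_powMonoidHom_ker, card_units_eq hF, Nat.gcd_mul_right_left,
    mul_comm]

/-! Transvections and centralisers -/

theorem utv_mulVec {n : ℕ} (v : Fin n → F) (c : F) (x : Fin n → F) :
    Cfsg.unitaryTransvection n q v c *ᵥ x = x + (c * Cfsg.hermForm n F q x v) • v := by
  rw [Cfsg.unitaryTransvection, Matrix.add_mulVec, Matrix.one_mulVec, Matrix.smul_mulVec,
    Matrix.vecMulVec_mulVec, op_smul_eq_smul, smul_smul]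
  congr 2
  simp [dotProduct, Cfsg.hermForm, mul_comm]

include hF in
theorem utv_preserves_iff {n : ℕ} {v : Fin n → F} (hv : v ≠ 0)
    (hv0 : Cfsg.hermForm n F q v v = 0) (c : F) :
    (∀ x y : Fin n → F, Cfsg.hermForm n F q (Cfsg.unitaryTransvection n q v c *ᵥ x)
      (Cfsg.unitaryTransvection n q v c *ᵥ y) = Cfsg.hermForm n F q x y) ↔ c + c ^ q = 0 := by
  have key : ∀ x y, Cfsg.hermForm n F q (Cfsg.unitaryTransvection n q v c *ᵥ x)
      (Cfsg.unitaryTransvection n q v c *ᵥ y) =
      Cfsg.hermForm n F q x y +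
        (c + c ^ q) * (Cfsg.hermForm n F q x v * Cfsg.hermForm n F q v y) := by
    intro x y
    rw [utv_mulVec, utv_mulVec]
    have Φadd := (uForm hF n).add_right
    have Φsmul := (uForm hF n).smul_right
    have hs := (uForm hF n).σ_h y v
    simp only [uForm_h, uForm_σ] at Φadd Φsmul hs
    rw [show (uForm hF n).ε = 1 from rfl, inv_one, one_mul] at hs
    simp only [Φadd, Φsmul, herm_add_left, herm_smul_left, hv0, mul_pow, hs]
    ring
  constructor
  · intro h
    obtain ⟨u, hu⟩ : ∃ u, Cfsg.hermForm n F q u v ≠ 0 := by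
      by_contra hc; push Not at hc; exact hv (uForm_nondeg hF n v hc)
    have hu' : Cfsg.hermForm n F q v u ≠ 0 := fun e => hu ((uForm hF n).eq_zero_comm.mp e)
    have := (key u u).symm.trans (h u u)
    exact (mul_eq_zero.mp (by linear_combination this :
      (c + c ^ q) * (Cfsg.hermForm n F q u v * Cfsg.hermForm n F q v u) = 0)).resolve_right
      (mul_ne_zero hu hu')
  · intro hc x y
    rw [key, hc, zero_mul, add_zero]

include hF in
theorem trace_zero_iff (c : F) : c + c ^ q = 0 ↔ c = 0 ∨ c ^ (q - 1) = -1 := by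
  have hq := two_le_q hF
  have e : c ^ q = c * c ^ (q - 1) := by rw [← pow_succ', Nat.sub_add_cancel (by omega)]
  rw [e, ← mul_one_add, mul_eq_zero]
  exact or_congr_right ⟨fun h => by linear_combination h, fun h => by linear_combination h⟩

omit [Finite F] in
theorem det_utv {n : ℕ} (v : Fin n → F) (c : F) :
    (Cfsg.unitaryTransvection n q v c).det = 1 + c * Cfsg.hermForm n F q v v := by
  rw [Cfsg.unitaryTransvection, ← Matrix.vecMulVec_smul, Matrix.vecMulVec_eq (Fin 1),
    Matrix.det_one_add_replicateCol_mul_replicateRow, smul_dotProduct, smul_eq_mul]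
  simp [Cfsg.hermForm, dotProduct, mul_comm]

/-- A transvection as an element of SU. -/
noncomputable def suTv (n : ℕ) (v : Fin n → F) (c : F) (hv0 : Cfsg.hermForm n F q v v = 0)
    (hc : c + c ^ q = 0) (hF : Nat.card F = q ^ 2) : Cfsg.SU n F q :=
  ⟨⟨Cfsg.unitaryTransvection n q v c, by rw [det_utv, hv0, mul_zero, add_zero]⟩, by
    intro x y
    by_cases hv : v = 0
    · subst hv
      change Cfsg.hermForm n F q (Cfsg.unitaryTransvection n q 0 c *ᵥ x)
        (Cfsg.unitaryTransvection n q 0 c *ᵥ y) = _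
      rw [utv_mulVec, utv_mulVec]; simp
    · exact (utv_preserves_iff hF hv hv0 c).mpr hc x y⟩

omit [Finite F] in
theorem herm_single_single {n : ℕ} (i : Fin n) (a b : F) :
    Cfsg.hermForm n F q (Pi.single i a) (Pi.single i b) = a * b ^ q := by
  rw [Cfsg.hermForm, Finset.sum_eq_single i]
  · simp
  · intro j _ hj; simp [Pi.single_eq_of_ne hj]
  · simp

include hF in
/-- A matrix of which every isotropic vector is an eigenvector is scalar. -/
theorem eq_scalar_of_eigen {n : ℕ} (hn : 2 ≤ n) {M : Matrix (Fin n) (Fin n) F}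
    (heig : ∀ v, Cfsg.hermForm n F q v v = 0 → ∃ a : F, M *ᵥ v = a • v) :
    ∃ a : F, M = a • 1 := by
  haveI := Fintype.ofFinite F
  classical
  -- three isotropic lines in each coordinate plane
  have hpair : ∀ i j : Fin n, i ≠ j →
      ∃ a : F, M *ᵥ Pi.single i 1 = a • Pi.single i 1 ∧ M *ᵥ Pi.single j 1 = a • Pi.single j 1 := by
    intro i j hij
    have hiso : ∀ l : F, l ^ (q + 1) = -1 →
        Cfsg.hermForm n F q (Pi.single i 1 + Pi.single j l) (Pi.single i 1 + Pi.single j l) = 0 := by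
      intro l hl
      have hq0 : q ≠ 0 := by have := two_le_q hF; omega
      have Φadd := (uForm hF n).add_right
      simp only [uForm_h] at Φadd
      have h1 : Cfsg.hermForm n F q (Pi.single i 1) (Pi.single j l) = 0 := by
        rw [herm_single_left, Pi.single_eq_of_ne hij, zero_pow hq0]
      have h2 : Cfsg.hermForm n F q (Pi.single j l) (Pi.single i 1) = 0 :=
        (uForm hF n).eq_zero_comm.mp h1
      rw [herm_add_left, Φadd, Φadd, h1, h2, herm_single_single, herm_single_single, one_pow,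
        ← pow_succ', hl]
      ring
    have hm1 : (-1 : F) ^ q = -1 := by
      rw [← frobQ_apply hF, map_neg, map_one]
    have hcard := card_norm_fiber hF (μ := (-1 : F)) (neg_ne_zero.mpr one_ne_zero) hm1
    rw [Nat.card_eq_fintype_card] at hcard
    obtain ⟨x, y, z, hxy, hxz, hyz⟩ := Fintype.two_lt_card_iff.mp
      (show 2 < Fintype.card {x : F // x ^ (q + 1) = -1} by have := two_le_q hF; omega)
    obtain ⟨a, ha⟩ := heig _ (hiso x.1 x.2)
    obtain ⟨a', ha'⟩ := heig _ (hiso y.1 y.2)
    obtain ⟨a'', ha''⟩ := heig _ (hiso z.1 z.2)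
    set P := M *ᵥ Pi.single i 1
    set R := M *ᵥ Pi.single j 1
    have hsingle : ∀ l : F, (Pi.single j l : Fin n → F) = l • Pi.single j 1 := fun l => by
      ext k; simp [Pi.single_apply]
    rw [hsingle, Matrix.mulVec_add, Matrix.mulVec_smul] at ha ha' ha''
    -- coordinates
    have key : ∀ k, P k + x.1 * R k = a * ((Pi.single i 1 : Fin n → F) k + x.1 * (Pi.single j 1 : Fin n → F) k) ∧
        P k + y.1 * R k = a' * ((Pi.single i 1 : Fin n → F) k + y.1 * (Pi.single j 1 : Fin n → F) k) ∧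
        P k + z.1 * R k = a'' * ((Pi.single i 1 : Fin n → F) k + z.1 * (Pi.single j 1 : Fin n → F) k) :=
      fun k => ⟨congrFun ha k, congrFun ha' k, congrFun ha'' k⟩
    have hne : ∀ {u w : {x : F // x ^ (q + 1) = -1}}, u ≠ w → (u.1 - w.1) ≠ 0 := fun h =>
      sub_ne_zero.mpr fun e => h (Subtype.ext e)
    have hij' := key i
    have hji' := key j
    simp only [Pi.single_eq_same, Pi.single_eq_of_ne hij, Pi.single_eq_of_ne hij.symm, mul_zero,
      add_zero, zero_add, mul_one] at hij' hji'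
    obtain ⟨e1, e2, e3⟩ := hij'
    obtain ⟨f1, f2, f3⟩ := hji'
    -- the quadratic `R i t² + (P i - R j) t - P j` has three roots
    have g1 : R i * x.1 ^ 2 + (P i - R j) * x.1 - P j = 0 := by linear_combination x.1 * e1 - f1
    have g2 : R i * y.1 ^ 2 + (P i - R j) * y.1 - P j = 0 := by linear_combination y.1 * e2 - f2
    have g3 : R i * z.1 ^ 2 + (P i - R j) * z.1 - P j = 0 := by linear_combination z.1 * e3 - f3
    have k1 : R i * (x.1 + y.1) + (P i - R j) = 0 := mul_left_cancel₀ (hne hxy)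
      (by linear_combination g1 - g2)
    have k2 : R i * (x.1 + z.1) + (P i - R j) = 0 := mul_left_cancel₀ (hne hxz)
      (by linear_combination g1 - g3)
    have hRi : R i = 0 := mul_left_cancel₀ (hne hyz) (by linear_combination k1 - k2)
    have hPR : P i = R j := sub_eq_zero.mp (by linear_combination k1 - (x.1 + y.1) * hRi)
    have hPj : P j = 0 := by linear_combination x.1 ^ 2 * hRi + x.1 * hPR - g1
    have hout : ∀ k, k ≠ i → k ≠ j → P k = 0 ∧ R k = 0 := by
      intro k hki hkj
      obtain ⟨p1, p2, -⟩ := key k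
      simp only [Pi.single_eq_of_ne hki, Pi.single_eq_of_ne hkj, mul_zero, add_zero] at p1 p2
      have hR : R k = 0 := mul_left_cancel₀ (hne hxy) (by linear_combination p1 - p2)
      exact ⟨by linear_combination p1 - x.1 * hR, hR⟩
    refine ⟨P i, ?_, ?_⟩ <;> funext k
    · rcases eq_or_ne k i with rfl | hki
      · simp
      rcases eq_or_ne k j with rfl | hkj
      · simp [hPj, hij.symm]
      · simp [(hout k hki hkj).1, hki]
    · rcases eq_or_ne k j with rfl | hkj
      · simp [hPR]
      rcases eq_or_ne k i with rfl | hki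
      · simp [hRi, hij]
      · simp [(hout k hki hkj).2, hkj]
  obtain ⟨a, ha, -⟩ := hpair ⟨0, by omega⟩ ⟨1, by omega⟩ (by simp [Fin.ext_iff])
  refine ⟨a, Matrix.ext_of_mulVec_single fun k => ?_⟩
  rw [Matrix.smul_mulVec, Matrix.one_mulVec]
  rcases eq_or_ne k ⟨0, by omega⟩ with rfl | hk
  · exact ha
  obtain ⟨a', h1, h2⟩ := hpair ⟨0, by omega⟩ k (Ne.symm hk)
  have := congrFun (ha.symm.trans h1) ⟨0, by omega⟩
  simp only [Pi.smul_apply, Pi.single_eq_same, smul_eq_mul, mul_one] at this
  rw [h2, this]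

include hF in
/-- A matrix commuting with all transvections of SU is scalar. -/
theorem eq_scalar_of_commute_tv {n : ℕ} (hn : 2 ≤ n) {M : Matrix (Fin n) (Fin n) F}
    (hM : ∀ v c, Cfsg.hermForm n F q v v = 0 → c + c ^ q = 0 →
      M * Cfsg.unitaryTransvection n q v c = Cfsg.unitaryTransvection n q v c * M) :
    ∃ a : F, M = a • 1 := by
  haveI := Fintype.ofFinite F
  classical
  obtain ⟨b, hb⟩ : ∃ b, frobQ hF b ≠ b := by
    by_contra hc; push Not at hc; exact frobQ_ne_id hF (RingHom.ext hc)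
  set c0 := b - b ^ q with hc0
  have hc0ne : c0 ≠ 0 := sub_ne_zero.mpr (Ne.symm hb)
  have hc0t : c0 + c0 ^ q = 0 := by
    rw [hc0, show (b - b ^ q) ^ q = frobQ hF (b - frobQ hF b) from rfl, map_sub, frobQ_invol,
      frobQ_apply]
    ring
  -- isotropic vectors are eigenvectors
  have heig : ∀ v, Cfsg.hermForm n F q v v = 0 → ∃ a : F, M *ᵥ v = a • v := by
    intro v hv0
    rcases eq_or_ne v 0 with rfl | hv
    · exact ⟨0, by simp⟩
    obtain ⟨u, hu⟩ : ∃ u, Cfsg.hermForm n F q u v ≠ 0 := by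
      by_contra hc; push Not at hc; exact hv (uForm_nondeg hF n v hc)
    have h := congrArg (fun N => N *ᵥ u) (hM v c0 hv0 hc0t)
    simp only [← Matrix.mulVec_mulVec, utv_mulVec, Matrix.mulVec_add, Matrix.mulVec_smul,
      add_right_inj] at h
    refine ⟨(c0 * Cfsg.hermForm n F q u v)⁻¹ * (c0 * Cfsg.hermForm n F q (M *ᵥ u) v), ?_⟩
    rw [← smul_smul, ← h, smul_smul, inv_mul_cancel₀ (mul_ne_zero hc0ne hu), one_smul]
  exact eq_scalar_of_eigen hF hn heig

include hF in
theorem mem_center_SU_iff {n : ℕ} (hn : 2 ≤ n) {g : Cfsg.SU n F q} :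
    g ∈ Subgroup.center (Cfsg.SU n F q) ↔
      ∃ a : F, (g.1 : Matrix (Fin n) (Fin n) F) = a • 1 := by
  constructor
  · intro hg
    refine eq_scalar_of_commute_tv hF hn fun v c hv hc => ?_
    have h : ((suTv n v c hv hc hF * g : Cfsg.SU n F q) : Matrix.SpecialLinearGroup (Fin n) F) =
        ((g * suTv n v c hv hc hF : Cfsg.SU n F q) : Matrix.SpecialLinearGroup (Fin n) F) := by
      rw [Subgroup.mem_center_iff.mp hg]
    exact (congrArg Subtype.val h).symm
  · rintro ⟨a, ha⟩
    rw [Subgroup.mem_center_iff]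
    intro h
    refine Subtype.ext (Subtype.ext ?_)
    simp [ha]

include hF in
theorem card_center_SU {n : ℕ} (hn : 2 ≤ n) :
    Nat.card (Subgroup.center (Cfsg.SU n F q)) = Nat.gcd n (q + 1) := by
  set H : Subgroup Fˣ := (powMonoidHom (Nat.gcd n (q + 1)) : Fˣ →* Fˣ).ker with hH
  have hHc : Nat.card H = Nat.gcd n (q + 1) := by
    rw [hH, IsCyclic.card_powMonoidHom_ker, card_units_eq hF,
      Nat.gcd_eq_right (Dvd.dvd.mul_right (Nat.gcd_dvd_right n (q + 1)) _)]
  have hdiv : ∀ u ∈ H, ∀ d, Nat.gcd n (q + 1) ∣ d → u ^ d = 1 := by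
    intro u hu d ⟨k, hk⟩
    rw [hk, pow_mul, show u ^ Nat.gcd n (q + 1) = 1 from hu, one_pow]
  let i0 : Fin n := ⟨0, by omega⟩
  let f : H → Subgroup.center (Cfsg.SU n F q) := fun u =>
    ⟨⟨⟨(u.1 : F) • 1, by
        rw [Matrix.det_smul, Matrix.det_one, Fintype.card_fin, mul_one, ← Units.val_pow_eq_pow_val,
          hdiv _ u.2 _ (Nat.gcd_dvd_left _ _), Units.val_one]⟩, by
      intro x y
      change Cfsg.hermForm n F q (((u.1 : F) • (1 : Matrix (Fin n) (Fin n) F)) *ᵥ x)
        (((u.1 : F) • (1 : Matrix (Fin n) (Fin n) F)) *ᵥ y) = _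
      have Φsmul := (uForm hF n).smul_right
      simp only [uForm_h, uForm_σ] at Φsmul
      rw [Matrix.smul_mulVec, Matrix.smul_mulVec, Matrix.one_mulVec, Matrix.one_mulVec,
        herm_smul_left, Φsmul, ← mul_assoc, ← pow_succ', ← Units.val_pow_eq_pow_val,
        hdiv _ u.2 _ (Nat.gcd_dvd_right _ _), Units.val_one, one_mul]⟩,
      (mem_center_SU_iff hF hn).mpr ⟨_, rfl⟩⟩
  have hinj : Function.Injective f := by
    intro u v e
    refine Subtype.ext (Units.ext ?_)
    have := congrArg (fun g : Subgroup.center (Cfsg.SU n F q) =>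
      (g.1.1 : Matrix (Fin n) (Fin n) F) i0 i0) e
    simpa [f] using this
  have hsurj : Function.Surjective f := by
    rintro ⟨g, hg⟩
    obtain ⟨a, ha⟩ := (mem_center_SU_iff hF hn).mp hg
    have hdet : a ^ n = 1 := by
      have := g.1.2
      rwa [ha, Matrix.det_smul, Matrix.det_one, Fintype.card_fin, mul_one] at this
    have ha0 : a ≠ 0 := by rintro rfl; rw [zero_pow (by omega)] at hdet; exact zero_ne_one hdet
    have hnorm : a ^ (q + 1) = 1 := by
      have h1 : Cfsg.hermForm n F q ((g.1 : Matrix (Fin n) (Fin n) F) *ᵥ Pi.single i0 1)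
          ((g.1 : Matrix (Fin n) (Fin n) F) *ᵥ Pi.single i0 1) =
          Cfsg.hermForm n F q (Pi.single i0 1) (Pi.single i0 1) := g.2 _ _
      rw [ha, Matrix.smul_mulVec, Matrix.one_mulVec, herm_smul_left, herm_single_left,
        herm_single_left] at h1
      simpa [pow_succ'] using h1
    refine ⟨⟨Units.mk0 a ha0, ?_⟩, Subtype.ext (Subtype.ext (Subtype.ext ha.symm))⟩
    rw [hH, MonoidHom.mem_ker, powMonoidHom_apply]
    exact pow_gcd_eq_one.mpr ⟨Units.ext (by simpa using hdet), Units.ext (by simpa using hnorm)⟩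
  rw [← hHc, Nat.card_congr (Equiv.ofBijective f ⟨hinj, hsurj⟩).symm]

include hF in
theorem card_PSU_mul {n : ℕ} (hn : 2 ≤ n) :
    Nat.gcd n (q + 1) * ((q + 1) * Nat.card (Cfsg.PSU n F q)) = Nat.card (Cfsg.GU n F q) := by
  rw [← card_SU_mul hF (n := n) (by omega),
    Subgroup.card_eq_card_quotient_mul_card_subgroup (Subgroup.center (Cfsg.SU n F q)),
    card_center_SU hF hn]
  ring

theorem exists_pow_eq_of_pow_eq_one {d k m : ℕ} (hN : d * k * m = Nat.card Fˣ) {u : Fˣ}
    (hu : u ^ k = 1) : ∃ w : Fˣ, w ^ d = u := by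
  obtain ⟨g, hg⟩ := IsCyclic.exists_generator (α := Fˣ)
  have hord : orderOf g = Nat.card Fˣ := orderOf_eq_card_of_forall_mem_zpowers hg
  obtain ⟨j, rfl⟩ := Subgroup.mem_zpowers_iff.mp (hg u)
  rw [← zpow_natCast, ← _root_.zpow_mul, ← orderOf_dvd_iff_zpow_eq_one, hord, ← hN] at hu
  obtain ⟨c, hc⟩ := hu
  have hk : (k : ℤ) ≠ 0 := by
    intro h
    have h0 : Nat.card Fˣ = 0 := by rw [← hN, show k = 0 by exact_mod_cast h]; simp
    exact Nat.card_pos.ne' h0
  refine ⟨g ^ ((m : ℤ) * c), ?_⟩
  rw [← zpow_natCast, ← _root_.zpow_mul]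
  congr 1
  apply mul_right_cancel₀ hk
  push_cast at hc
  linear_combination -hc

include hF in
theorem center_GU_scalar {n : ℕ} (hn : 2 ≤ n) {g : Cfsg.GU n F q}
    (hg : g ∈ Subgroup.center (Cfsg.GU n F q)) :
    ∃ a : F, ((g : Matrix.GeneralLinearGroup (Fin n) F) : Matrix (Fin n) (Fin n) F) = a • 1 := by
  refine eq_scalar_of_commute_tv hF hn fun v c hv hc => ?_
  let t : Cfsg.GU n F q :=
    ⟨Matrix.SpecialLinearGroup.toGL (suTv n v c hv hc hF).1, (suTv n v c hv hc hF).2⟩
  have h := congrArg (fun x : Cfsg.GU n F q =>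
    ((x : Matrix.GeneralLinearGroup (Fin n) F) : Matrix (Fin n) (Fin n) F))
    (Subgroup.mem_center_iff.mp hg t)
  exact h.symm

include hF in
theorem exists_hom_GU_zmod {n : ℕ} (hn : 2 ≤ n) :
    ∃ φ : Cfsg.GU n F q →* Multiplicative (ZMod (Nat.gcd n (q + 1))), Function.Surjective φ ∧
      φ.ker = (Matrix.GeneralLinearGroup.det : Matrix.GeneralLinearGroup (Fin n) F →* Fˣ).ker.subgroupOf
        (Cfsg.GU n F q) ⊔ Subgroup.center (Cfsg.GU n F q) := by
  haveI := Fintype.ofFinite F
  set d := Nat.gcd n (q + 1) with hd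
  obtain ⟨k, hk⟩ : d ∣ q + 1 := Nat.gcd_dvd_right _ _
  obtain ⟨n', hn'⟩ : d ∣ n := Nat.gcd_dvd_left _ _
  haveI : NeZero d := ⟨Nat.gcd_ne_zero_right (by omega)⟩
  let μ : Subgroup Fˣ := (powMonoidHom d : Fˣ →* Fˣ).ker
  have hμ : Nat.card μ = Nat.card (Multiplicative (ZMod d)) := by
    rw [IsCyclic.card_powMonoidHom_ker, card_units_eq hF, Nat.card_eq_fintype_card,
      Fintype.card_multiplicative, ZMod.card]
    exact Nat.gcd_eq_right ((Dvd.intro k hk.symm).trans (dvd_mul_right (q + 1) _))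
  let e : μ ≃* Multiplicative (ZMod d) := mulEquivOfCyclicCardEq hμ
  let f : Cfsg.GU n F q →* μ := ((powMonoidHom k).comp (detGU (F := F) (q := q) n)).codRestrict μ
    fun g => by
      change (detGU n g ^ k) ^ d = 1
      rw [← pow_mul, mul_comm, ← hk]; exact det_GU hF g.2
  refine ⟨e.toMonoidHom.comp f, e.surjective.comp ?_, ?_⟩
  · rintro ⟨u, hu⟩
    change u ^ d = 1 at hu
    obtain ⟨w, rfl⟩ := exists_pow_eq_of_pow_eq_one (d := k) (k := d) (m := q - 1)
      (by rw [card_units_eq hF, hk]; ring) hu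
    have hw0 : w ^ (q + 1) = 1 := by rw [hk, mul_comm, pow_mul]; exact hu
    obtain ⟨m, rfl⟩ : ∃ m, n = m + 1 := Nat.exists_eq_succ_of_ne_zero (by omega)
    exact ⟨diagFirst w hw0, Subtype.ext (by
      change (Matrix.GeneralLinearGroup.det (diagFirst (n := m) w hw0).1) ^ k = w ^ k
      rw [det_diagFirst])⟩
  · have hker : (e.toMonoidHom.comp f).ker = f.ker := by
      ext x; simp [MonoidHom.mem_ker]
    rw [hker]
    refine le_antisymm ?_ (sup_le ?_ ?_)
    · intro g hg
      have hgk : detGU n g ^ k = 1 := congrArg Subtype.val hg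
      obtain ⟨w, hw⟩ := exists_pow_eq_of_pow_eq_one (d := d) (k := k) (m := q - 1)
        (by rw [card_units_eq hF, hk]) hgk
      have hw1 : w ^ (q + 1) = 1 := by rw [hk, pow_mul, hw, hgk]
      set a : Fˣ := w ^ Nat.gcdA n (q + 1) with ha
      have ha1 : a ^ (q + 1) = 1 := by
        rw [ha, ← zpow_natCast, ← _root_.zpow_mul, mul_comm, _root_.zpow_mul, zpow_natCast, hw1, _root_.one_zpow]
      have han : a ^ n = detGU n g := by
        have hb := Nat.gcd_eq_gcd_ab n (q + 1)
        rw [← hw, ← zpow_natCast w d, hd, hb, _root_.zpow_add, _root_.zpow_mul w ((q + 1 : ℕ) : ℤ), zpow_natCast,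
          hw1, _root_.one_zpow, mul_one, ha, ← zpow_natCast, ← _root_.zpow_mul, mul_comm]
      let z : Cfsg.GU n F q := ⟨Units.map (Matrix.scalar (Fin n)).toMonoidHom a, by
        intro x y
        change Cfsg.hermForm n F q ((Matrix.scalar (Fin n) (a : F)) *ᵥ x)
          ((Matrix.scalar (Fin n) (a : F)) *ᵥ y) = _
        have Φsmul := (uForm hF n).smul_right
        simp only [uForm_h, uForm_σ] at Φsmul
        rw [Matrix.scalar_apply, ← Matrix.smul_one_eq_diagonal, Matrix.smul_mulVec,
          Matrix.smul_mulVec, Matrix.one_mulVec, Matrix.one_mulVec,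
          herm_smul_left, Φsmul, ← mul_assoc, ← pow_succ', ← Units.val_pow_eq_pow_val,
          ha1, Units.val_one, one_mul]⟩
      have hzc : z ∈ Subgroup.center (Cfsg.GU n F q) := Subgroup.mem_center_iff.mpr fun x =>
        Subtype.ext (Units.ext ((Matrix.scalar_commute (a : F) (Commute.all _) _).symm.eq))
      have hzd : detGU n z = a ^ n := Units.ext (by
        change (Matrix.scalar (Fin n) (a : F)).det = _
        simp)
      rw [show g = g * z⁻¹ * z by group]
      refine mul_mem (Subgroup.mem_sup_left ?_) (Subgroup.mem_sup_right hzc)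
      rw [Subgroup.mem_subgroupOf, MonoidHom.mem_ker]
      change detGU n (g * z⁻¹) = 1
      rw [map_mul, map_inv, hzd, han, mul_inv_cancel]
    · intro g hg
      rw [Subgroup.mem_subgroupOf, MonoidHom.mem_ker] at hg
      refine Subtype.ext ?_
      change detGU n g ^ k = 1
      rw [show detGU n g = 1 from hg, one_pow]
    · intro g hg
      refine Subtype.ext ?_
      change detGU n g ^ k = 1
      obtain ⟨a, ha⟩ := center_GU_scalar hF hn hg
      have h1 : (detGU n g : F) = a ^ n := by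
        change ((g : Matrix.GeneralLinearGroup (Fin n) F) : Matrix (Fin n) (Fin n) F).det = _
        rw [ha]; simp
      have h2 : a ^ (q + 1) = 1 := by
        have h := mem_GU_iff.mp g.2 (Pi.single ⟨0, by omega⟩ 1) (Pi.single ⟨0, by omega⟩ 1)
        rw [ha, Matrix.smul_mulVec, Matrix.one_mulVec, herm_smul_left, herm_single_left,
          herm_single_left] at h
        simpa [pow_succ'] using h
      refine Units.ext ?_
      rw [Units.val_pow_eq_pow_val, h1, Units.val_one, ← pow_mul, hn', mul_right_comm,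
        ← hk, pow_mul, h2, one_pow]

end CfsgLib.Unitary
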