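import Cfsg.Agent.Unitary.Isotropic
import Cfsg.Agent.Char.FrobeniusKernel
import Mathlib.LinearAlgebra.Matrix.Charpoly.Coeff
import Mathlib.GroupTheory.SpecificGroups.Quaternion
import Mathlib.GroupTheory.Solvable
import Mathlib.GroupTheory.PGroup

/-!
`PSU₃(2) ≅ 3².Q₈` via its Frobenius action on the nine isotropic points.
-/

set_option autoImplicit false
set_option linter.style.haveILetI false

namespace CfsgLib.Unitary

open Matrix CfsgLib.Forms

/-- A group of order 8 of exponent 4 with one involution is the quaternion group. -/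
theorem nonempty_mulEquiv_quaternion {Q : Type*} [Group Q] (h8 : Nat.card Q = 8)
    (h4 : ∀ x : Q, x ^ 4 = 1) (h1 : ∀ x y : Q, x ^ 2 = 1 → y ^ 2 = 1 → x ≠ 1 → y ≠ 1 → x = y) :
    Nonempty (Q ≃* QuaternionGroup 2) := by
  haveI : Finite Q := Nat.finite_of_card_ne_zero (by omega)
  haveI := Fintype.ofFinite Q
  classical
  obtain ⟨a, ha⟩ : ∃ a : Q, a ^ 2 ≠ 1 := by
    by_contra hc
    push Not at hc
    have hsub : ∀ x y : Q, x ≠ 1 → y ≠ 1 → x = y := fun x y hx hy => h1 x y (hc x) (hc y) hx hy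
    have hle : Fintype.card Q ≤ 2 := by
      by_contra hgt
      obtain ⟨x, y, z, hxy, hxz, hyz⟩ := Fintype.two_lt_card_iff.mp (not_le.mp hgt)
      by_cases hx : x = 1
      · exact hyz (hsub y z (fun e => hxy (hx.trans e.symm)) (fun e => hxz (hx.trans e.symm)))
      by_cases hy : y = 1
      · exact hxz (hsub x z hx (fun e => hyz (hy.trans e.symm)))
      exact hxy (hsub x y hx hy)
    rw [← Nat.card_eq_fintype_card, h8] at hle
    omega
  haveI : Fact (Nat.Prime 2) := ⟨Nat.prime_two⟩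
  have hoa : orderOf a = 4 := orderOf_eq_prime_pow (n := 1) (by simpa using ha) (h4 a)
  have hA : Nat.card (Subgroup.zpowers a) = 4 := by rw [Nat.card_zpowers, hoa]
  obtain ⟨b, hb⟩ : ∃ b, b ∉ Subgroup.zpowers a := by
    by_contra hc
    push Not at hc
    have : Subgroup.zpowers a = ⊤ := eq_top_iff.mpr fun x _ => hc x
    rw [this, Subgroup.card_top, h8] at hA
    omega
  have ha1 : a ^ 2 ∈ Subgroup.zpowers a := pow_mem (Subgroup.mem_zpowers a) 2
  have hsq : ∀ x : Q, (x ^ 2) ^ 2 = 1 := fun x => by rw [← pow_mul]; exact h4 x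
  have hb2 : b ^ 2 = a ^ 2 := by
    refine h1 _ _ (hsq b) (hsq a) (fun e => hb ?_) ha
    rcases eq_or_ne b 1 with rfl | hb1
    · exact one_mem _
    · rwa [h1 b _ e (hsq a) hb1 ha]
  haveI hN : (Subgroup.zpowers a).Normal := Subgroup.normal_of_index_eq_two (by
    have := (Subgroup.zpowers a).card_mul_index
    rw [hA, h8] at this
    omega)
  have hba : b * a * b⁻¹ = a⁻¹ := by
    obtain ⟨i, hi⟩ := (Submonoid.mem_powers_iff _ _).mp
      (mem_powers_iff_mem_zpowers.mpr (hN.conj_mem a (Subgroup.mem_zpowers a) b))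
    rw [← pow_mod_orderOf, hoa] at hi
    have hlt : i % 4 < 4 := Nat.mod_lt _ (by norm_num)
    have hsq' : (b * a * b⁻¹) ^ 2 ≠ 1 := by
      rw [conj_pow]
      intro e
      exact ha (mul_left_cancel (mul_right_cancel (e.trans (mul_inv_cancel b).symm) |>.trans
        (mul_one b).symm))
    rw [← hi] at hsq' ⊢
    interval_cases (i % 4)
    · simp at hsq'
    · rw [pow_one] at hi ⊢
      exfalso
      have hcomm : Commute b a := by
        change b * a = a * b
        calc b * a = b * a * b⁻¹ * b := by group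
          _ = a * b := by rw [← hi]
      have h0 : (a⁻¹ * b) ^ 2 = 1 := by
        rw [(hcomm.symm.inv_left).mul_pow, hb2, inv_pow, inv_mul_cancel]
      rcases eq_or_ne (a⁻¹ * b) 1 with e | e
      · exact hb (by rw [inv_mul_eq_one.mp e] ; exact Subgroup.mem_zpowers _)
      · have e2 := h1 _ _ h0 (hsq a) e ha
        exact hb (by rw [inv_mul_eq_iff_eq_mul.mp e2]; exact mul_mem (Subgroup.mem_zpowers a) ha1)
    · exact absurd (hsq a) hsq'
    · rw [eq_inv_iff_mul_eq_one, ← pow_succ]; exact h4 a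
  -- the homomorphism
  have hne : ∀ m : ℕ, a ^ m * b = b * (a ^ m)⁻¹ := fun m => by
    have h2 : b * (a ^ m)⁻¹ * b⁻¹ = a ^ m := by
      rw [← inv_pow, ← conj_pow, ← conj_inv, hba, inv_inv]
    calc a ^ m * b = b * (a ^ m)⁻¹ * b⁻¹ * b := by rw [h2]
      _ = b * (a ^ m)⁻¹ := by group
  have hpow : ∀ i j : ZMod (2 * 2), a ^ i.val * a ^ j.val = a ^ (i + j).val := fun i j => by
    rw [← pow_add, ZMod.val_add, ← pow_mod_orderOf a (i.val + j.val), hoa]
  have hsub : ∀ i j : ZMod (2 * 2), a ^ (j - i).val = (a ^ i.val)⁻¹ * a ^ j.val := fun i j => by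
    rw [eq_inv_mul_iff_mul_eq, hpow, add_sub_cancel]
  let F : QuaternionGroup 2 → Q := fun g => match g with
    | QuaternionGroup.a i => a ^ i.val
    | QuaternionGroup.xa i => b * a ^ i.val
  let f : QuaternionGroup 2 →* Q :=
    { toFun := F
      map_one' := by change a ^ (0 : ZMod (2 * 2)).val = 1; simp
      map_mul' := by
        rintro (i | i) (j | j)
        · exact (hpow i j).symm
        · change b * a ^ (j - i).val = a ^ i.val * (b * a ^ j.val)
          rw [hsub, ← mul_assoc, ← mul_assoc, hne]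
        · change b * a ^ (i + j).val = b * a ^ i.val * a ^ j.val
          rw [mul_assoc, hpow]
        · change a ^ (((2 : ℕ) : ZMod (2 * 2)) + j - i).val = b * a ^ i.val * (b * a ^ j.val)
          rw [add_sub_assoc, ← hpow, hsub, mul_assoc b (a ^ i.val), ← mul_assoc (a ^ i.val) b, hne]
          rw [show ((2 : ℕ) : ZMod (2 * 2)).val = 2 from rfl, ← hb2, sq]
          group }
  have hsurj : Function.Surjective f := by
    rw [← MonoidHom.range_eq_top]
    refine Subgroup.eq_top_of_le_card _ ?_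
    have hle : Subgroup.zpowers a ≤ f.range := by
      rw [Subgroup.zpowers_le]
      exact ⟨QuaternionGroup.a 1, show a ^ (1 : ZMod (2 * 2)).val = a by
        rw [show (1 : ZMod (2 * 2)).val = 1 from rfl, pow_one]⟩
    have hbm : b ∈ f.range := ⟨QuaternionGroup.xa 0, show b * a ^ (0 : ZMod (2 * 2)).val = b by simp⟩
    have h4' := Subgroup.card_dvd_of_le hle
    have h8' := Subgroup.card_subgroup_dvd_card f.range
    rw [hA] at h4'
    rw [h8] at h8'
    have hne4 : Nat.card f.range ≠ 4 := fun e =>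
      hb ((Subgroup.eq_of_le_of_card_ge hle (by rw [hA, e])).symm ▸ hbm)
    have := Nat.le_of_dvd (by norm_num) h8'
    rw [h8]
    obtain ⟨c, hc⟩ := h4'
    rw [hc] at this hne4 ⊢
    rcases c with _ | _ | c
    · rw [hc, mul_zero, zero_dvd_iff] at h8'; omega
    · omega
    · omega
  exact ⟨(MulEquiv.ofBijective f ((Nat.bijective_iff_surjective_and_card f).mpr
    ⟨hsurj, by rw [h8, Nat.card_eq_fintype_card, QuaternionGroup.card]⟩)).symm⟩

variable {F : Type*} [Field F] [Finite F] (hF : Nat.card F = 2 ^ 2)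

include hF in
theorem two_eq_zero' : (2 : F) = 0 := by
  haveI := Fintype.ofFinite F
  have h4 : (4 : F) = 0 := by
    have := Nat.cast_card_eq_zero F
    rw [← Nat.card_eq_fintype_card, hF] at this
    simpa using this
  exact pow_eq_zero_iff two_ne_zero |>.mp (by linear_combination h4)

include hF in
theorem cube_eq_one {a : F} (ha : a ≠ 0) : a ^ 3 = 1 := by
  haveI := Fintype.ofFinite F
  have := FiniteField.pow_card_sub_one_eq_one a ha
  rwa [← Nat.card_eq_fintype_card, hF] at this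

include hF in
/-- No two independent orthogonal isotropic vectors in dimension three. -/
theorem dep_of_orth {u w : Fin 3 → F} (hu : Cfsg.hermForm 3 F 2 u u = 0)
    (hw : Cfsg.hermForm 3 F 2 w w = 0) (huw : Cfsg.hermForm 3 F 2 u w = 0) (hu0 : u ≠ 0) :
    ∃ c : F, c • u = w := by
  by_contra hc
  push Not at hc
  have hli := indep_pair hu0 hc
  let φ : (Fin 3 → F) →ₗ[F] (Fin 2 → F) :=
    { toFun := fun x => ![Cfsg.hermForm 3 F 2 x u, Cfsg.hermForm 3 F 2 x w]
      map_add' := fun x y => by funext i; fin_cases i <;> simp [herm_add_left]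
      map_smul' := fun r x => by funext i; fin_cases i <;> simp [herm_smul_left] }
  have hwu : Cfsg.hermForm 3 F 2 w u = 0 := (uForm hF 3).eq_zero_comm.mp huw
  have hx : u ∉ Submodule.span F {w} := fun hm => by
    obtain ⟨c, hc'⟩ := Submodule.mem_span_singleton.mp hm
    rcases eq_or_ne c 0 with rfl | hc0
    · exact hu0 (by simpa using hc'.symm)
    · exact hc c⁻¹ (by rw [← hc', smul_smul, inv_mul_cancel₀ hc0, one_smul])
  have hy : w ∉ Submodule.span F {u} := fun hm => by
    obtain ⟨c, hc'⟩ := Submodule.mem_span_singleton.mp hm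
    exact hc c hc'
  obtain ⟨y1, hy1, hy1u⟩ := (uForm hF 3).exists_perp_one (uForm_nondeg hF 3) hx
  obtain ⟨y2, hy2, hy2w⟩ := (uForm hF 3).exists_perp_one (uForm_nondeg hF 3) hy
  simp only [uForm_h] at hy1 hy1u hy2 hy2w
  have hsurj : Function.Surjective φ := fun t => by
    refine ⟨t 0 • y1 + t 1 • y2, funext fun i => ?_⟩
    have e1 : Cfsg.hermForm 3 F 2 y1 u = 1 := by rw [herm_swap hF u y1, hy1u, one_pow]
    have e2 : Cfsg.hermForm 3 F 2 y1 w = 0 :=
      (uForm hF 3).eq_zero_comm.mp (hy1 w (Submodule.mem_span_singleton_self w))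
    have e3 : Cfsg.hermForm 3 F 2 y2 w = 1 := by rw [herm_swap hF w y2, hy2w, one_pow]
    have e4 : Cfsg.hermForm 3 F 2 y2 u = 0 :=
      (uForm hF 3).eq_zero_comm.mp (hy2 u (Submodule.mem_span_singleton_self u))
    fin_cases i <;> simp [φ, herm_add_left, herm_smul_left, e1, e2, e3, e4]
  have hdim := finrank_ker_add φ hsurj
  have hle : Submodule.span F (Set.range ![u, w]) ≤ φ.ker := by
    rw [Submodule.span_le]
    rintro _ ⟨i, rfl⟩
    rw [SetLike.mem_coe, LinearMap.mem_ker]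
    funext j
    fin_cases i <;> fin_cases j <;> simp [φ, hu, hw, huw, hwu]
  have := Submodule.finrank_mono hle
  rw [finrank_span_eq_card hli, Fintype.card_fin] at this
  rw [Module.finrank_fin_fun, Module.finrank_fin_fun] at hdim
  omega

include hF in
/-- An element with two fixed points has cube one. -/
theorem cube_of_two_fixed (s : Cfsg.SU 3 F 2) {u v : Fin 3 → F} (hu0 : u ≠ 0)
    (hu : Cfsg.hermForm 3 F 2 u u = 0) (hv : Cfsg.hermForm 3 F 2 v v = 0)
    (hne : ∀ c : F, c • u ≠ v) {a b : F} (hsu : suMat s *ᵥ u = a • u)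
    (hsv : suMat s *ᵥ v = b • v) : s ^ 3 = 1 := by
  have huv : Cfsg.hermForm 3 F 2 u v ≠ 0 := fun h => by
    obtain ⟨c, hc⟩ := dep_of_orth hF hu hv h hu0
    exact hne c hc
  have hvu : Cfsg.hermForm 3 F 2 v u ≠ 0 := fun h => huv ((uForm hF 3).eq_zero_comm.mp h)
  have hv0 : v ≠ 0 := fun e => hne 0 (by rw [zero_smul, e])
  let φ : (Fin 3 → F) →ₗ[F] (Fin 2 → F) :=
    { toFun := fun x => ![Cfsg.hermForm 3 F 2 x u, Cfsg.hermForm 3 F 2 x v]
      map_add' := fun x y => by funext i; fin_cases i <;> simp [herm_add_left]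
      map_smul' := fun r x => by funext i; fin_cases i <;> simp [herm_smul_left] }
  obtain ⟨w, hw, hw0⟩ := Submodule.exists_mem_ne_zero_of_ne_bot
    (LinearMap.ker_ne_bot_of_finrank_lt (f := φ) (by simp))
  have hwu : Cfsg.hermForm 3 F 2 w u = 0 := congrFun (LinearMap.mem_ker.mp hw) 0
  have hwv : Cfsg.hermForm 3 F 2 w v = 0 := congrFun (LinearMap.mem_ker.mp hw) 1
  have hli : LinearIndependent F ![u, v, w] := by
    rw [Fintype.linearIndependent_iff]
    intro g hg
    simp only [Fin.sum_univ_three, Matrix.cons_val_zero, Matrix.cons_val_one, Matrix.cons_val] at hg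
    have h1 := congrArg (fun x => Cfsg.hermForm 3 F 2 x u) hg
    have h2 := congrArg (fun x => Cfsg.hermForm 3 F 2 x v) hg
    simp only [herm_add_left, herm_smul_left, hu, hv, hwu, hwv, mul_zero, add_zero, zero_add,
      show ∀ y, Cfsg.hermForm 3 F 2 0 y = 0 from (uForm hF 3).zero_left] at h1 h2
    have g1 := (mul_eq_zero.mp h1).resolve_right hvu
    have g0 := (mul_eq_zero.mp h2).resolve_right huv
    rw [g0, g1, zero_smul, zero_smul, zero_add, zero_add, smul_eq_zero] at hg
    intro i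
    fin_cases i
    exacts [g0, g1, hg.resolve_right hw0]
  set B := basisOfLinearIndependentOfCardEqFinrank hli (by simp) with hB
  obtain ⟨α, β, γ, hsw⟩ : ∃ α β γ : F, suMat s *ᵥ w = α • u + β • v + γ • w := by
    refine ⟨B.repr (suMat s *ᵥ w) 0, B.repr (suMat s *ᵥ w) 1, B.repr (suMat s *ᵥ w) 2, ?_⟩
    conv_lhs => rw [← B.sum_repr (suMat s *ᵥ w)]
    simp [Fin.sum_univ_three, hB]
  have ha : a ≠ 0 := fun e => su_mulVec_ne_zero s hu0 (by rw [hsu, e, zero_smul])
  have hb : b ≠ 0 := fun e => su_mulVec_ne_zero s hv0 (by rw [hsv, e, zero_smul])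
  have h1 := su_preserves s w u
  have h2 := su_preserves s w v
  rw [hsw, hsu] at h1
  rw [hsw, hsv] at h2
  simp only [herm_add_left, herm_smul_left, herm_smul_right hF, hu, hv, hwu, hwv, mul_zero,
    add_zero, zero_add, mul_eq_zero, hvu, huv, pow_eq_zero_iff two_ne_zero, ha, hb,
    or_false, false_or] at h1 h2
  rw [h1, h2, zero_smul, zero_smul, zero_add, zero_add] at hsw
  have hγ : γ ≠ 0 := fun e => su_mulVec_ne_zero s hw0 (by rw [hsw, e, zero_smul])
  have hcube : ∀ x : Fin 3 → F, ∀ c : F, c ≠ 0 → suMat s *ᵥ x = c • x →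
      suMat (s ^ 3) *ᵥ x = x := by
    intro x c hc hx
    rw [show s ^ 3 = s * s * s by rw [pow_succ, pow_two], suMat_mul, suMat_mul]
    simp only [← Matrix.mulVec_mulVec, hx, Matrix.mulVec_smul, smul_smul]
    rw [show c * (c * c) = c ^ 3 by ring, cube_eq_one hF hc, one_smul]
  refine su_ext fun x => ?_
  rw [suMat_one, Matrix.one_mulVec]
  have heq : Matrix.toLin' (suMat (s ^ 3)) = LinearMap.id := B.ext fun i => by
    rw [Matrix.toLin'_apply, LinearMap.id_apply, hB, coe_basisOfLinearIndependentOfCardEqFinrank]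
    fin_cases i
    · exact hcube u a ha hsu
    · exact hcube v b hb hsv
    · exact hcube w γ hγ hsw
  simpa using LinearMap.congr_fun heq x

include hF in
/-- An involution fixing an isotropic point is the transvection at it. -/
theorem invol_eq_tv (x : Cfsg.SU 3 F 2) (hx2 : x ^ 2 = 1) (hx1 : x ≠ 1) {v : Fin 3 → F}
    (hv0 : v ≠ 0) (hv : Cfsg.hermForm 3 F 2 v v = 0) {l : F} (hxv : suMat x *ᵥ v = l • v) :
    suMat x = Cfsg.unitaryTransvection 3 2 v 1 := by
  have h2 := two_eq_zero' hF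
  have hz0 : ∀ y, Cfsg.hermForm 3 F 2 0 y = 0 := (uForm hF 3).zero_left
  set N := fun y : Fin 3 → F => suMat x *ᵥ y - y with hN
  have hxx : ∀ y, suMat x *ᵥ (suMat x *ᵥ y) = y := fun y => by
    rw [Matrix.mulVec_mulVec, ← suMat_mul, ← pow_two, hx2, suMat_one, Matrix.one_mulVec]
  have hxN : ∀ y, suMat x *ᵥ N y = N y := fun y => by
    simp only [hN, Matrix.mulVec_sub, hxx]
    funext i
    simp only [Pi.sub_apply]
    linear_combination (y i - (suMat x *ᵥ y) i) * h2
  have hker : ∀ y z, suMat x *ᵥ z = z → Cfsg.hermForm 3 F 2 (N y) z = 0 := fun y z hz => by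
    simp only [hN, herm_sub_left hF]
    conv_lhs => arg 1; rw [← hz, su_preserves]
    rw [sub_self]
  have hl : l = 1 := by
    have h := hxx v
    rw [hxv, Matrix.mulVec_smul, hxv, smul_smul] at h
    have h' : (l * l - 1) • v = 0 := by rw [sub_smul, h, one_smul, sub_self]
    have h'' := (smul_eq_zero.mp h').resolve_right hv0
    exact sub_eq_zero.mp (pow_eq_zero_iff two_ne_zero |>.mp
      (by linear_combination h'' + (1 - l) * h2))
  rw [hl, one_smul] at hxv
  have hNv : ∀ y, ∃ c : F, c • v = N y := fun y => by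
    refine dep_of_orth hF hv (hker y _ (hxN y)) ?_ hv0
    exact (uForm hF 3).eq_zero_comm.mp (hker y v hxv)
  choose φ hφ using hNv
  have hxy : ∀ y, suMat x *ᵥ y = y + φ y • v := fun y => by rw [hφ]; simp [hN]
  obtain ⟨u0, -, hu0⟩ := (uForm hF 3).exists_perp_one (uForm_nondeg hF 3) (U := ⊥) (x := v)
    (by simpa using hv0)
  simp only [uForm_h] at hu0
  have hu0v : Cfsg.hermForm 3 F 2 u0 v = 1 := by rw [herm_swap hF v u0, hu0, one_pow]
  have key : ∀ y z, φ y * Cfsg.hermForm 3 F 2 v z + φ z ^ 2 * Cfsg.hermForm 3 F 2 y v = 0 := by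
    intro y z
    have h := su_preserves x y z
    rw [hxy, hxy] at h
    simp only [herm_add_left, herm_add_right hF, herm_smul_left, herm_smul_right hF, hv, mul_zero,
      add_zero] at h
    linear_combination h
  set a := φ u0 with ha
  have haa : a ^ 2 = a := by
    have h := key u0 u0
    rw [hu0, hu0v, mul_one, mul_one] at h
    linear_combination h - a * h2
  have hφy : ∀ y, φ y = a * Cfsg.hermForm 3 F 2 y v := fun y => by
    have h := key u0 y
    rw [hu0v, mul_one, herm_swap hF y v] at h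
    refine sub_eq_zero.mp (pow_eq_zero_iff two_ne_zero |>.mp ?_)
    linear_combination h + (Cfsg.hermForm 3 F 2 y v ^ 2) * haa +
      (-(φ y * (a * Cfsg.hermForm 3 F 2 y v))) * h2
  have ha1 : a = 1 := by
    have h := (mul_eq_zero.mp (by linear_combination haa : a * (a - 1) = 0))
    refine sub_eq_zero.mp (h.resolve_left fun h0 => hx1 (su_ext fun y => ?_))
    rw [hxy, hφy, h0, zero_mul, zero_smul, add_zero, suMat_one, Matrix.one_mulVec]
  refine Matrix.ext_iff_smul.mpr fun y => ?_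
  rw [Matrix.smul_eq_mulVec, Matrix.smul_eq_mulVec, hxy, hφy, ha1, utv_mulVec]

include hF in
theorem pow_four_of_pow_eight (s : Cfsg.SU 3 F 2) (h : s ^ 8 = 1) : s ^ 4 = 1 := by
  have h2 := two_eq_zero' hF
  set M := suMat s with hM
  have hM8 : M ^ 8 = 1 := by
    rw [hM, show suMat s ^ 8 = suMat (s ^ 8) from rfl, h, suMat_one]
  set N := M - 1 with hN
  have h2' : (2 : Matrix (Fin 3) (Fin 3) F) = 0 := by
    rw [show (2 : Matrix (Fin 3) (Fin 3) F) = Matrix.scalar (Fin 3) (2 : F) from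
      (map_ofNat _ 2).symm, h2, map_zero]
  have hMN : M = N + 1 := by rw [hN]; abel
  have hsq : ∀ A : Matrix (Fin 3) (Fin 3) F, (A + 1) ^ 2 = A ^ 2 + 1 := fun A => by
    rw [pow_two, pow_two, add_mul, mul_add, one_mul, mul_one,
      show A * A + A + (A + 1) = A * A + 2 * A + 1 by rw [two_mul]; abel, h2', zero_mul, add_zero]
  have h4 : M ^ 4 = N ^ 4 + 1 := by
    rw [hMN, show (N + 1) ^ 4 = ((N + 1) ^ 2) ^ 2 by rw [← pow_mul], hsq, hsq, ← pow_mul]
  have h8 : N ^ 8 = 0 := by
    have h8' : M ^ 8 = N ^ 8 + 1 := by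
      rw [show M ^ 8 = (M ^ 4) ^ 2 by rw [← pow_mul], h4, hsq, ← pow_mul]
    rw [hM8] at h8'
    exact add_eq_right.mp h8'.symm
  have hnil := Matrix.isNilpotent_charpoly_sub_pow_of_isNilpotent (M := N) ⟨8, h8⟩
  have hcp := Matrix.aeval_self_charpoly N
  rw [sub_eq_zero.mp hnil.eq_zero, map_pow, Polynomial.aeval_X, Fintype.card_fin] at hcp
  refine Subtype.ext (Subtype.ext ?_)
  change M ^ 4 = 1
  rw [h4, pow_succ, hcp, zero_mul, zero_add]

include hF in
theorem psu32_structure :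
    ∃ (N : Subgroup (Cfsg.PSU 3 F 2)) (_ : N.Normal), Nat.card N = 9 ∧ (∀ x ∈ N, x ^ 3 = 1) ∧
      Nonempty (Cfsg.PSU 3 F 2 ⧸ N ≃* QuaternionGroup 2) ∧ Nat.card (Cfsg.PSU 3 F 2) = 72 ∧
      Group.IsSolvable (Cfsg.PSU 3 F 2) := by
  classical
  have h2 := two_eq_zero' hF
  have hZ3 : Nat.card (Subgroup.center (Cfsg.SU 3 F 2)) = 3 := card_center_SU hF (n := 3) (by norm_num)
  set Z := Subgroup.center (Cfsg.SU 3 F 2) with hZ
  have hPSU : Nat.card (Cfsg.PSU 3 F 2) = 72 := by
    have h := card_PSU_mul hF (n := 3) (by norm_num)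
    rw [card_GU hF] at h
    norm_num [Finset.prod_range_succ, Nat.gcd_self, Nat.even_iff, -Nat.card_eq_fintype_card] at h
    omega
  -- a point and its stabiliser
  set v : Fin 3 → F := ![1, 1, 0] with hvdef
  have hv : Cfsg.hermForm 3 F 2 v v = 0 := by
    simp [hvdef, Cfsg.hermForm, Fin.sum_univ_three]; linear_combination h2
  have hv0 : v ≠ 0 := fun e => one_ne_zero (congrFun e 0)
  set P := pt hF v hv0 hv with hP
  set St := MulAction.stabilizer (Cfsg.SU 3 F 2) P with hSt
  have hmem : ∀ s, s ∈ St ↔ ∃ a : F, a • v = suMat s *ᵥ v := fun s => by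
    rw [hSt, MulAction.mem_stabilizer_iff, hP, smul_pt, pt_eq_iff]
  have hZSt : Z ≤ St := fun z hz => by
    obtain ⟨a, ha⟩ := (mem_center_SU_iff hF (by norm_num)).mp hz
    exact (hmem z).mpr ⟨a, by rw [show suMat z = a • 1 from ha, Matrix.smul_mulVec, Matrix.one_mulVec]⟩
  have hStc : Nat.card St = 24 := by
    have hW : Module.finrank F (Submodule.span F ({v} : Set (Fin 3 → F))) = 1 :=
      finrank_span_singleton hv0
    have h := card_stab_SU hF (n := 3) (k := 1) (by norm_num) (by norm_num)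
      ⟨Submodule.span F {v}, hW, fun a ha b hb => by
        obtain ⟨c, rfl⟩ := Submodule.mem_span_singleton.mp ha
        obtain ⟨d, rfl⟩ := Submodule.mem_span_singleton.mp hb
        rw [herm_smul_left, herm_smul_right hF, hv, mul_zero, mul_zero]⟩
    have he : (Cfsg.stabilizing (Cfsg.slToMat 3 F)
        ((Submodule.span F ({v} : Set (Fin 3 → F))) : Set (Fin 3 → F))).subgroupOf (Cfsg.SU 3 F 2) =
        St := by
      ext s
      rw [hmem]
      constructor
      · intro hs
        exact Submodule.mem_span_singleton.mp ((hs v).mp (Submodule.mem_span_singleton_self v))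
      · rintro ⟨a, ha⟩ y
        change y ∈ Submodule.span F {v} ↔ suMat s *ᵥ y ∈ Submodule.span F {v}
        simp only [Submodule.mem_span_singleton]
        have ha0 : a ≠ 0 := fun e => su_mulVec_ne_zero s hv0 (by rw [← ha, e, zero_smul])
        constructor
        · rintro ⟨c, rfl⟩
          exact ⟨c * a, by rw [Matrix.mulVec_smul, ← ha, smul_smul]⟩
        · rintro ⟨c, hc⟩
          refine ⟨c * a⁻¹, suMat_injective s ?_⟩
          rw [Matrix.toLin'_apply, Matrix.toLin'_apply, Matrix.mulVec_smul, ← ha, smul_smul,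
            mul_assoc, inv_mul_cancel₀ ha0, mul_one, hc]
    rw [← he]
    norm_num [-Nat.card_eq_fintype_card] at h ⊢
    omega
  set π : Cfsg.SU 3 F 2 →* Cfsg.PSU 3 F 2 := QuotientGroup.mk' Z
  set H := St.map π with hH
  have hπmem : ∀ s, π s ∈ H ↔ s ∈ St := fun s => by
    constructor
    · rintro ⟨t, ht, e⟩
      have hz : t⁻¹ * s ∈ Z := (QuotientGroup.eq).mp e
      simpa using mul_mem ht (hZSt hz)
    · intro h; exact ⟨s, h, rfl⟩
  have hHc : Nat.card H = 8 := by
    have h := card_eq_card_mul_card (H := St) (X := H) (fun s => ⟨π s, (hπmem _).mpr s.2⟩)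
      (fun y => by obtain ⟨s, hs, e⟩ := y.2; exact ⟨⟨s, hs⟩, Subtype.ext e⟩) (Z.subgroupOf St)
      (fun g g' => by
        rw [Subgroup.mem_subgroupOf, Subtype.mk.injEq]
        exact (QuotientGroup.eq).symm)
    rw [Nat.card_congr (Subgroup.subgroupOfEquivOfLe hZSt).toEquiv, hStc, hZ3] at h
    omega
  -- two fixed points force centrality
  have hZmem : ∀ s : Cfsg.SU 3 F 2, π s = 1 ↔ s ∈ Z := fun s => QuotientGroup.eq_one_iff s
  have h8 : ∀ y ∈ H, y ^ 8 = 1 := fun y hy => by
    have := pow_card_eq_one' (G := H) (x := ⟨y, hy⟩)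
    rw [hHc] at this
    exact congrArg Subtype.val this
  have hTI : ∀ g : Cfsg.PSU 3 F 2, g ∉ H → ∀ h ∈ H, g * h * g⁻¹ ∈ H → h = 1 := by
    intro g hg h hh hgh
    obtain ⟨t, rfl⟩ := QuotientGroup.mk'_surjective Z g
    obtain ⟨s, rfl⟩ := QuotientGroup.mk'_surjective Z h
    have hs := (hπmem s).mp hh
    rw [← map_inv, ← map_mul, ← map_mul] at hgh
    have hts := (hπmem _).mp hgh
    obtain ⟨a, ha⟩ := (hmem s).mp hs
    obtain ⟨b, hb⟩ := (hmem _).mp hts
    set w := suMat t⁻¹ *ᵥ v with hw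
    have hsw : suMat s *ᵥ w = b • w := by
      have := congrArg (fun y => suMat t⁻¹ *ᵥ y) hb
      simp only [Matrix.mulVec_smul, suMat_mul, ← Matrix.mulVec_mulVec, su_inv_mulVec, ← hw] at this
      exact this.symm
    have hs3 : s ^ 3 = 1 := cube_of_two_fixed hF s hv0 hv (by rw [su_preserves, hv])
      (fun c e => hg ((hπmem t).mpr (inv_mem_iff.mp ((hmem t⁻¹).mpr ⟨c, e⟩)))) ha.symm hsw
    have h3 : (π s) ^ 3 = 1 := by rw [← map_pow, hs3, map_one]
    have h8' := h8 _ hh
    have h9 : (π s) ^ 9 = 1 := by rw [show 9 = 3 * 3 from rfl, pow_mul, h3, one_pow]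
    rwa [pow_succ, h8', one_mul] at h9
  obtain ⟨K, hKn, hKH, hKH', hcompl, hKmem⟩ := CfsgLib.Char.exists_frobenius_kernel H hTI
  haveI := hKn
  have hK9 : Nat.card K = 9 := by
    have := hcompl.card_mul_card
    rw [hHc, hPSU] at this
    omega
  let ψ : H →* Cfsg.PSU 3 F 2 ⧸ K := (QuotientGroup.mk' K).comp H.subtype
  have hψ : Function.Bijective ψ := by
    constructor
    · rw [← MonoidHom.ker_eq_bot_iff, eq_bot_iff]
      intro y hy
      have hy' : (y : Cfsg.PSU 3 F 2) ∈ K ⊓ H := ⟨(QuotientGroup.eq_one_iff _).mp hy, y.2⟩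
      rw [hKH] at hy'
      exact Subtype.ext hy'
    · intro y
      obtain ⟨g, rfl⟩ := QuotientGroup.mk'_surjective K y
      obtain ⟨k, hk, h, hh, rfl⟩ := Subgroup.mem_sup_of_normal_left.mp
        (hKH' ▸ Subgroup.mem_top g : g ∈ K ⊔ H)
      exact ⟨⟨h, hh⟩, by simp [ψ, (QuotientGroup.eq_one_iff k).mpr hk]⟩
  have h4H : ∀ y : H, y ^ 4 = 1 := by
    intro y
    obtain ⟨s, hs, e⟩ := y.2
    have h8' : (π s) ^ 8 = 1 := h8 _ ((hπmem s).mpr hs)
    have hs3 : (s ^ 3) ^ 8 = 1 := by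
      rw [← pow_mul, mul_comm, pow_mul]
      have hz : s ^ 8 ∈ Z := (hZmem _).mp (by rw [map_pow]; exact h8')
      have := pow_card_eq_one' (G := Z) (x := ⟨_, hz⟩)
      rw [hZ3] at this
      exact congrArg Subtype.val this
    have h4 := congrArg π (pow_four_of_pow_eight hF _ hs3)
    rw [map_pow, map_pow, map_one, ← pow_mul] at h4
    refine Subtype.ext ?_
    rw [Subgroup.coe_pow, ← e, Subgroup.coe_one]
    calc (π s) ^ 4 = (π s) ^ (3 * 4) * ((π s) ^ 8)⁻¹ := by
          rw [eq_mul_inv_iff_mul_eq, ← pow_add]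
      _ = 1 := by rw [h4, h8', inv_one, mul_one]
  have huniq : ∀ x y : H, x ^ 2 = 1 → y ^ 2 = 1 → x ≠ 1 → y ≠ 1 → x = y := by
    have hlift : ∀ x : H, x ^ 2 = 1 → x ≠ 1 → ∃ s : Cfsg.SU 3 F 2, π s = x.1 ∧
        suMat s = Cfsg.unitaryTransvection 3 2 v 1 := by
      intro x hx hx1
      obtain ⟨s, hs, e⟩ := x.2
      have hx' : (π s) ^ 2 = 1 := by rw [e, ← Subgroup.coe_pow, hx, Subgroup.coe_one]
      have h3 : (π s) ^ 3 = π s := by rw [pow_succ, hx', one_mul]
      have hs2 : (s ^ 3) ^ 2 = 1 := by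
        rw [← pow_mul, mul_comm, pow_mul]
        have hz : s ^ 2 ∈ Z := (hZmem _).mp (by rw [map_pow]; exact hx')
        have := pow_card_eq_one' (G := Z) (x := ⟨_, hz⟩)
        rw [hZ3] at this
        exact congrArg Subtype.val this
      have hne : s ^ 3 ≠ 1 := fun h0 => hx1 (Subtype.ext (by
        rw [← e, ← h3, ← map_pow, h0, map_one, Subgroup.coe_one]))
      obtain ⟨l, hl⟩ := (hmem _).mp (pow_mem hs 3)
      exact ⟨s ^ 3, by rw [map_pow, h3, e], invol_eq_tv hF _ hs2 hne hv0 hv hl.symm⟩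
    intro x y hx hy hx1 hy1
    obtain ⟨s, hs, hs'⟩ := hlift x hx hx1
    obtain ⟨t, ht, ht'⟩ := hlift y hy hy1
    refine Subtype.ext ?_
    rw [← hs, ← ht, show s = t from Subtype.ext (Subtype.ext (hs'.trans ht'.symm))]
  obtain ⟨eQ⟩ := nonempty_mulEquiv_quaternion hHc h4H huniq
  have hQne : ¬ ∀ a b : QuaternionGroup 2, a * b = b * a := by
    intro h
    have := h (QuaternionGroup.a 1) (QuaternionGroup.xa 0)
    rw [QuaternionGroup.a_mul_xa, QuaternionGroup.xa_mul_a] at this
    exact absurd (QuaternionGroup.xa.inj this) (by decide)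
  have hK3 : ∀ x ∈ K, x ^ 3 = 1 := by
    intro x hx
    by_contra h3
    have h9 : x ^ 9 = 1 := by
      have := pow_card_eq_one' (G := K) (x := ⟨x, hx⟩)
      rw [hK9] at this
      exact congrArg Subtype.val this
    haveI : Fact (Nat.Prime 3) := ⟨Nat.prime_three⟩
    have hox : orderOf x = 9 := orderOf_eq_prime_pow (n := 1) (by simpa using h3) h9
    have hKx : Subgroup.zpowers x = K := Subgroup.eq_of_le_of_card_ge (Subgroup.zpowers_le.mpr hx)
      (by rw [Nat.card_zpowers, hox, hK9])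
    have hpow : ∀ h : Cfsg.PSU 3 F 2, ∃ i : ℤ, h * x * h⁻¹ = x ^ i := fun h => by
      have := hKn.conj_mem x hx h
      rw [← hKx] at this
      obtain ⟨i, hi⟩ := Subgroup.mem_zpowers_iff.mp this
      exact ⟨i, hi.symm⟩
    have hfix : ∀ c ∈ H, c * x = x * c → c = 1 := fun c hc hcx => by
      refine hTI x (fun hxH => h3 ?_) c hc (by rw [← hcx, mul_inv_cancel_right]; exact hc)
      have hb : x ∈ K ⊓ H := ⟨hx, hxH⟩
      rw [hKH] at hb
      rw [(Subgroup.mem_bot).mp hb, one_pow]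
    refine hQne fun a b => eQ.symm.injective ?_
    rw [map_mul, map_mul]
    set c := eQ.symm a
    set d := eQ.symm b
    obtain ⟨i, hi⟩ := hpow c
    obtain ⟨j, hj⟩ := hpow d
    have e1 : ∀ (g : Cfsg.PSU 3 F 2) (k : ℤ), g * x ^ k * g⁻¹ = (g * x * g⁻¹) ^ k :=
      fun g k => (conj_zpow (a := g) (b := x) (i := k)).symm
    have key : ((c * d : H) : Cfsg.PSU 3 F 2) * x * ((c * d : H) : Cfsg.PSU 3 F 2)⁻¹ =
        ((d * c : H) : Cfsg.PSU 3 F 2) * x * ((d * c : H) : Cfsg.PSU 3 F 2)⁻¹ := by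
      simp only [Subgroup.coe_mul, _root_.mul_inv_rev]
      calc (c : Cfsg.PSU 3 F 2) * d * x * ((d : Cfsg.PSU 3 F 2)⁻¹ * (c : Cfsg.PSU 3 F 2)⁻¹)
          = c * (d * x * (d : Cfsg.PSU 3 F 2)⁻¹) * (c : Cfsg.PSU 3 F 2)⁻¹ := by group
        _ = (x ^ i) ^ j := by rw [hj, e1, hi]
        _ = (x ^ j) ^ i := by rw [← _root_.zpow_mul, ← _root_.zpow_mul, mul_comm]
        _ = d * (c * x * (c : Cfsg.PSU 3 F 2)⁻¹) * (d : Cfsg.PSU 3 F 2)⁻¹ := by rw [hi, e1, hj]
        _ = d * c * x * ((c : Cfsg.PSU 3 F 2)⁻¹ * (d : Cfsg.PSU 3 F 2)⁻¹) := by group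
    have hcomm : ((d * c : H)⁻¹ * (c * d) : H) = 1 := by
      refine Subtype.ext (hfix _ (SetLike.coe_mem _) ?_)
      set A := ((c * d : H) : Cfsg.PSU 3 F 2)
      set B := ((d * c : H) : Cfsg.PSU 3 F 2)
      rw [Subgroup.coe_mul, Subgroup.coe_inv]
      calc B⁻¹ * A * x = B⁻¹ * (A * x * A⁻¹) * A := by group
        _ = B⁻¹ * (B * x * B⁻¹) * A := by rw [key]
        _ = x * (B⁻¹ * A) := by group
    exact (inv_mul_eq_one.mp hcomm).symm
  let iso : Cfsg.PSU 3 F 2 ⧸ K ≃* QuaternionGroup 2 := (MulEquiv.ofBijective ψ hψ).symm.trans eQ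
  refine ⟨K, hKn, hK9, hK3, ⟨iso⟩, hPSU, ?_⟩
  haveI : Group.IsSolvable K := by
    haveI : Fact (Nat.Prime 3) := ⟨Nat.prime_three⟩
    exact Group.isSolvable_of_comm ((IsPGroup.isMulCommutative_of_card_eq_prime_sq (p := 3) (G := K)
      (by rw [hK9]; norm_num)).is_comm.comm)
  haveI : Group.IsSolvable (QuaternionGroup 2) := by
    haveI : Fact (Nat.Prime 2) := ⟨Nat.prime_two⟩
    haveI := (IsPGroup.of_card (p := 2) (n := 3) (G := QuaternionGroup 2)
      (by rw [Nat.card_eq_fintype_card, QuaternionGroup.card]; rfl)).isNilpotent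
    infer_instance
  haveI : Group.IsSolvable (Cfsg.PSU 3 F 2 ⧸ K) :=
    Group.isSolvable_of_isSolvable_injective (f := iso.toMonoidHom) iso.injective
  exact (Group.isSolvable_iff_subgroup_quotient K).mpr ⟨inferInstance, inferInstance⟩

end CfsgLib.Unitary
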