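import Cfsg.Agent.Classical.InvolutionRing
import Cfsg.Agent.Unitary.Special

/-!
Conjugacy in `GU` is controlled by `GL`.
-/

set_option autoImplicit false
set_option linter.style.haveILetI false

namespace CfsgLib.Unitary

open Matrix CfsgLib.Forms

variable {K : Type*} [Field K] {ν : Type*} [Fintype ν] [DecidableEq ν]

/-- The adjoint for the standard Hermitian form of `σ`. -/
def adj (σ : K →+* K) (M : Matrix ν ν K) : Matrix ν ν K := (M.map σ)ᵀ

theorem adj_mul (σ : K →+* K) (M N : Matrix ν ν K) : adj σ (M * N) = adj σ N * adj σ M := by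
  rw [adj, Matrix.map_mul, Matrix.transpose_mul]
  rfl

theorem adj_one (σ : K →+* K) : adj σ (1 : Matrix ν ν K) = 1 := by
  rw [adj, Matrix.map_one σ σ.map_zero σ.map_one, Matrix.transpose_one]

theorem adj_add (σ : K →+* K) (M N : Matrix ν ν K) : adj σ (M + N) = adj σ M + adj σ N := by
  ext i j
  simp [adj]

theorem adj_smul (σ : K →+* K) (c : K) (M : Matrix ν ν K) : adj σ (c • M) = σ c • adj σ M := by
  ext i j
  simp [adj]

theorem adj_adj {σ : K →+* K} (hσ : ∀ a, σ (σ a) = a) (M : Matrix ν ν K) : adj σ (adj σ M) = M := by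
  ext i j
  simp [adj, hσ]

variable [Finite K]

/-- Hilbert 90 and norms in the algebra generated by a matrix. -/
theorem adjoin_solve {σ : K →+* K} (hσ : ∀ a, σ (σ a) = a) (hσne : σ ≠ RingHom.id K)
    {S S' : Matrix ν ν K} (hS : S * S' = 1) {G : Matrix ν ν K}
    (hJ : S' * adj σ G * S ∈ Algebra.adjoin K {G})
    (hJJ : S' * adj σ (S' * adj σ G * S) * S = G) :
    (∀ T ∈ Algebra.adjoin K {G}, T * (S' * adj σ T * S) = 1 →
      ∃ z w, z ∈ Algebra.adjoin K {G} ∧ z * w = 1 ∧ S' * adj σ z * S * T = z) ∧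
    (∀ h ∈ Algebra.adjoin K {G}, S' * adj σ h * S = h → (∃ k ∈ Algebra.adjoin K {G}, h * k = 1) →
      ∃ z ∈ Algebra.adjoin K {G}, S' * adj σ z * S * z = h) := by
  classical
  set R := Algebra.adjoin K {G} with hR
  set J : Matrix ν ν K → Matrix ν ν K := fun M => S' * adj σ M * S with hJdef
  have hS' : S' * S = 1 := mul_eq_one_comm.1 hS
  have hJmul : ∀ M N, J (M * N) = J N * J M := fun M N => by
    show S' * adj σ (M * N) * S = S' * adj σ N * S * (S' * adj σ M * S)
    rw [adj_mul, show S' * adj σ N * S * (S' * adj σ M * S) = S' * adj σ N * (S * S') * adj σ M * S by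
      simp only [mul_assoc], hS, mul_one]
    simp only [mul_assoc]
  have hJadd : ∀ M N, J (M + N) = J M + J N := fun M N => by
    simp only [hJdef, adj_add, mul_add, add_mul]
  have hJC : ∀ c : K, J (algebraMap K _ c) = algebraMap K _ (σ c) := fun c => by
    simp only [hJdef, Algebra.algebraMap_eq_smul_one, adj_smul, adj_one, mul_smul_comm, mul_one,
      smul_mul_assoc, hS']
  have hJR : ∀ M ∈ R, J M ∈ R := by
    intro M hM
    induction hM using Algebra.adjoin_induction with
    | mem x hx => rw [Set.mem_singleton_iff.1 hx]; exact hJ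
    | algebraMap c => rw [hJC]; exact Subalgebra.algebraMap_mem _ _
    | add x y _ _ hx hy => rw [hJadd]; exact add_mem hx hy
    | mul x y _ _ hx hy => rw [hJmul]; exact mul_mem hy hx
  have hJJR : ∀ M ∈ R, J (J M) = M := by
    intro M hM
    induction hM using Algebra.adjoin_induction with
    | mem x hx => rw [Set.mem_singleton_iff.1 hx]; exact hJJ
    | algebraMap c => rw [hJC, hJC, hσ]
    | add x y _ _ hx hy => rw [hJadd x y, hJadd (J x) (J y), hx, hy]
    | mul x y _ _ hx hy => rw [hJmul x y, hJmul (J y) (J x), hx, hy]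
  have hcomm : ∀ M ∈ R, ∀ N ∈ R, M * N = N * M := by
    have h1 : R ≤ Subalgebra.centralizer K ((Subalgebra.centralizer K ({G} : Set (Matrix ν ν K)) : Set (Matrix ν ν K))) := by
      refine Algebra.adjoin_le ?_
      rintro x hx N hN
      rw [Set.mem_singleton_iff.1 hx]
      exact (hN G rfl).symm
    have h2 : ∀ N ∈ R, N ∈ Subalgebra.centralizer K ({G} : Set (Matrix ν ν K)) := by
      intro N hN
      refine Algebra.adjoin_le ?_ hN
      rintro x hx y hy
      rw [Set.mem_singleton_iff.1 hx, Set.mem_singleton_iff.1 hy]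
    exact fun M hM N hN => (h1 hM N (h2 N hN)).symm
  letI : CommRing R := { (inferInstance : Ring R) with mul_comm := fun a b => Subtype.ext (hcomm _ a.2 _ b.2) }
  haveI : Finite (Matrix ν ν K) := inferInstanceAs (Finite (ν → ν → K))
  let τ : R ≃+* R :=
    { toFun := fun a => ⟨J a.1, hJR _ a.2⟩
      invFun := fun a => ⟨J a.1, hJR _ a.2⟩
      left_inv := fun a => Subtype.ext (hJJR _ a.2)
      right_inv := fun a => Subtype.ext (hJJR _ a.2)
      map_mul' := fun a b => Subtype.ext ((hJmul a.1 b.1).trans (hcomm _ (hJR _ b.2) _ (hJR _ a.2)))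
      map_add' := fun a b => Subtype.ext (hJadd a.1 b.1) }
  have hτ : ∀ x, τ (τ x) = x := fun x => Subtype.ext (hJJR _ x.2)
  obtain ⟨c, hc⟩ : ∃ c, σ c ≠ c := by
    by_contra h; push Not at h; exact hσne (RingHom.ext h)
  set d : R := ⟨algebraMap K _ c, Subalgebra.algebraMap_mem _ _⟩ with hdd
  have hd : IsUnit (d - τ d) := by
    refine IsUnit.of_mul_eq_one ⟨algebraMap K _ (c - σ c)⁻¹, Subalgebra.algebraMap_mem _ _⟩ (Subtype.ext ?_)
    show (algebraMap K (Matrix ν ν K) c - J (algebraMap K _ c)) * algebraMap K _ (c - σ c)⁻¹ = 1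
    rw [hJC, ← map_sub, ← map_mul, mul_inv_cancel₀ (sub_ne_zero.2 (Ne.symm hc)), map_one]
  refine ⟨fun T hT hTT => ?_, fun h hh hfix ⟨k, hk, hhk⟩ => ?_⟩
  · obtain ⟨z, hz, hzT⟩ := CfsgLib.InvolRing.exists_hilbert90 τ hτ hd (T := ⟨T, hT⟩) (Subtype.ext hTT)
    obtain ⟨w, hw⟩ := hz.exists_right_inv
    exact ⟨z.1, w.1, z.2, congrArg Subtype.val hw, congrArg Subtype.val hzT⟩
  · obtain ⟨z, hz⟩ := CfsgLib.InvolRing.exists_norm τ hτ hd (h := ⟨h, hh⟩) (Subtype.ext hfix)
      (IsUnit.of_mul_eq_one ⟨k, hk⟩ (Subtype.ext hhk))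
    exact ⟨z.1, z.2, (hcomm _ (hJR _ z.2) _ z.2).trans (congrArg Subtype.val hz)⟩

/-- Matrices commute with everything generated by a matrix commuting with them. -/
theorem commute_adjoin {A G M : Matrix ν ν K} (h : A * G = G * A) (hM : M ∈ Algebra.adjoin K {G}) :
    A * M = M * A := by
  have h' : M ∈ Subalgebra.centralizer K ({A} : Set (Matrix ν ν K)) := by
    refine Algebra.adjoin_le ?_ hM
    rintro x hx y hy
    rw [Set.mem_singleton_iff.1 hx, Set.mem_singleton_iff.1 hy, h]
  exact h' A rfl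

/-- A self-adjoint invertible matrix is a norm from the algebra it generates. -/
theorem exists_norm_root {σ : K →+* K} (hσ : ∀ a, σ (σ a) = a) (hσne : σ ≠ RingHom.id K)
    {H : Matrix ν ν K} (hH : adj σ H = H) (hu : IsUnit H) :
    ∃ C ∈ Algebra.adjoin K {H}, adj σ C * C = H := by
  have hinv : ∃ k ∈ Algebra.adjoin K {H}, H * k = 1 := by
    obtain ⟨u, rfl⟩ := hu
    haveI : Finite (Matrix ν ν K) := inferInstanceAs (Finite (ν → ν → K))
    refine ⟨(u : Matrix ν ν K) ^ (orderOf u - 1), pow_mem (Algebra.self_mem_adjoin_singleton K _) _, ?_⟩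
    rw [← pow_succ', Nat.sub_add_cancel (orderOf_pos u), ← Units.val_pow_eq_pow_val, pow_orderOf_eq_one,
      Units.val_one]
  have h1 : (1 : Matrix ν ν K) * adj σ H * 1 = H := by rw [one_mul, mul_one, hH]
  obtain ⟨-, hnorm⟩ := adjoin_solve hσ hσne (S := (1 : Matrix ν ν K)) (S' := 1) (one_mul 1) (G := H)
    (by rw [h1]; exact Algebra.self_mem_adjoin_singleton K _) (by rw [h1, h1])
  obtain ⟨z, hz, hzz⟩ := hnorm H (Algebra.self_mem_adjoin_singleton K _) h1 hinv
  exact ⟨z, hz, by simpa using hzz⟩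

variable {σ : K →+* K} (hσ : ∀ a, σ (σ a) = a) (hσne : σ ≠ RingHom.id K)
include hσ hσne

/-- A conjugator can be made unitary. -/
theorem exists_unitary_conj {A B X : Matrix ν ν K} (hA : adj σ A * A = 1) (hB : adj σ B * B = 1)
    (hX : IsUnit X) (hXA : X * A = B * X) :
    ∃ Y : Matrix ν ν K, adj σ Y * Y = 1 ∧ Y * A = B * Y := by
  set H := adj σ X * X with hH
  have hX' : IsUnit (adj σ X) := by
    obtain ⟨u, rfl⟩ := hX
    exact ⟨⟨adj σ u, adj σ (↑u⁻¹ : Matrix ν ν K),
      by rw [← adj_mul, Units.inv_mul, adj_one], by rw [← adj_mul, Units.mul_inv, adj_one]⟩, rfl⟩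
  have hXB : adj σ A * adj σ X = adj σ X * adj σ B := by rw [← adj_mul, ← adj_mul, hXA]
  have hcom : A * H = H * A := by
    have h1 : A * adj σ X = adj σ X * B := by
      have hA' : A * adj σ A = 1 := mul_eq_one_comm.1 hA
      calc A * adj σ X = A * (adj σ X * (adj σ B * B)) := by rw [hB, mul_one]
        _ = A * (adj σ A * adj σ X * B) := by rw [hXB]; simp only [mul_assoc]
        _ = adj σ X * B := by simp only [← mul_assoc, hA', one_mul]
    rw [hH, ← mul_assoc, h1, mul_assoc, mul_assoc, hXA]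
  obtain ⟨C, hC, hCC⟩ := exists_norm_root hσ hσne (H := H) (by rw [hH, adj_mul, adj_adj hσ]) (hX'.mul hX)
  have hAC := commute_adjoin hcom hC
  obtain ⟨C', hCC'⟩ : ∃ C' : Matrix ν ν K, C * C' = 1 := by
    have : IsUnit C.det := by
      have h1 := congrArg Matrix.det hCC
      rw [Matrix.det_mul] at h1
      have h2 : IsUnit ((adj σ C).det * C.det) :=
        h1 ▸ (Matrix.isUnit_iff_isUnit_det H).1 (hX'.mul hX)
      exact (IsUnit.mul_iff.1 h2).2
    exact ((Matrix.isUnit_iff_isUnit_det C).2 this).exists_right_inv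
  have hC'C : C' * C = 1 := mul_eq_one_comm.1 hCC'
  refine ⟨X * C', ?_, ?_⟩
  · rw [adj_mul, show adj σ C' * adj σ X * (X * C') = adj σ C' * (adj σ X * X) * C' by simp only [mul_assoc],
      ← hH, ← hCC, show adj σ C' * (adj σ C * C) * C' = (adj σ C' * adj σ C) * (C * C') by simp only [mul_assoc],
      hCC', mul_one, ← adj_mul, hCC', adj_one]
  · have hAC' : C' * A = A * C' := by
      calc C' * A = C' * A * (C * C') := by rw [hCC', mul_one]
        _ = C' * (A * C) * C' := by simp only [mul_assoc]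
        _ = (C' * C) * A * C' := by rw [hAC]; simp only [mul_assoc]
        _ = A * C' := by rw [hC'C, one_mul]
    rw [mul_assoc, hAC', ← mul_assoc, hXA, mul_assoc]

/-- A matrix similar to its adjoint inverse is similar to a unitary matrix. -/
theorem exists_unitary_similar {A S : Matrix ν ν K} (hS : IsUnit S)
    (hAS : adj σ A * S * A = S) :
    ∃ C : Matrix ν ν K, IsUnit C ∧ ∃ B, adj σ B * B = 1 ∧ C * A = B * C := by
  classical
  obtain ⟨u, rfl⟩ := hS
  set S : Matrix ν ν K := (u : Matrix ν ν K)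
  set S' : Matrix ν ν K := (↑u⁻¹ : Matrix ν ν K) with hS'def
  have hSS' : S * S' = 1 := Units.mul_inv u
  have hS'S : S' * S = 1 := Units.inv_mul u
  have hA' : (S' * adj σ A * S) * A = 1 := by
    rw [mul_assoc, mul_assoc, ← mul_assoc (adj σ A), hAS, hS'S]
  have hAA' : A * (S' * adj σ A * S) = 1 := mul_eq_one_comm.1 hA'
  set T : Matrix ν ν K := S' * adj σ S with hT
  set T' : Matrix ν ν K := adj σ S' * S with hT'
  have hTT' : T * T' = 1 := by
    rw [hT, hT', show S' * adj σ S * (adj σ S' * S) = S' * (adj σ S * adj σ S') * S by simp only [mul_assoc],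
      ← adj_mul, hS'S, adj_one, mul_one, hS'S]
  have hT'T : T' * T = 1 := mul_eq_one_comm.1 hTT'
  have hJT : S' * adj σ T * S = T' := by
    rw [hT, hT', adj_mul, adj_adj hσ, ← mul_assoc S', hS'S, one_mul]
  have hcomTA : A * T = T * A := by
    have h1 : adj σ A * adj σ S * A = adj σ S := by
      have h0 := congrArg (adj σ) hAS
      rw [adj_mul, adj_mul, adj_adj hσ, ← mul_assoc] at h0
      exact h0
    calc A * T = A * (S' * (adj σ A * adj σ S * A)) := by rw [h1]
      _ = A * (S' * adj σ A * (S * S') * adj σ S * A) := by rw [hSS', mul_one]; simp only [mul_assoc]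
      _ = (A * (S' * adj σ A * S)) * (S' * adj σ S) * A := by simp only [mul_assoc]
      _ = T * A := by rw [hAA', one_mul]
  have hTmem : T' ∈ Algebra.adjoin K {T} := by
    haveI : Finite (Matrix ν ν K) := inferInstanceAs (Finite (ν → ν → K))
    let v : (Matrix ν ν K)ˣ := ⟨T, T', hTT', hT'T⟩
    have h1 : T' = T ^ (orderOf v - 1) := by
      refine left_inv_eq_right_inv hT'T ?_
      rw [← pow_succ', Nat.sub_add_cancel (orderOf_pos v)]
      exact congrArg Units.val (pow_orderOf_eq_one v)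
    rw [h1]
    exact pow_mem (Algebra.self_mem_adjoin_singleton K _) _
  obtain ⟨h90, -⟩ := adjoin_solve hσ hσne hSS' (G := T) (by rw [hJT]; exact hTmem) (by
    rw [hJT, hT', adj_mul, adj_adj hσ,
      show S' * (adj σ S * S') * S = S' * adj σ S * (S' * S) by simp only [mul_assoc], hS'S, mul_one])
  obtain ⟨z, w, hz, hzw, hzT⟩ := h90 T (Algebra.self_mem_adjoin_singleton K _) (by rw [hJT, hTT'])
  set H := S * z with hH
  have hHadj : adj σ H = H := by
    rw [hH, adj_mul]
    conv_rhs => rw [← hzT, hT]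
    rw [show S * (S' * adj σ z * S * (S' * adj σ S)) = (S * S') * adj σ z * (S * S') * adj σ S by
      simp only [mul_assoc], hSS', one_mul, mul_one]
  have hHu : IsUnit H := (Units.isUnit u).mul (IsUnit.of_mul_eq_one w hzw)
  have hHA : adj σ A * H * A = H := by
    have hAz := commute_adjoin hcomTA hz
    rw [hH, show adj σ A * (S * z) * A = adj σ A * S * (z * A) by simp only [mul_assoc], ← hAz,
      ← mul_assoc, hAS]
  obtain ⟨C, -, hCC⟩ := exists_norm_root hσ hσne hHadj hHu
  have hCu : IsUnit C := by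
    rw [Matrix.isUnit_iff_isUnit_det]
    have h1 := congrArg Matrix.det hCC
    rw [Matrix.det_mul] at h1
    have h2 : IsUnit ((adj σ C).det * C.det) := h1 ▸ (Matrix.isUnit_iff_isUnit_det H).1 hHu
    exact (IsUnit.mul_iff.1 h2).2
  obtain ⟨c, rfl⟩ := hCu
  refine ⟨c, Units.isUnit c, (c : Matrix ν ν K) * A * (↑c⁻¹ : Matrix ν ν K), ?_, ?_⟩
  · rw [adj_mul, adj_mul, show adj σ (↑c⁻¹ : Matrix ν ν K) * (adj σ A * adj σ (c : Matrix ν ν K)) *
      ((c : Matrix ν ν K) * A * (↑c⁻¹ : Matrix ν ν K)) =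
      adj σ (↑c⁻¹ : Matrix ν ν K) * (adj σ A * (adj σ (c : Matrix ν ν K) * (c : Matrix ν ν K)) * A) * (↑c⁻¹ : Matrix ν ν K) by
        simp only [mul_assoc], hCC, hHA, ← hCC,
      show adj σ (↑c⁻¹ : Matrix ν ν K) * (adj σ (c : Matrix ν ν K) * (c : Matrix ν ν K)) * (↑c⁻¹ : Matrix ν ν K) =
        (adj σ (↑c⁻¹ : Matrix ν ν K) * adj σ (c : Matrix ν ν K)) * ((c : Matrix ν ν K) * (↑c⁻¹ : Matrix ν ν K)) by
          simp only [mul_assoc], ← adj_mul, Units.mul_inv, adj_one, one_mul]
  · rw [mul_assoc, mul_assoc, Units.inv_mul, mul_one]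

end CfsgLib.Unitary

namespace CfsgLib.Unitary

open Matrix CfsgLib.Forms

variable {K : Type*} [Field K] [Finite K] {q n : ℕ} (hK : Nat.card K = q ^ 2)
include hK

theorem mem_GU_iff_adj {g : Matrix.GeneralLinearGroup (Fin n) K} :
    g ∈ Cfsg.GU n K q ↔
      adj (frobQ hK) (g : Matrix (Fin n) (Fin n) K) * (g : Matrix (Fin n) (Fin n) K) = 1 := by
  set M := (g : Matrix (Fin n) (Fin n) K)
  have hq : q ≠ 0 := by have := two_le_q hK; omega
  have key : ∀ u v : Fin n → K, Cfsg.hermForm n K q (M *ᵥ u) (M *ᵥ v) =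
      u ⬝ᵥ ((Mᵀ * M.map (frobQ hK)) *ᵥ fun j => frobQ hK (v j)) := by
    intro u v
    rw [← mulVec_mulVec, dotProduct_mulVec, Matrix.vecMul_transpose]
    refine Finset.sum_congr rfl fun i _ => ?_
    congr 1
    rw [← frobQ_apply hK]
    simp [Matrix.mulVec, dotProduct]
  rw [mem_GU_iff]
  constructor
  · intro h
    have h1 : Mᵀ * M.map (frobQ hK) = 1 := by
      ext i j
      have h2 := h (Pi.single i 1) (Pi.single j 1)
      rw [key] at h2
      have h3 : (fun k => frobQ hK ((Pi.single j 1 : Fin n → K) k)) = Pi.single j 1 := by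
        funext k
        rcases eq_or_ne k j with rfl | hk
        · simp
        · simp [Pi.single_eq_of_ne hk]
      rw [h3, mulVec_single, single_dotProduct, one_mul] at h2
      simp [Cfsg.hermForm, Pi.single_apply, hq] at h2
      rw [h2, Matrix.one_apply]
      rcases eq_or_ne i j with rfl | hij <;> simp_all [Ne.symm]
    have h4 := congrArg (fun N : Matrix (Fin n) (Fin n) K => N.map (frobQ hK)) h1
    simp only [Matrix.map_mul, Matrix.map_one _ (map_zero (frobQ hK)) (map_one (frobQ hK))] at h4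
    rw [Matrix.transpose_map] at h4
    rw [adj, ← h4]
    congr 1
    ext i j
    simp [frobQ_invol]
  · intro h u v
    have h1 : Mᵀ * M.map (frobQ hK) = 1 := by
      have h4 := congrArg (fun N : Matrix (Fin n) (Fin n) K => N.map (frobQ hK)) h
      simp only [Matrix.map_mul, Matrix.map_one _ (map_zero (frobQ hK)) (map_one (frobQ hK))] at h4
      rw [← h4, adj]
      congr 1
      ext i j
      simp [frobQ_invol]
    rw [key, h1, one_mulVec]
    exact Finset.sum_congr rfl fun i _ => by simp only [frobQ_apply]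

theorem isConj_iff_GL (A B : Cfsg.GU n K q) :
    IsConj A B ↔ IsConj (A : GL (Fin n) K) (B : GL (Fin n) K) := by
  refine ⟨fun h => MonoidHom.map_isConj (Cfsg.GU n K q).subtype h, fun h => ?_⟩
  obtain ⟨c, hc⟩ := h
  obtain ⟨Y, hY, hYA⟩ := exists_unitary_conj (frobQ_invol hK) (frobQ_ne_id hK)
    ((mem_GU_iff_adj hK).1 A.2) ((mem_GU_iff_adj hK).1 B.2) (X := ((c : GL (Fin n) K) : Matrix (Fin n) (Fin n) K))
    (Units.isUnit _) (congrArg Units.val hc)
  let y : GL (Fin n) K := ⟨Y, adj (frobQ hK) Y, mul_eq_one_comm.1 hY, hY⟩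
  have hy : y ∈ Cfsg.GU n K q := (mem_GU_iff_adj hK).2 hY
  exact ⟨⟨⟨y, hy⟩, ⟨y, hy⟩⁻¹, mul_inv_cancel _, inv_mul_cancel _⟩, Subtype.ext (Units.ext hYA)⟩

theorem exists_GU_conj_iff (A : GL (Fin n) K) :
    (∃ B : Cfsg.GU n K q, IsConj A (B : GL (Fin n) K)) ↔
      IsConj (A : Matrix (Fin n) (Fin n) K)
        (adj (frobQ hK) (A : Matrix (Fin n) (Fin n) K))⁻¹ := by
  constructor
  · rintro ⟨B, c, hc⟩
    set C : Matrix (Fin n) (Fin n) K := ((c : GL (Fin n) K) : Matrix (Fin n) (Fin n) K) with hC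
    set M : Matrix (Fin n) (Fin n) K := (A : Matrix (Fin n) (Fin n) K)
    have h1 : C * M = ((B : GL (Fin n) K) : Matrix (Fin n) (Fin n) K) * C := congrArg Units.val hc
    set S := adj (frobQ hK) C * C with hS
    have hSu : IsUnit S := by
      obtain ⟨C', hC1⟩ : ∃ C', C * C' = 1 := (Units.isUnit (c : GL (Fin n) K)).exists_right_inv
      refine IsUnit.of_mul_eq_one (C' * adj (frobQ hK) C') ?_
      rw [hS, show adj (frobQ hK) C * C * (C' * adj (frobQ hK) C') =
        adj (frobQ hK) C * (C * C') * adj (frobQ hK) C' by simp only [mul_assoc], hC1, mul_one,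
        ← adj_mul, mul_eq_one_comm.1 hC1, adj_one]
    have hASA : adj (frobQ hK) M * S * M = S := by
      rw [hS, show adj (frobQ hK) M * (adj (frobQ hK) C * C) * M =
        (adj (frobQ hK) M * adj (frobQ hK) C) * (C * M) by simp only [mul_assoc], ← adj_mul, h1, adj_mul,
        show ∀ X Y Z W : Matrix (Fin n) (Fin n) K, X * Y * (Z * W) = X * (Y * Z) * W from
          fun X Y Z W => by simp only [mul_assoc], (mem_GU_iff_adj hK).1 B.2, mul_one]
    have hdet : IsUnit (adj (frobQ hK) M).det := by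
      refine isUnit_iff_ne_zero.2 fun h0 => ?_
      have h2 := congrArg Matrix.det hASA
      rw [Matrix.det_mul, Matrix.det_mul, h0, zero_mul, zero_mul] at h2
      exact ((Matrix.isUnit_iff_isUnit_det S).1 hSu).ne_zero h2.symm
    obtain ⟨s, hs⟩ := hSu
    refine ⟨s, ?_⟩
    show (s : Matrix (Fin n) (Fin n) K) * M = (adj (frobQ hK) M)⁻¹ * s
    rw [hs]
    conv_rhs => rw [← hASA]
    rw [← mul_assoc, ← mul_assoc, Matrix.nonsing_inv_mul _ hdet, one_mul]
  · rintro ⟨s, hs⟩
    set M : Matrix (Fin n) (Fin n) K := (A : Matrix (Fin n) (Fin n) K) with hM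
    have hdet : IsUnit (adj (frobQ hK) M).det := by
      obtain ⟨M', hM1⟩ : ∃ M', M * M' = 1 := (Units.isUnit A).exists_right_inv
      exact (Matrix.isUnit_iff_isUnit_det _).1
        (IsUnit.of_mul_eq_one (adj (frobQ hK) M') (by rw [← adj_mul, mul_eq_one_comm.1 hM1, adj_one]))
    obtain ⟨C, hC, B, hB, hCB⟩ := exists_unitary_similar (frobQ_invol hK) (frobQ_ne_id hK) (A := M)
      (Units.isUnit s) (by
        rw [mul_assoc, hs.eq, ← mul_assoc, Matrix.mul_nonsing_inv _ hdet, one_mul])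
    let b : GL (Fin n) K := ⟨B, adj (frobQ hK) B, mul_eq_one_comm.1 hB, hB⟩
    obtain ⟨c, rfl⟩ := hC
    exact ⟨⟨b, (mem_GU_iff_adj hK).2 hB⟩,
      ⟨c, c⁻¹, mul_inv_cancel _, inv_mul_cancel _⟩, Units.ext hCB⟩

end CfsgLib.Unitary
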