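import Cfsg.Agent.Unitary.Generation
import Cfsg.Agent.Classical.LinearOrder
import Mathlib.FieldTheory.Finite.GaloisField

/-!
`SU₂(q) ≅ SL₂(q)`.
-/

set_option autoImplicit false
set_option linter.style.haveILetI false

namespace CfsgLib.Unitary

open Matrix CfsgLib.Forms

variable {F : Type*} [Field F] [Finite F] {q : ℕ} (hF : Nat.card F = q ^ 2)

include hF in
/-- The field of order `q` embeds in the field of order `q²`. -/
theorem exists_subfield_hom {K : Type*} [Field K] [Finite K] (hK : Nat.card K = q) :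
    ∃ ι : K →+* F, ∀ a, ι a ^ q = ι a := by
  haveI := Fintype.ofFinite K
  obtain ⟨p, k, hcp, hp, hqk⟩ := exists_charP_pow hF
  haveI : Fact p.Prime := ⟨hp⟩
  have hKp : CharP K p := by
    obtain ⟨p', hp'⟩ := CharP.exists K
    haveI := hp'
    obtain ⟨j, hp'p, hj⟩ := FiniteField.card K p'
    have hdvd : p' ∣ p ^ k := by
      rw [← hqk, ← hK, Nat.card_eq_fintype_card, hj]
      exact dvd_pow_self p' j.pos.ne'
    rwa [← (Nat.prime_dvd_prime_iff_eq hp'p hp).mp (hp'p.dvd_of_dvd_pow hdvd)]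
  letI := ZMod.algebra K p
  letI := ZMod.algebra F p
  have h1 := Module.natCard_eq_pow_finrank (K := ZMod p) (V := K)
  have h2 := Module.natCard_eq_pow_finrank (K := ZMod p) (V := F)
  rw [Nat.card_zmod, hK, hqk] at h1
  rw [Nat.card_zmod, hF, hqk, ← pow_mul] at h2
  have e1 := Nat.pow_right_injective hp.two_le h1
  have e2 := Nat.pow_right_injective hp.two_le h2
  obtain ⟨f⟩ := FiniteField.nonempty_algHom_of_finrank_dvd (F := ZMod p) (K := K) (L := F)
    (Dvd.intro 2 (by rw [← e1, ← e2]))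
  refine ⟨f.toRingHom, fun a => ?_⟩
  rw [← map_pow, ← hK, Nat.card_eq_fintype_card, FiniteField.pow_card]

include hF in
theorem exists_hyperbolic_two : ∃ P : Matrix (Fin 2) (Fin 2) F, IsUnit P.det ∧
    ∀ u v, Cfsg.hermForm 2 F q (P *ᵥ u) (P *ᵥ v) = u 0 * v 1 ^ q + u 1 * v 0 ^ q := by
  haveI := Fintype.ofFinite F
  classical
  have hm1 : (-1 : F) ^ q = -1 := by rw [← frobQ_apply hF, map_neg, map_one]
  obtain ⟨l, hl⟩ := exists_norm_eq hF hm1
  obtain ⟨t, ht⟩ := exists_trace_eq hF (one_pow q)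
  have hcard := card_norm_fiber hF (μ := (-1 : F)) (neg_ne_zero.mpr one_ne_zero) hm1
  rw [Nat.card_eq_fintype_card] at hcard
  obtain ⟨⟨l', hl'⟩, hne⟩ := Fintype.exists_ne_of_one_lt_card
    (show 1 < Fintype.card {x : F // x ^ (q + 1) = -1} by have := two_le_q hF; omega) ⟨l, hl⟩
  have hll : l' ≠ l := fun e => hne (Subtype.ext e)
  rw [pow_succ] at hl hl'
  set z := 1 + l * l' ^ q with hz
  have hz0 : z ≠ 0 := by
    intro h
    have h1 : (l - l') * l' ^ q = 0 := by linear_combination h - hl'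
    rcases mul_eq_zero.mp h1 with h2 | h2
    · exact hll (sub_eq_zero.mp h2).symm
    · rw [hz, h2, mul_zero, add_zero] at h; exact one_ne_zero h
  set w := (z⁻¹) ^ q with hw
  refine ⟨!![1, w; l, w * l'], ?_, fun u v => ?_⟩
  · rw [isUnit_iff_ne_zero, Matrix.det_fin_two_of]
    intro h
    have : w * (l' - l) = 0 := by linear_combination h
    rcases mul_eq_zero.mp this with h1 | h1
    · exact pow_ne_zero q (inv_ne_zero hz0) h1
    · exact sub_ne_zero.mpr hll h1
  · have hzi : z⁻¹ * z = 1 := inv_mul_cancel₀ hz0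
    have hwq : w ^ q = z⁻¹ := pow_q_q hF _
    have hzq : z ^ q * w = 1 := by rw [hw, ← mul_pow, mul_inv_cancel₀ hz0, one_pow]
    have hzq' : z ^ q = 1 + l ^ q * l' := by
      rw [hz, add_pow_q hF, one_pow, mul_pow, pow_q_q hF]
    rw [hz] at hzi
    rw [hzq'] at hzq
    simp only [Cfsg.hermForm, Fin.sum_univ_two, Matrix.mulVec, dotProduct, Matrix.of_apply,
      Matrix.cons_val_zero, Matrix.cons_val_one, add_pow_q hF, mul_pow, one_pow, hwq]
    linear_combination (u 0 * v 1 ^ q) * hzi + (u 1 * v 0 ^ q) * hzq +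
      (u 0 * v 0 ^ q) * hl + (u 1 * v 1 ^ q * w * z⁻¹) * hl'

include hF in
theorem su_two_iso {K : Type*} [Field K] [Finite K] (hK : Nat.card K = q) :
    Nonempty (Cfsg.SU 2 F q ≃* Matrix.SpecialLinearGroup (Fin 2) K) := by
  haveI := Fintype.ofFinite F
  haveI := Fintype.ofFinite K
  classical
  obtain ⟨ι, hι⟩ := exists_subfield_hom hF hK
  obtain ⟨c0, hc0, hc0t⟩ := exists_skew hF
  have hc0q : c0 ^ q = -c0 := by linear_combination hc0t
  obtain ⟨P, hP, hform⟩ := exists_hyperbolic_two hF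
  let D : Matrix (Fin 2) (Fin 2) F := !![c0, 0; 0, 1]
  have hD : IsUnit D.det := by simp [D, hc0]
  have hPD : IsUnit (P * D).det := by rw [Matrix.det_mul]; exact hP.mul hD
  let U := Matrix.GeneralLinearGroup.mk'' (P * D) hPD
  have hpres : ∀ A : Matrix.SpecialLinearGroup (Fin 2) K, ∀ x y,
      Cfsg.hermForm 2 F q ((U.1 * (A.1.map ι) * (U⁻¹).1) *ᵥ x)
        ((U.1 * (A.1.map ι) * (U⁻¹).1) *ᵥ y) = Cfsg.hermForm 2 F q x y := by
    intro A x y
    have hx : x = U.1 *ᵥ ((U⁻¹).1 *ᵥ x) := by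
      rw [Matrix.mulVec_mulVec, Units.mul_inv, Matrix.one_mulVec]
    have hy : y = U.1 *ᵥ ((U⁻¹).1 *ᵥ y) := by
      rw [Matrix.mulVec_mulVec, Units.mul_inv, Matrix.one_mulVec]
    simp only [← Matrix.mulVec_mulVec]
    conv_rhs => rw [hx, hy]
    change Cfsg.hermForm 2 F q ((P * D) *ᵥ _) ((P * D) *ᵥ _) =
      Cfsg.hermForm 2 F q ((P * D) *ᵥ _) ((P * D) *ᵥ _)
    rw [← Matrix.mulVec_mulVec, ← Matrix.mulVec_mulVec, ← Matrix.mulVec_mulVec,
      ← Matrix.mulVec_mulVec, hform, hform]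
    set u := (U⁻¹).1 *ᵥ x
    set v := (U⁻¹).1 *ᵥ y
    have hdet := congrArg ι A.2
    rw [Matrix.det_fin_two, map_sub, map_mul, map_mul, map_one] at hdet
    simp only [D, Matrix.mulVec, dotProduct, Fin.sum_univ_two, Matrix.of_apply,
      Matrix.cons_val_zero, Matrix.cons_val_one, Matrix.map_apply, zero_mul, one_mul, add_zero,
      zero_add, mul_pow, add_pow_q hF, hι, hc0q]
    linear_combination (c0 * (u 0 * v 1 ^ q) - c0 * (u 1 * v 0 ^ q)) * hdet
  let φ : Matrix.SpecialLinearGroup (Fin 2) K →* Cfsg.SU 2 F q :=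
    { toFun := fun A => ⟨⟨U.1 * A.1.map ι * (U⁻¹).1, by
          rw [Matrix.det_mul, Matrix.det_mul, mul_right_comm, ← Matrix.det_mul, Units.mul_inv,
            Matrix.det_one, one_mul, ← RingHom.mapMatrix_apply, ← RingHom.map_det, A.2, map_one]⟩,
        hpres A⟩
      map_one' := Subtype.ext (Subtype.ext (by
        change U.1 * (1 : Matrix (Fin 2) (Fin 2) K).map ι * (U⁻¹).1 = 1
        rw [Matrix.map_one ι ι.map_zero ι.map_one, mul_one, Units.mul_inv]))
      map_mul' := fun A B => Subtype.ext (Subtype.ext (by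
        change U.1 * (A.1 * B.1).map ι * (U⁻¹).1 =
          U.1 * A.1.map ι * (U⁻¹).1 * (U.1 * B.1.map ι * (U⁻¹).1)
        rw [Matrix.map_mul]
        simp only [mul_assoc]
        rw [← mul_assoc (U⁻¹).1 U.1, Units.inv_mul, one_mul])) }
  have hinj : Function.Injective φ := by
    intro A B e
    have h : U.1 * A.1.map ι * (U⁻¹).1 = U.1 * B.1.map ι * (U⁻¹).1 :=
      congrArg (fun g : Cfsg.SU 2 F q => (g.1.1 : Matrix (Fin 2) (Fin 2) F)) e
    rw [Units.mul_left_inj, Units.mul_right_inj] at h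
    refine Subtype.ext (Matrix.ext fun i j => ι.injective ?_)
    exact congrFun (congrFun h i) j
  have hcard : Nat.card (Cfsg.SU 2 F q) = Nat.card (Matrix.SpecialLinearGroup (Fin 2) K) := by
    have h1 := card_SU_mul hF (n := 2) (by norm_num)
    rw [card_GU hF] at h1
    have h2 := CfsgLib.Linear.card_SL_mul (F := K) (q := q)
      (by rw [← Nat.card_eq_fintype_card, hK]) 2 (by norm_num)
    simp only [Finset.prod_range_succ, Finset.prod_range_zero, Fin.prod_univ_two, Fin.val_zero,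
      Fin.val_one, pow_zero, pow_one, one_mul] at h1 h2
    norm_num [-Nat.card_eq_fintype_card] at h1 h2
    have hq := two_le_q hF
    obtain ⟨r, rfl⟩ : ∃ r, q = r + 2 := ⟨q - 2, by omega⟩
    have e1 : (r + 2) ^ 2 - 1 = (r + 1) * (r + 3) := by
      rw [Nat.sub_eq_iff_eq_add (Nat.one_le_pow _ _ (by omega))]; ring
    have e2 : (r + 2) ^ 2 - (r + 2) = (r + 2) * (r + 1) := by
      rw [Nat.sub_eq_iff_eq_add (Nat.le_self_pow two_ne_zero _)]; ring
    have e3 : r + 2 - 1 = r + 1 := by omega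
    rw [e1] at h1
    rw [e1, e2, e3] at h2
    apply Nat.eq_of_mul_eq_mul_left (show 0 < (r + 3) * (r + 1) by positivity)
    calc (r + 3) * (r + 1) * Nat.card (Cfsg.SU 2 F (r + 2))
        = (r + 1) * ((r + 2 + 1) * Nat.card (Cfsg.SU 2 F (r + 2))) := by ring
      _ = (r + 3) * ((r + 1) * Nat.card (Matrix.SpecialLinearGroup (Fin 2) K)) := by
            rw [h1, h2]; ring
      _ = _ := by ring
  exact ⟨(MulEquiv.ofBijective φ
    ((Nat.bijective_iff_injective_and_card φ).mpr ⟨hinj, hcard.symm⟩)).symm⟩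

end CfsgLib.Unitary
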