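import Cfsg.Prelude.Def_LieClassical
import Cfsg.Agent.Forms.Witt
import Cfsg.Agent.Forms.OfBilin
import Cfsg.Agent.Forms.FiniteQ

/-!
The unitary groups of the standard Hermitian form: membership, counting, orders.
-/

set_option autoImplicit false
set_option linter.style.haveILetI false

namespace CfsgLib.Unitary

open Matrix CfsgLib.Forms

variable {F : Type*} [Field F] [Finite F] {q : ℕ} (hF : Nat.card F = q ^ 2)

theorem herm_add_left (n : ℕ) (u v w : Fin n → F) :
    Cfsg.hermForm n F q (u + v) w = Cfsg.hermForm n F q u w + Cfsg.hermForm n F q v w := by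
  simp [Cfsg.hermForm, add_mul, Finset.sum_add_distrib]

theorem herm_smul_left (n : ℕ) (c : F) (u w : Fin n → F) :
    Cfsg.hermForm n F q (c • u) w = c * Cfsg.hermForm n F q u w := by
  simp [Cfsg.hermForm, Finset.mul_sum, mul_assoc]

/-- The standard Hermitian form as a reflexive form. -/
def uForm (n : ℕ) : RForm F (Fin n → F) where
  h := Cfsg.hermForm n F q
  σ := frobQ hF
  ε := 1
  σσ := frobQ_invol hF
  εσε := by simp
  add_left := herm_add_left n
  smul_left := herm_smul_left n
  swap u v := by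
    simp [Cfsg.hermForm, frobQ_apply, mul_pow, map_sum, pow_q_q hF, mul_comm]
  trace_valued v := by
    obtain ⟨t, ht⟩ := exists_add_σ_eq_one (frobQ_ne_id hF) (frobQ_invol hF)
    refine ⟨t * Cfsg.hermForm n F q v v, ?_⟩
    have : frobQ hF (Cfsg.hermForm n F q v v) = Cfsg.hermForm n F q v v := by
      simp [Cfsg.hermForm, map_sum, frobQ_apply, mul_pow, pow_q_q hF, mul_comm]
    rw [one_mul, map_mul, this, ← add_mul, ht, one_mul]

theorem uForm_h (n : ℕ) : (uForm hF n).h = Cfsg.hermForm n F q := rfl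

theorem uForm_σ (n : ℕ) (a : F) : (uForm hF n).σ a = a ^ q := rfl

omit [Finite F] in
theorem herm_single_left (n : ℕ) (i : Fin n) (v : Fin n → F) :
    Cfsg.hermForm n F q (Pi.single i 1) v = v i ^ q := by
  simp [Cfsg.hermForm, Pi.single_apply]

theorem uForm_nondeg (n : ℕ) : (uForm hF n).Nondeg := fun v hv => by
  funext i
  have := hv (Pi.single i 1)
  rw [uForm_h, herm_single_left] at this
  exact eq_zero_of_pow_eq_zero this

/-- A linear automorphism as an element of GL. -/
noncomputable def glOfEquiv {n : ℕ} (g : (Fin n → F) ≃ₗ[F] (Fin n → F)) :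
    Matrix.GeneralLinearGroup (Fin n) F where
  val := LinearMap.toMatrix' g.toLinearMap
  inv := LinearMap.toMatrix' g.symm.toLinearMap
  val_inv := by rw [← LinearMap.toMatrix'_comp]; simp
  inv_val := by rw [← LinearMap.toMatrix'_comp]; simp

omit [Finite F] in
theorem glOfEquiv_mulVec {n : ℕ} (g : (Fin n → F) ≃ₗ[F] (Fin n → F)) (v : Fin n → F) :
    (glOfEquiv g : Matrix (Fin n) (Fin n) F) *ᵥ v = g v := LinearMap.toMatrix'_mulVec _ _

omit [Finite F] in
theorem mem_GU_iff {n : ℕ} {g : Matrix.GeneralLinearGroup (Fin n) F} :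
    g ∈ Cfsg.GU n F q ↔ ∀ u v, Cfsg.hermForm n F q ((g : Matrix (Fin n) (Fin n) F) *ᵥ u)
      ((g : Matrix (Fin n) (Fin n) F) *ᵥ v) = Cfsg.hermForm n F q u v := Iff.rfl

include hF in
theorem exists_GU_family {n k : ℕ} (v w : Fin k → Fin n → F) (hv : LinearIndependent F v)
    (hw : LinearIndependent F w)
    (h : ∀ i j, Cfsg.hermForm n F q (v i) (v j) = Cfsg.hermForm n F q (w i) (w j)) :
    ∃ g : Cfsg.GU n F q,
      ∀ i, ((g : Matrix.GeneralLinearGroup (Fin n) F) : Matrix (Fin n) (Fin n) F) *ᵥ v i = w i := by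
  obtain ⟨g, hg, hgv⟩ := (uForm hF n).exists_map_family (uForm_nondeg hF n) v w hv hw h
  refine ⟨⟨glOfEquiv g, mem_GU_iff.mpr fun a b => ?_⟩, fun i => ?_⟩
  · rw [glOfEquiv_mulVec, glOfEquiv_mulVec]; exact hg a b
  · rw [glOfEquiv_mulVec]; exact hgv i

omit [Finite F] in
theorem herm_cons (n : ℕ) (x y : F) (u v : Fin n → F) :
    Cfsg.hermForm (n + 1) F q (Fin.cons x u) (Fin.cons y v) =
      x * y ^ q + Cfsg.hermForm n F q u v := by
  simp [Cfsg.hermForm, Fin.sum_univ_succ]

/-! Counting vectors of given length -/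

/-- Number of vectors with `h(v,v) = a`. -/
noncomputable def numLen (F : Type*) [Field F] (q n : ℕ) (a : F) : ℕ :=
  Nat.card {v : Fin n → F // Cfsg.hermForm n F q v v = a}

include hF in
theorem herm_self_fixed {n : ℕ} (v : Fin n → F) :
    (Cfsg.hermForm n F q v v) ^ q = Cfsg.hermForm n F q v v := by
  have h1 := (uForm hF n).swap v v
  simp only [uForm_h] at h1
  have h2 : (uForm hF n).ε = 1 := rfl
  rw [h2, one_mul, uForm_σ] at h1
  exact h1.symm

include hF in
theorem numLen_succ (n : ℕ) (a : F) (ha : a ^ q = a) :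
    (numLen F q (n + 1) a : ℤ) = (q + 1) * (q : ℤ) ^ (2 * n) - q * numLen F q n a := by
  classical
  haveI := Fintype.ofFinite F
  have e : {v : Fin (n + 1) → F // Cfsg.hermForm (n + 1) F q v v = a} ≃
      Σ u : Fin n → F, {x : F // x ^ (q + 1) = a - Cfsg.hermForm n F q u u} :=
    { toFun := fun v => ⟨Fin.tail v.1, v.1 0, by
        have := v.2
        rw [← Fin.cons_self_tail v.1, herm_cons] at this
        rw [pow_succ']; linear_combination this⟩
      invFun := fun p => ⟨Fin.cons p.2.1 p.1, by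
        have := p.2.2
        rw [pow_succ'] at this
        rw [herm_cons, this]; ring⟩
      left_inv := fun v => Subtype.ext (Fin.cons_self_tail v.1)
      right_inv := fun p => by rcases p with ⟨u, x, hx⟩; rfl }
  have hfib : ∀ u : Fin n → F,
      (Nat.card {x : F // x ^ (q + 1) = a - Cfsg.hermForm n F q u u} : ℤ) =
        (q + 1) - if Cfsg.hermForm n F q u u = a then (q : ℤ) else 0 := by
    intro u
    split_ifs with h
    · have : Nat.card {x : F // x ^ (q + 1) = a - Cfsg.hermForm n F q u u} = 1 :=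
        Nat.card_eq_one_iff_exists.mpr ⟨⟨0, by simp [h]⟩, fun y => Subtype.ext
          (eq_zero_of_pow_eq_zero (by rw [y.2, h, sub_self]))⟩
      rw [this]; push_cast; ring
    · rw [card_norm_fiber hF (μ := a - Cfsg.hermForm n F q u u) (sub_ne_zero.mpr (Ne.symm h))]
      · push_cast; ring
      · have h1 : frobQ hF (a - Cfsg.hermForm n F q u u) = a - Cfsg.hermForm n F q u u := by
          rw [map_sub, frobQ_apply, frobQ_apply, ha, herm_self_fixed hF]
        exact h1
  rw [numLen, Nat.card_congr e, Nat.card_sigma]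
  push_cast
  rw [Finset.sum_congr rfl fun u _ => hfib u, Finset.sum_sub_distrib, Finset.sum_const,
    ← Finset.sum_filter, Finset.sum_const, Finset.card_univ, Fintype.card_pi_const,
    nsmul_eq_mul, nsmul_eq_mul, numLen, Nat.card_eq_fintype_card, Fintype.card_subtype,
    ← Nat.card_eq_fintype_card, hF]
  push_cast
  ring

include hF in
theorem numLen_one (n : ℕ) :
    (q : ℤ) * numLen F q n 1 = (q : ℤ) ^ n * ((q : ℤ) ^ n - (-1) ^ n) := by
  induction n with
  | zero =>
    haveI : IsEmpty {v : Fin 0 → F // Cfsg.hermForm 0 F q v v = 1} :=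
      ⟨fun v => zero_ne_one (α := F) (by simpa [Cfsg.hermForm] using v.2)⟩
    simp [numLen]
  | succ n ih =>
    rw [numLen_succ hF n 1 (one_pow q), mul_sub, ih]
    ring

include hF in
theorem numLen_zero (n : ℕ) :
    (q : ℤ) * numLen F q n 0 = (q : ℤ) ^ n * ((q : ℤ) ^ n + (-1) ^ n * ((q : ℤ) - 1)) := by
  induction n with
  | zero =>
    have : numLen F q 0 (0 : F) = 1 := Nat.card_eq_one_iff_exists.mpr
      ⟨⟨0, by simp [Cfsg.hermForm]⟩, fun y => Subtype.ext (Subsingleton.elim _ _)⟩
    rw [this]; push_cast; ring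
  | succ n ih =>
    rw [numLen_succ hF n 0 (zero_pow (by have := two_le_q hF; omega)), mul_sub, ih]
    ring

include hF in
theorem numLen_one_succ (n : ℕ) :
    (numLen F q (n + 1) 1) = q ^ n * if Even n then q ^ (n + 1) + 1 else q ^ (n + 1) - 1 := by
  have h := numLen_one hF (n + 1)
  have hq := two_le_q hF
  have h1 : 1 ≤ q ^ (n + 1) := Nat.one_le_pow _ _ (by omega)
  zify
  apply mul_left_cancel₀ (show (q : ℤ) ≠ 0 by exact_mod_cast (by omega : q ≠ 0))
  rw [h, ← mul_assoc, ← pow_succ']
  congr 1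
  split_ifs with he
  · rw [Odd.neg_one_pow (Even.add_one he)]; push_cast; ring
  · rw [Even.neg_one_pow (Nat.even_add_one.mpr he), Nat.cast_sub h1]; push_cast; ring

/-! The stabiliser of a vector of length one -/

/-- Extend an automorphism by fixing the first coordinate. -/
def consFix {n : ℕ} (g : Matrix (Fin n) (Fin n) F) : (Fin (n + 1) → F) →ₗ[F] (Fin (n + 1) → F) where
  toFun v := Fin.cons (v 0) (g *ᵥ Fin.tail v)
  map_add' a b := by
    funext i; induction i using Fin.cases with
    | zero => simp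
    | succ i =>
      simp only [Fin.cons_succ, Pi.add_apply]
      rw [show Fin.tail (a + b) = Fin.tail a + Fin.tail b from rfl, Matrix.mulVec_add, Pi.add_apply]
  map_smul' c a := by
    funext i; induction i using Fin.cases with
    | zero => simp
    | succ i =>
      simp only [Fin.cons_succ, Pi.smul_apply, RingHom.id_apply]
      rw [show Fin.tail (c • a) = c • Fin.tail a from rfl, Matrix.mulVec_smul, Pi.smul_apply]

omit [Finite F] in
theorem consFix_comp {n : ℕ} (g h : Matrix (Fin n) (Fin n) F) :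
    consFix (g * h) = consFix g ∘ₗ consFix h := by
  refine LinearMap.ext fun v => ?_
  change (Fin.cons (v 0) ((g * h) *ᵥ Fin.tail v) : Fin (n + 1) → F) =
    (Fin.cons ((Fin.cons (v 0) (h *ᵥ Fin.tail v) : Fin (n + 1) → F) 0)
      (g *ᵥ Fin.tail (Fin.cons (v 0) (h *ᵥ Fin.tail v) : Fin (n + 1) → F)) : Fin (n + 1) → F)
  rw [Fin.cons_zero, Fin.tail_cons, Matrix.mulVec_mulVec]

omit [Finite F] in
theorem consFix_one {n : ℕ} : consFix (1 : Matrix (Fin n) (Fin n) F) = LinearMap.id := by
  refine LinearMap.ext fun v => ?_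
  change Fin.cons (v 0) ((1 : Matrix (Fin n) (Fin n) F) *ᵥ Fin.tail v) = v
  rw [Matrix.one_mulVec, Fin.cons_self_tail]

/-- `GU n → GU (n+1)`. -/
def guSucc {n : ℕ} : Cfsg.GU n F q →* Cfsg.GU (n + 1) F q where
  toFun g :=
    ⟨⟨LinearMap.toMatrix' (consFix g.1.1), LinearMap.toMatrix' (consFix g.1.2),
      by rw [← LinearMap.toMatrix'_comp, ← consFix_comp, Units.val_inv, consFix_one,
        LinearMap.toMatrix'_id],
      by rw [← LinearMap.toMatrix'_comp, ← consFix_comp, Units.inv_val, consFix_one,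
        LinearMap.toMatrix'_id]⟩, mem_GU_iff.mpr fun u v => by
      simp only [LinearMap.toMatrix'_mulVec]
      change Cfsg.hermForm (n + 1) F q (Fin.cons (u 0) _) (Fin.cons (v 0) _) = _
      rw [herm_cons, mem_GU_iff.mp g.2, ← herm_cons, Fin.cons_self_tail, Fin.cons_self_tail]⟩
  map_one' := Subtype.ext (Units.ext (by
    change LinearMap.toMatrix' (consFix (1 : Matrix (Fin n) (Fin n) F)) = _
    rw [consFix_one, LinearMap.toMatrix'_id]; rfl))
  map_mul' g h := Subtype.ext (Units.ext (by
    change LinearMap.toMatrix' (consFix (g.1.1 * h.1.1)) = _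
    rw [consFix_comp, LinearMap.toMatrix'_comp]; rfl))

omit [Finite F] in
theorem guSucc_mulVec {n : ℕ} (g : Cfsg.GU n F q) (v : Fin (n + 1) → F) :
    ((guSucc g).1 : Matrix (Fin (n + 1)) (Fin (n + 1)) F) *ᵥ v =
      Fin.cons (v 0) ((g.1 : Matrix (Fin n) (Fin n) F) *ᵥ Fin.tail v) :=
  LinearMap.toMatrix'_mulVec _ _

theorem guSucc_injective {n : ℕ} : Function.Injective (guSucc (F := F) (q := q) (n := n)) := by
  intro g h e
  refine Subtype.ext (Units.ext (Matrix.ext_iff_smul.mpr fun w => ?_))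
  have := congrArg (fun a : Cfsg.GU (n + 1) F q =>
    Fin.tail ((a.1 : Matrix (Fin (n + 1)) (Fin (n + 1)) F) *ᵥ Fin.cons 0 w)) e
  simpa [guSucc_mulVec, Fin.tail_cons] using this

include hF in
theorem mem_range_guSucc {n : ℕ} {g : Cfsg.GU (n + 1) F q}
    (hg : (g.1 : Matrix (Fin (n + 1)) (Fin (n + 1)) F) *ᵥ Pi.single 0 1 = Pi.single 0 1) :
    g ∈ (guSucc (F := F) (q := q) (n := n)).range := by
  have hq : q ≠ 0 := by have := two_le_q hF; omega
  set M := (g.1 : Matrix (Fin (n + 1)) (Fin (n + 1)) F) with hM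
  have h0 : ∀ w : Fin n → F, (M *ᵥ Fin.cons 0 w) 0 = 0 := by
    intro w
    have h1 := mem_GU_iff.mp g.2 (Pi.single 0 1) (Fin.cons 0 w)
    rw [hg, herm_single_left, herm_single_left, Fin.cons_zero, zero_pow hq] at h1
    exact eq_zero_of_pow_eq_zero h1
  let T : (Fin n → F) →ₗ[F] (Fin n → F) :=
    { toFun := fun w => Fin.tail (M *ᵥ Fin.cons 0 w)
      map_add' := fun a b => by
        have : (Fin.cons 0 (a + b) : Fin (n + 1) → F) = Fin.cons 0 a + Fin.cons 0 b := by
          funext i; induction i using Fin.cases <;> simp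
        rw [this, Matrix.mulVec_add]; rfl
      map_smul' := fun c a => by
        have : (Fin.cons 0 (c • a) : Fin (n + 1) → F) = c • Fin.cons 0 a := by
          funext i; induction i using Fin.cases <;> simp
        rw [this, Matrix.mulVec_smul]; rfl }
  have hcons : ∀ w, M *ᵥ Fin.cons 0 w = Fin.cons 0 (T w) := fun w => by
    conv_lhs => rw [← Fin.cons_self_tail (M *ᵥ Fin.cons 0 w), h0]
    rfl
  have hT : ∀ u v, (uForm hF n).h (T u) (T v) = (uForm hF n).h u v := by
    intro u v
    have h1 := mem_GU_iff.mp g.2 (Fin.cons 0 u) (Fin.cons 0 v)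
    rw [hcons, hcons, herm_cons, herm_cons] at h1
    simpa [uForm_h] using h1
  refine ⟨⟨glOfEquiv ((uForm hF n).equivOf (uForm_nondeg hF n) T hT), mem_GU_iff.mpr fun a b => by
    rw [glOfEquiv_mulVec, glOfEquiv_mulVec, RForm.equivOf_apply, RForm.equivOf_apply]
    exact hT a b⟩, ?_⟩
  refine Subtype.ext (Units.ext (Matrix.ext_iff_smul.mpr fun v => ?_))
  rw [Matrix.smul_eq_mulVec, Matrix.smul_eq_mulVec, guSucc_mulVec, glOfEquiv_mulVec,
    RForm.equivOf_apply, ← hM]
  have hv : v = v 0 • (Pi.single 0 1 : Fin (n + 1) → F) + Fin.cons 0 (Fin.tail v) := by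
    funext i; induction i using Fin.cases <;> simp [Fin.tail]
  conv_rhs => rw [hv, Matrix.mulVec_add, Matrix.mulVec_smul, hg, hcons]
  funext i; induction i using Fin.cases <;> simp

include hF in
theorem card_GU_succ (n : ℕ) :
    Nat.card (Cfsg.GU (n + 1) F q) = numLen F q (n + 1) 1 * Nat.card (Cfsg.GU n F q) := by
  have hq : q ≠ 0 := by have := two_le_q hF; omega
  set e₀ : Fin (n + 1) → F := Pi.single 0 1 with he₀
  have he : Cfsg.hermForm (n + 1) F q e₀ e₀ = 1 := by rw [he₀, herm_single_left]; simp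
  let H := (guSucc (F := F) (q := q) (n := n)).range
  let orb : Cfsg.GU (n + 1) F q → {v : Fin (n + 1) → F // Cfsg.hermForm (n + 1) F q v v = 1} :=
    fun g => ⟨(g.1 : Matrix (Fin (n + 1)) (Fin (n + 1)) F) *ᵥ e₀, by rw [mem_GU_iff.mp g.2, he]⟩
  have hfix : ∀ g, g ∈ H ↔ (g.1 : Matrix (Fin (n + 1)) (Fin (n + 1)) F) *ᵥ e₀ = e₀ := by
    intro g
    refine ⟨?_, fun h => mem_range_guSucc hF h⟩
    rintro ⟨k, rfl⟩
    rw [guSucc_mulVec]
    funext i; induction i using Fin.cases with
    | zero => simp [he₀]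
    | succ i =>
      simp only [Fin.cons_succ]
      rw [show Fin.tail e₀ = 0 by funext j; simp [he₀, Fin.tail], Matrix.mulVec_zero]
      simp [he₀]
  have hne : ∀ v : Fin (n + 1) → F, Cfsg.hermForm (n + 1) F q v v = 1 → v ≠ 0 := by
    rintro v hv rfl
    simp [Cfsg.hermForm] at hv
  have hrel : ∀ g g' : Cfsg.GU (n + 1) F q,
      (g⁻¹ * g' ∈ H ↔ orb g = orb g') := by
    intro g g'
    rw [hfix]
    simp only [orb, Subtype.mk.injEq, Subgroup.coe_mul, Subgroup.coe_inv, Units.val_mul,
      ← Matrix.mulVec_mulVec]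
    constructor
    · intro h
      conv_lhs => rw [← h]
      rw [Matrix.mulVec_mulVec, Units.mul_inv, Matrix.one_mulVec]
    · intro h
      rw [← h, Matrix.mulVec_mulVec, Units.inv_mul, Matrix.one_mulVec]
  let φ : Cfsg.GU (n + 1) F q ⧸ H ≃ {v : Fin (n + 1) → F // Cfsg.hermForm (n + 1) F q v v = 1} :=
    Equiv.ofBijective (Quotient.lift orb fun g g' h => (hrel g g').mp (QuotientGroup.leftRel_apply.mp h))
      ⟨fun x y => by
        induction x using Quotient.inductionOn with | h g =>
        induction y using Quotient.inductionOn with | h g' =>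
        exact fun h => QuotientGroup.eq.mpr ((hrel g g').mpr h),
       fun v => by
        obtain ⟨g, hg⟩ := exists_GU_family hF (fun _ : Fin 1 => e₀) (fun _ => v.1)
          (linearIndependent_unique_iff.mpr (hne _ he))
          (linearIndependent_unique_iff.mpr (hne _ v.2))
          (fun _ _ => by rw [he, v.2])
        exact ⟨QuotientGroup.mk g, Subtype.ext (hg 0)⟩⟩
  rw [Subgroup.card_eq_card_quotient_mul_card_subgroup H, Nat.card_congr φ,
    ← Nat.card_congr (MonoidHom.ofInjective guSucc_injective).toEquiv, numLen]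

include hF in
theorem card_GU (n : ℕ) :
    Nat.card (Cfsg.GU n F q) = q ^ (n * (n - 1) / 2) *
      ∏ i ∈ Finset.range n, (if Even i then q ^ (i + 1) + 1 else q ^ (i + 1) - 1) := by
  induction n with
  | zero =>
    haveI : Subsingleton (Cfsg.GU 0 F q) := ⟨fun a b => Subtype.ext (Units.ext (Subsingleton.elim _ _))⟩
    rw [Nat.card_of_subsingleton 1]; simp
  | succ n ih =>
    rw [card_GU_succ hF, ih, numLen_one_succ hF, Finset.prod_range_succ,
      ← Finset.sum_range_id, ← Finset.sum_range_id, Finset.sum_range_succ, pow_add]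
    ring

end CfsgLib.Unitary
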