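import Cfsg.Agent.Unitary.Special

/-!
Orthogonal decompositions of the Hermitian space: stabilisers of non-degenerate subspaces.
-/

set_option autoImplicit false
set_option linter.style.haveILetI false

namespace CfsgLib.Unitary

open Matrix CfsgLib.Forms

variable {F : Type*} [Field F] [Finite F] {q : ℕ} (hF : Nat.card F = q ^ 2)

omit [Finite F] in
theorem herm_append {k m : ℕ} (x y : Fin (k + m) → F) :
    Cfsg.hermForm (k + m) F q x y =
      Cfsg.hermForm k F q (x ∘ Fin.castAdd m) (y ∘ Fin.castAdd m) +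
      Cfsg.hermForm m F q (x ∘ Fin.natAdd k) (y ∘ Fin.natAdd k) := by
  simp [Cfsg.hermForm, Fin.sum_univ_add]

/-- Block diagonal matrix. -/
def blkMat {k m : ℕ} (A : Matrix (Fin k) (Fin k) F) (B : Matrix (Fin m) (Fin m) F) :
    Matrix (Fin (k + m)) (Fin (k + m)) F :=
  Matrix.reindex finSumFinEquiv finSumFinEquiv (Matrix.fromBlocks A 0 0 B)

omit [Finite F] in
theorem blkMat_mulVec {k m : ℕ} (A : Matrix (Fin k) (Fin k) F) (B : Matrix (Fin m) (Fin m) F)
    (x : Fin (k + m) → F) :
    (blkMat A B *ᵥ x) ∘ Fin.castAdd m = A *ᵥ (x ∘ Fin.castAdd m) ∧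
      (blkMat A B *ᵥ x) ∘ Fin.natAdd k = B *ᵥ (x ∘ Fin.natAdd k) := by
  rw [blkMat, Matrix.reindex_apply, Matrix.submatrix_mulVec_equiv, Matrix.fromBlocks_mulVec]
  constructor <;> funext i <;> simp [Function.comp_def, Matrix.mulVec, dotProduct]

omit [Finite F] in
theorem blkMat_mul {k m : ℕ} (A A' : Matrix (Fin k) (Fin k) F) (B B' : Matrix (Fin m) (Fin m) F) :
    blkMat A B * blkMat A' B' = blkMat (A * A') (B * B') := by
  simp [blkMat, Matrix.fromBlocks_multiply]

omit [Finite F] in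
theorem blkMat_one {k m : ℕ} :
    blkMat (1 : Matrix (Fin k) (Fin k) F) (1 : Matrix (Fin m) (Fin m) F) = 1 := by
  simp [blkMat, Matrix.fromBlocks_one, Matrix.reindex_apply]

/-- `GU k × GU m → GU (k + m)`. -/
def blkHom {k m : ℕ} : Cfsg.GU k F q × Cfsg.GU m F q →* Cfsg.GU (k + m) F q where
  toFun p :=
    ⟨⟨blkMat p.1.1.1 p.2.1.1, blkMat p.1.1.2 p.2.1.2,
      by rw [blkMat_mul, Units.val_inv, Units.val_inv, blkMat_one],
      by rw [blkMat_mul, Units.inv_val, Units.inv_val, blkMat_one]⟩, mem_GU_iff.mpr fun u v => by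
      rw [herm_append, herm_append u v, (blkMat_mulVec _ _ u).1, (blkMat_mulVec _ _ u).2,
        (blkMat_mulVec _ _ v).1, (blkMat_mulVec _ _ v).2, mem_GU_iff.mp p.1.2, mem_GU_iff.mp p.2.2]⟩
  map_one' := Subtype.ext (Units.ext blkMat_one)
  map_mul' p r := Subtype.ext (Units.ext (blkMat_mul _ _ _ _).symm)

omit [Finite F] in
theorem blkMat_inj {k m : ℕ} {A A' : Matrix (Fin k) (Fin k) F} {B B' : Matrix (Fin m) (Fin m) F}
    (h : blkMat A B = blkMat A' B') : A = A' ∧ B = B' := by
  rw [blkMat, blkMat, Equiv.apply_eq_iff_eq, Matrix.fromBlocks_inj] at h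
  exact ⟨h.1, h.2.2.2⟩

/-- Vectors supported on the first `k` coordinates. -/
def firstPart (F : Type*) [Field F] (k m : ℕ) : Submodule F (Fin (k + m) → F) where
  carrier := {x | x ∘ Fin.natAdd k = 0}
  zero_mem' := rfl
  add_mem' := fun {x y} hx hy => by
    change (x + y) ∘ Fin.natAdd k = 0
    rw [Pi.add_comp, hx, hy, add_zero]
  smul_mem' := fun c x hx => by
    change (c • x) ∘ Fin.natAdd k = 0
    funext i
    simp [show x (Fin.natAdd k i) = 0 from congrFun hx i]

omit [Finite F] in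
theorem mem_firstPart_iff {k m : ℕ} {x : Fin (k + m) → F} :
    x ∈ firstPart F k m ↔ x ∘ Fin.natAdd k = 0 := Iff.rfl

include hF in
theorem exists_blkHom_eq {k m : ℕ} (g : Cfsg.GU (k + m) F q)
    (hg : ∀ x, x ∈ firstPart F k m ↔
      (g.1 : Matrix (Fin (k + m)) (Fin (k + m)) F) *ᵥ x ∈ firstPart F k m) :
    g ∈ (blkHom (F := F) (q := q) (k := k) (m := m)).range := by
  have hq : q ≠ 0 := by have := two_le_q hF; omega
  set M := (g.1 : Matrix (Fin (k + m)) (Fin (k + m)) F) with hM
  let inA : (Fin k → F) →ₗ[F] (Fin (k + m) → F) :=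
    { toFun := fun a => Fin.append a 0
      map_add' := fun a b => by funext i; induction i using Fin.addCases <;> simp
      map_smul' := fun c a => by funext i; induction i using Fin.addCases <;> simp }
  let inB : (Fin m → F) →ₗ[F] (Fin (k + m) → F) :=
    { toFun := fun b => Fin.append 0 b
      map_add' := fun a b => by funext i; induction i using Fin.addCases <;> simp
      map_smul' := fun c a => by funext i; induction i using Fin.addCases <;> simp }
  let prA : (Fin (k + m) → F) →ₗ[F] (Fin k → F) := LinearMap.funLeft F F (Fin.castAdd m)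
  let prB : (Fin (k + m) → F) →ₗ[F] (Fin m → F) := LinearMap.funLeft F F (Fin.natAdd k)
  have hdec : ∀ x, inA (prA x) + inB (prB x) = x := fun x => by
    funext i; induction i using Fin.addCases <;> simp [inA, inB, prA, prB, LinearMap.funLeft_apply]
  have hprA : ∀ a, prA (inA a) = a := fun a => by
    funext i; simp [inA, prA, LinearMap.funLeft_apply]
  have hprB : ∀ b, prB (inB b) = b := fun b => by
    funext i; simp [inB, prB, LinearMap.funLeft_apply]
  have hprAB : ∀ b, prA (inB b) = 0 := fun b => by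
    funext i; simp [inB, prA, LinearMap.funLeft_apply]
  have hprBA : ∀ a, prB (inA a) = 0 := fun a => by
    funext i; simp [inA, prB, LinearMap.funLeft_apply]
  have hA : ∀ a, prB (M *ᵥ inA a) = 0 := fun a => (hg (inA a)).mp (hprBA a)
  -- `g` also fixes the second part
  have hB : ∀ b, prA (M *ᵥ inB b) = 0 := by
    intro b
    apply uForm_nondeg hF k
    intro a
    have hy : prB ((g⁻¹ : Cfsg.GU (k + m) F q).1.1 *ᵥ inA a) = 0 := by
      change (g⁻¹ : Cfsg.GU (k + m) F q).1.1 *ᵥ inA a ∈ firstPart F k m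
      refine (hg _).mpr ?_
      rw [Matrix.mulVec_mulVec, hM, Subgroup.coe_inv, Units.mul_inv, Matrix.one_mulVec]
      exact hprBA a
    have h1 := mem_GU_iff.mp g.2 ((g⁻¹ : Cfsg.GU (k + m) F q).1.1 *ᵥ inA a) (inB b)
    rw [Matrix.mulVec_mulVec, Subgroup.coe_inv, Units.mul_inv, Matrix.one_mulVec, herm_append,
      herm_append ((g.1⁻¹ : Matrix.GeneralLinearGroup _ F).1 *ᵥ inA a)] at h1
    change Cfsg.hermForm k F q (prA (inA a)) (prA (M *ᵥ inB b)) +
      Cfsg.hermForm m F q (prB (inA a)) (prB (M *ᵥ inB b)) =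
      Cfsg.hermForm k F q _ (prA (inB b)) + Cfsg.hermForm m F q
        (prB ((g⁻¹ : Cfsg.GU (k + m) F q).1.1 *ᵥ inA a)) (prB (inB b)) at h1
    rw [hprA, hprBA, hy, hprAB] at h1
    rw [uForm_h]
    simpa [Cfsg.hermForm, hq] using h1
  let TA : (Fin k → F) →ₗ[F] (Fin k → F) := prA ∘ₗ Matrix.toLin' M ∘ₗ inA
  let TB : (Fin m → F) →ₗ[F] (Fin m → F) := prB ∘ₗ Matrix.toLin' M ∘ₗ inB
  have hherm : ∀ x y, Cfsg.hermForm (k + m) F q x y =
      Cfsg.hermForm k F q (prA x) (prA y) + Cfsg.hermForm m F q (prB x) (prB y) :=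
    fun x y => herm_append x y
  have hTA : ∀ u v, (uForm hF k).h (TA u) (TA v) = (uForm hF k).h u v := by
    intro u v
    have h1 := mem_GU_iff.mp g.2 (inA u) (inA v)
    rw [hherm, hherm, hA, hA, hprA, hprA, hprBA, hprBA] at h1
    simpa [TA, uForm_h, Cfsg.hermForm, hq] using h1
  have hTB : ∀ u v, (uForm hF m).h (TB u) (TB v) = (uForm hF m).h u v := by
    intro u v
    have h1 := mem_GU_iff.mp g.2 (inB u) (inB v)
    rw [hherm, hherm, hB, hB, hprB, hprB, hprAB, hprAB] at h1
    simpa [TB, uForm_h, Cfsg.hermForm, hq] using h1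
  refine ⟨(⟨glOfEquiv ((uForm hF k).equivOf (uForm_nondeg hF k) TA hTA), mem_GU_iff.mpr fun a b => by
      rw [glOfEquiv_mulVec, glOfEquiv_mulVec, RForm.equivOf_apply, RForm.equivOf_apply]
      exact hTA a b⟩,
    ⟨glOfEquiv ((uForm hF m).equivOf (uForm_nondeg hF m) TB hTB), mem_GU_iff.mpr fun a b => by
      rw [glOfEquiv_mulVec, glOfEquiv_mulVec, RForm.equivOf_apply, RForm.equivOf_apply]
      exact hTB a b⟩), ?_⟩
  refine Subtype.ext (Units.ext (Matrix.ext_iff_smul.mpr fun x => ?_))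
  change blkMat _ _ *ᵥ x = M *ᵥ x
  rw [← hdec (blkMat _ _ *ᵥ x), ← hdec (M *ᵥ x)]
  have h1 := blkMat_mulVec (glOfEquiv ((uForm hF k).equivOf (uForm_nondeg hF k) TA hTA)).1
    (glOfEquiv ((uForm hF m).equivOf (uForm_nondeg hF m) TB hTB)).1 x
  have hMx : M *ᵥ x = M *ᵥ inA (prA x) + M *ᵥ inB (prB x) := by
    rw [← Matrix.mulVec_add, hdec]
  congr 1 <;> congr 1
  · change (blkMat _ _ *ᵥ x) ∘ Fin.castAdd m = _
    rw [h1.1, glOfEquiv_mulVec, RForm.equivOf_apply, hMx, map_add, hB, add_zero]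
    rfl
  · change (blkMat _ _ *ᵥ x) ∘ Fin.natAdd k = _
    rw [h1.2, glOfEquiv_mulVec, RForm.equivOf_apply, hMx, map_add, hA, zero_add]
    rfl

include hF in
theorem exists_orthonormal_family {n k : ℕ} (W : Submodule F (Fin n → F))
    (hWk : Module.finrank F W = k)
    (hW : ∀ u ∈ W, (∀ v ∈ W, Cfsg.hermForm n F q u v = 0) → u = 0) :
    ∃ b : Module.Basis (Fin k) F W, ∀ i j, Cfsg.hermForm n F q (b i) (b j) = if i = j then 1 else 0 := by
  let B : W →ₛₗ[frobQ hF] W →ₗ[F] F :=
    LinearMap.mk₂'ₛₗ (frobQ hF) (RingHom.id F) (fun x y => Cfsg.hermForm n F q y.1 x.1)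
      (fun a b c => (uForm hF n).add_right c.1 a.1 b.1)
      (fun r a c => by
        simpa [uForm_h, uForm_σ, frobQ_apply] using (uForm hF n).smul_right r c.1 a.1)
      (fun a b c => herm_add_left n b.1 c.1 a.1)
      (fun r a c => by simpa using herm_smul_left (q := q) n r c.1 a.1)
  have hS : B.IsSymm := ⟨fun x y => by
    have h : Cfsg.hermForm n F q x.1 y.1 = 1 * (Cfsg.hermForm n F q y.1 x.1) ^ q :=
      (uForm hF n).swap y.1 x.1
    change (Cfsg.hermForm n F q y.1 x.1) ^ q = Cfsg.hermForm n F q x.1 y.1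
    rw [h, one_mul]⟩
  have hB : B.Nondegenerate := by
    have h1 : ∀ x : W, (∀ y : W, B x y = 0) → x = 0 := fun x hx =>
      Subtype.ext (hW x.1 x.2 fun v hv => (uForm hF n).eq_zero_comm.mp (hx ⟨v, hv⟩))
    refine ⟨h1, fun y hy => h1 y fun x => ?_⟩
    rw [← hS.eq x y, hy x, map_zero]
  obtain ⟨b, hb⟩ := exists_orthonormal_herm (frobQ_ne_id hF) (frobQ_invol hF)
    (fun a ha ha0 => finite_norm_surjective (frobQ_ne_id hF) (frobQ_invol hF) a ha ha0) k W B hS hB hWk
  refine ⟨b, fun i j => ?_⟩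
  have := hb j i
  rw [show (if i = j then (1 : F) else 0) = if j = i then 1 else 0 by simp [eq_comm]]
  exact this

include hF in
theorem stabilizer_nondeg_iso {n k : ℕ} (W : Submodule F (Fin n → F))
    (hWk : Module.finrank F W = k)
    (hW : ∀ u ∈ W, (∀ v ∈ W, Cfsg.hermForm n F q u v = 0) → u = 0) :
    Nonempty (↥((Cfsg.stabilizing (Cfsg.glToMat (Fin n) F) (W : Set (Fin n → F))).subgroupOf
      (Cfsg.GU n F q)) ≃* ↥(Cfsg.GU k F q) × ↥(Cfsg.GU (n - k) F q)) := by
  obtain ⟨b, hb⟩ := exists_orthonormal_family hF W hWk hW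
  have hkn : k ≤ n := by
    rw [← hWk]; exact (Submodule.finrank_le W).trans (by rw [Module.finrank_fin_fun])
  obtain ⟨m, rfl⟩ := Nat.exists_eq_add_of_le hkn
  rw [Nat.add_sub_cancel_left]
  have hli : LinearIndependent F (fun i => (b i : Fin (k + m) → F)) :=
    b.linearIndependent.map' W.subtype (Submodule.ker_subtype W)
  have hstd : LinearIndependent F (fun i : Fin k => (Pi.single (Fin.castAdd m i) 1 : Fin (k + m) → F)) :=
    (Pi.linearIndependent_single_one (Fin (k + m)) F).comp _ (Fin.castAdd_injective _ _)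
  obtain ⟨g, hg⟩ := exists_GU_family hF _ _ hstd hli (fun i j => by
    rw [hb, herm_single_left, Pi.single_apply]
    by_cases h : i = j
    · subst h; simp
    · simp [h, show q ≠ 0 by have := two_le_q hF; omega])
  set G := (g.1 : Matrix (Fin (k + m)) (Fin (k + m)) F) with hG
  set Gi := ((g⁻¹ : Cfsg.GU (k + m) F q).1 : Matrix (Fin (k + m)) (Fin (k + m)) F) with hGi
  have hGGi : ∀ x, G *ᵥ (Gi *ᵥ x) = x := fun x => by
    rw [hG, hGi, Matrix.mulVec_mulVec, Subgroup.coe_inv, Units.mul_inv, Matrix.one_mulVec]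
  have hGiG : ∀ x, Gi *ᵥ (G *ᵥ x) = x := fun x => by
    rw [hG, hGi, Matrix.mulVec_mulVec, Subgroup.coe_inv, Units.inv_mul, Matrix.one_mulVec]
  -- `W` is the image of the first part
  have hWmem : ∀ x, x ∈ W ↔ Gi *ᵥ x ∈ firstPart F k m := by
    intro x
    constructor
    · intro hx
      have hle : W ≤ (firstPart F k m).comap (Matrix.toLin' Gi) := by
        intro y hy
        have h1 : (⟨y, hy⟩ : W) ∈ Submodule.span F (Set.range b) := b.mem_span _
        have h2 : Submodule.map W.subtype (Submodule.span F (Set.range b)) ≤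
            (firstPart F k m).comap (Matrix.toLin' Gi) := by
          rw [Submodule.map_span, Submodule.span_le]
          rintro _ ⟨_, ⟨i, rfl⟩, rfl⟩
          simp only [SetLike.mem_coe, Submodule.mem_comap, Matrix.toLin'_apply, Submodule.coe_subtype]
          rw [← hg i, hGiG, mem_firstPart_iff]
          funext j
          simp only [Function.comp_apply, Pi.zero_apply]
          refine Pi.single_eq_of_ne (fun e => ?_) 1
          have h3 := congrArg Fin.val e
          simp only [Fin.val_natAdd, Fin.val_castAdd] at h3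
          omega
        exact h2 ⟨_, h1, rfl⟩
      have := hle hx
      rwa [Submodule.mem_comap, Matrix.toLin'_apply] at this
    · intro hx
      rw [← hGGi x]
      set y := Gi *ᵥ x
      have hy : y = ∑ i, y (Fin.castAdd m i) • (Pi.single (Fin.castAdd m i) 1 : Fin (k + m) → F) := by
        funext j
        induction j using Fin.addCases with
        | left j => simp [Finset.sum_apply, Pi.single_apply, Fin.ext_iff, Finset.sum_ite_eq,
            ← Fin.ext_iff]
        | right j =>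
          have h0 : y (Fin.natAdd k j) = 0 := congrFun hx j
          rw [h0, Finset.sum_apply]
          refine (Finset.sum_eq_zero fun i _ => ?_).symm
          simp [Pi.single_apply, Fin.ext_iff]
          omega
      rw [hy, Matrix.mulVec_sum]
      refine Submodule.sum_mem _ fun i _ => ?_
      rw [Matrix.mulVec_smul, hg i]
      exact W.smul_mem _ (b i).2
  let Ψ : Cfsg.GU k F q × Cfsg.GU m F q →* Cfsg.GU (k + m) F q :=
    ((MulAut.conj g).toMonoidHom).comp blkHom
  have hΨ : Function.Injective Ψ := by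
    intro x y e
    have e1 : blkHom x = blkHom y := (MulAut.conj g).injective e
    obtain ⟨e2, e3⟩ := blkMat_inj (congrArg (fun z : Cfsg.GU (k + m) F q =>
      (z.1 : Matrix (Fin (k + m)) (Fin (k + m)) F)) e1)
    exact Prod.ext (Subtype.ext (Units.ext e2)) (Subtype.ext (Units.ext e3))
  refine ⟨((MonoidHom.ofInjective hΨ).trans (MulEquiv.subgroupCongr ?_)).symm⟩
  ext x
  constructor
  · rintro ⟨p, rfl⟩
    intro v
    change v ∈ W ↔ (G * blkMat p.1.1.1 p.2.1.1 * Gi) *ᵥ v ∈ W
    rw [← Matrix.mulVec_mulVec, ← Matrix.mulVec_mulVec, hWmem, hWmem, hGiG, mem_firstPart_iff,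
      mem_firstPart_iff, (blkMat_mulVec _ _ _).2]
    constructor
    · intro h; rw [h, Matrix.mulVec_zero]
    · intro h
      have := congrArg (fun z => ((p.2⁻¹ : Cfsg.GU m F q).1 : Matrix (Fin m) (Fin m) F) *ᵥ z) h
      simpa [Matrix.mulVec_mulVec] using this
  · intro hx
    obtain ⟨p, hp⟩ := exists_blkHom_eq hF (g⁻¹ * x * g) (fun v => by
      change v ∈ firstPart F k m ↔ (Gi * x.1.1 * G) *ᵥ v ∈ firstPart F k m
      have h1 := hx (G *ᵥ v)
      rw [← Matrix.mulVec_mulVec, ← Matrix.mulVec_mulVec, ← hWmem]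
      refine Iff.trans ?_ h1
      rw [SetLike.mem_coe, hWmem, hGiG])
    refine ⟨p, ?_⟩
    change g * blkHom p * g⁻¹ = x
    rw [hp]; group

end CfsgLib.Unitary
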