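import Cfsg.Agent.Unitary.Generation

/-!
The special unitary group is generated by its transvections.
-/

set_option autoImplicit false
set_option linter.style.haveILetI false

namespace CfsgLib.Unitary

open Matrix CfsgLib.Forms

variable {F : Type*} [Field F] [Finite F] {q : ℕ} (hF : Nat.card F = q ^ 2)

omit [Finite F] in
theorem det_guSucc {n : ℕ} (g : Cfsg.GU n F q) :
    ((guSucc g).1 : Matrix (Fin (n + 1)) (Fin (n + 1)) F).det =
      (g.1 : Matrix (Fin n) (Fin n) F).det := by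
  have hM : ∀ i j, ((guSucc g).1 : Matrix (Fin (n + 1)) (Fin (n + 1)) F) i j =
      (Fin.cons ((Pi.single j 1 : Fin (n + 1) → F) 0)
        ((g.1 : Matrix (Fin n) (Fin n) F) *ᵥ Fin.tail (Pi.single j 1 : Fin (n + 1) → F)) :
        Fin (n + 1) → F) i := by
    intro i j
    rw [← guSucc_mulVec, Matrix.mulVec_single_one, Matrix.col_apply]
  have htail : Fin.tail (Pi.single 0 1 : Fin (n + 1) → F) = 0 := by
    funext j; simp [Fin.tail]
  rw [Matrix.det_succ_row_zero, Finset.sum_eq_single 0]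
  · rw [hM, Fin.cons_zero, Fin.succAbove_zero]
    simp only [Fin.val_zero, pow_zero, Pi.single_eq_same, one_mul]
    congr 1
    ext i j
    rw [Matrix.submatrix_apply, hM, Fin.cons_succ,
      show Fin.tail (Pi.single j.succ 1 : Fin (n + 1) → F) = Pi.single j 1 by
        funext k; simp [Fin.tail, Pi.single_apply],
      Matrix.mulVec_single_one, Matrix.col_apply]
  · intro j _ hj
    rw [hM, Fin.cons_zero, Pi.single_eq_of_ne (Ne.symm hj)]; simp
  · simp

/-- An element of SU as an element of GU. -/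
def suToGU {n : ℕ} : Cfsg.SU n F q →* Cfsg.GU n F q where
  toFun g := ⟨Matrix.SpecialLinearGroup.toGL g.1, g.2⟩
  map_one' := Subtype.ext (Units.ext rfl)
  map_mul' g h := Subtype.ext (Units.ext rfl)

/-- `SU n → SU (n+1)`. -/
noncomputable def suSucc {n : ℕ} : Cfsg.SU n F q →* Cfsg.SU (n + 1) F q where
  toFun g := ⟨⟨((guSucc (suToGU g)).1 : Matrix (Fin (n + 1)) (Fin (n + 1)) F),
    by rw [det_guSucc]; exact g.1.2⟩, (guSucc (suToGU g)).2⟩
  map_one' := Subtype.ext (Subtype.ext (by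
    change ((guSucc (suToGU (1 : Cfsg.SU n F q))).1 : Matrix (Fin (n + 1)) (Fin (n + 1)) F) = 1
    rw [map_one, map_one]; rfl))
  map_mul' g h := Subtype.ext (Subtype.ext (by
    change ((guSucc (suToGU (g * h))).1 : Matrix (Fin (n + 1)) (Fin (n + 1)) F) = _
    rw [map_mul, map_mul]; rfl))

omit [Finite F] in
theorem suSucc_mulVec {n : ℕ} (g : Cfsg.SU n F q) (x : Fin (n + 1) → F) :
    suMat (suSucc g) *ᵥ x = Fin.cons (x 0) (suMat g *ᵥ Fin.tail x) :=
  guSucc_mulVec (suToGU g) x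

include hF in
theorem suSucc_mem_tvGroup {n : ℕ} {g : Cfsg.SU n F q} (hg : g ∈ tvGroup n F q) :
    suSucc g ∈ tvGroup (n + 1) F q := by
  have hle : tvGroup n F q ≤ (tvGroup (n + 1) F q).comap suSucc := by
    refine (Subgroup.closure_le _).mpr ?_
    rintro A ⟨v, c, hv, hA⟩
    have hq : q ≠ 0 := by have := two_le_q hF; omega
    refine Subgroup.subset_closure ⟨Fin.cons 0 v, c, by rw [herm_cons, hv, zero_mul, zero_add], ?_⟩
    refine Matrix.ext_iff_smul.mpr fun x => ?_
    rw [Matrix.smul_eq_mulVec, Matrix.smul_eq_mulVec, suSucc_mulVec, hA, utv_mulVec, utv_mulVec]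
    conv_rhs => rw [← Fin.cons_self_tail x, herm_cons, zero_pow hq, mul_zero, zero_add]
    funext i
    induction i using Fin.cases <;> simp [Fin.tail]
  exact hle hg

omit [Finite F] in
theorem cons_single_zero {n : ℕ} (a : F) :
    (Fin.cons a (0 : Fin n → F) : Fin (n + 1) → F) = Pi.single 0 a := by
  funext i; induction i using Fin.cases <;> simp

include hF in
theorem exists_suSucc_eq {n : ℕ} {g : Cfsg.SU (n + 1) F q}
    (hg : suMat g *ᵥ Pi.single 0 1 = Pi.single 0 1) : ∃ k : Cfsg.SU n F q, suSucc k = g := by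
  obtain ⟨k, hk⟩ := mem_range_guSucc hF (g := suToGU g) hg
  have hdet : (k.1 : Matrix (Fin n) (Fin n) F).det = 1 := by
    rw [← det_guSucc, hk]; exact g.1.2
  exact ⟨⟨⟨_, hdet⟩, k.2⟩, Subtype.ext (Subtype.ext (congrArg
    (fun x : Cfsg.GU (n + 1) F q => (x.1 : Matrix (Fin (n + 1)) (Fin (n + 1)) F)) hk))⟩

omit [Finite F] in
theorem su_one_subsingleton : Subsingleton (Cfsg.SU 1 F q) := by
  refine ⟨fun a b => Subtype.ext (Subtype.ext ?_)⟩
  have ha := a.1.2
  have hb := b.1.2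
  rw [Matrix.det_fin_one] at ha hb
  ext i j
  fin_cases i; fin_cases j
  exact ha.trans hb.symm

/-- Joined pairs. -/
def Conn2 (q : ℕ) {n : ℕ} (a b a' b' : Fin n → F) : Prop :=
  ∃ g ∈ tvGroup n F q, suMat g *ᵥ a = a' ∧ suMat g *ᵥ b = b'

omit [Finite F] in
theorem Conn2.trans {n : ℕ} {a b a' b' a'' b'' : Fin n → F} (h : Conn2 q a b a' b')
    (h' : Conn2 q a' b' a'' b'') : Conn2 q a b a'' b'' := by
  obtain ⟨g, hg, rfl, rfl⟩ := h
  obtain ⟨g', hg', rfl, rfl⟩ := h'
  exact ⟨g' * g, mul_mem hg' hg, by rw [suMat_mul, ← Matrix.mulVec_mulVec],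
    by rw [suMat_mul, ← Matrix.mulVec_mulVec]⟩

include hF in
theorem conn2_tv {n : ℕ} {a x y x' y' : Fin n → F} {c : F} (ha : Cfsg.hermForm n F q a a = 0)
    (hc : c + c ^ q = 0) (e : x + (c * Cfsg.hermForm n F q x a) • a = x')
    (e' : y + (c * Cfsg.hermForm n F q y a) • a = y') : Conn2 q x y x' y' :=
  ⟨suTv n a c ha hc hF, suTv_mem hF a c ha hc, (utv_mulVec a c x).trans e,
    (utv_mulVec a c y).trans e'⟩

include hF in
/-- Fixing the first basis vector, the transvection group of SU₄(2) is still transitive. -/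
theorem conn2_four (hq : q = 2) {v : Fin 4 → F} (h0 : v 0 = 0)
    (hv : Cfsg.hermForm 4 F q v v = 1) :
    Conn2 q (Pi.single 0 1) (Pi.single 1 1) (Pi.single 0 1) v := by
  haveI := Fintype.ofFinite F
  classical
  subst hq
  have hc : (4 : F) = 0 := by
    have := Nat.cast_card_eq_zero F
    rw [← Nat.card_eq_fintype_card, hF] at this
    simpa using this
  have h2 : (2 : F) = 0 := pow_eq_zero_iff two_ne_zero |>.mp (by linear_combination hc)
  have hone : (1 : F) + 1 ^ 2 = 0 := by linear_combination h2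
  have hcube : ∀ a : F, a ≠ 0 → a ^ 3 = 1 := by
    intro a ha
    have := FiniteField.pow_card_sub_one_eq_one a ha
    rwa [← Nat.card_eq_fintype_card, hF] at this
  obtain ⟨w, rfl⟩ : ∃ w : Fin 3 → F, v = Fin.cons 0 w :=
    ⟨Fin.tail v, by rw [← h0, Fin.cons_self_tail]⟩
  rw [herm_cons, zero_mul, zero_add] at hv
  have lift : ∀ {a b : Fin 3 → F}, Conn 2 a b →
      Conn2 2 (Pi.single 0 1) (Fin.cons 0 a) (Pi.single 0 1) (Fin.cons 0 b : Fin 4 → F) := by
    rintro a b ⟨g, hg, rfl⟩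
    refine ⟨suSucc g, suSucc_mem_tvGroup hF hg, ?_, ?_⟩
    · rw [suSucc_mulVec, Pi.single_eq_same,
        show Fin.tail (Pi.single 0 1 : Fin 4 → F) = 0 by funext j; simp [Fin.tail],
        Matrix.mulVec_zero, cons_single_zero]
    · rw [suSucc_mulVec, Fin.cons_zero, Fin.tail_cons]
  have e1 : (Pi.single 1 1 : Fin 4 → F) = Fin.cons 0 (Pi.single 0 1) := by
    funext i; fin_cases i <;> rfl
  rw [e1]
  set e : Fin 3 → F := Pi.single 0 1 with he
  set f : Fin 3 → F := Pi.single 1 1 with hf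
  have hee : Cfsg.hermForm 3 F 2 e e = 1 := by rw [he, herm_single_left]; simp
  have hff : Cfsg.hermForm 3 F 2 f f = 1 := by rw [hf, herm_single_left]; simp
  have hscal : ∀ x : F, x ≠ 0 → Conn 2 e (x • e) := by
    intro x hx
    refine (conn_of_nondeg hF one_ne_zero hee hff ?_).trans
      (conn_of_nondeg hF one_ne_zero hff ?_ ?_)
    · simp [he, hf, herm_single_left]
    · rw [herm_smul_left, herm_smul_right hF, hee, mul_one, ← pow_succ', hcube x hx]
    · simp [he, hf, herm_single_left, herm_smul_left, herm_smul_right hF]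
  have hsum : w 0 ^ 3 + w 1 ^ 3 + w 2 ^ 3 = 1 := by
    rw [← hv]; simp [Cfsg.hermForm, Fin.sum_univ_three]; ring
  by_cases hw0 : w 0 = 0
  · refine lift (conn_of_nondeg hF one_ne_zero hee hv ?_)
    simp [he, herm_single_left, hw0]
  by_cases hw1 : w 1 = 0
  · have hw2 : w 2 = 0 := by
      by_contra hw2
      rw [hcube _ hw0, hw1, hcube _ hw2] at hsum
      exact one_ne_zero (α := F) (by linear_combination -hsum + h2)
    have : w = w 0 • e := by funext i; fin_cases i <;> simp [he, hw1, hw2]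
    rw [this]
    exact lift (hscal _ hw0)
  have hw2 : w 2 ≠ 0 := by
    intro hw2
    rw [hcube _ hw0, hcube _ hw1, hw2] at hsum
    exact one_ne_zero (α := F) (by linear_combination hsum)
  refine (lift (hscal _ hw0)).trans ?_
  obtain ⟨om, hom, hom1⟩ : ∃ om : F, om ^ 3 = 1 ∧ om ≠ 1 := by
    have hf := card_norm_fiber hF (μ := (1 : F)) one_ne_zero (one_pow _)
    rw [Nat.card_eq_fintype_card] at hf
    obtain ⟨⟨a, ha⟩, hne⟩ := Fintype.exists_ne_of_one_lt_card
      (show 1 < Fintype.card {x : F // x ^ (2 + 1) = 1} by omega) ⟨1, one_pow _⟩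
    exact ⟨a, ha, fun e => hne (Subtype.ext e)⟩
  have hom2 : om ^ 2 + om + 1 = 0 :=
    (mul_eq_zero.mp (by linear_combination hom : (om - 1) * (om ^ 2 + om + 1) = 0)).resolve_left
      (sub_ne_zero.mpr hom1)
  obtain ⟨x, y, z, hx, hy, hz, rfl⟩ : ∃ x y z : F, x ^ 3 = 1 ∧ y ^ 3 = 1 ∧ z ^ 3 = 1 ∧
      w = ![x, y, z] :=
    ⟨_, _, _, hcube _ hw0, hcube _ hw1, hcube _ hw2, by funext i; fin_cases i <;> rfl⟩
  have e2 : (Fin.cons 0 ((![x, y, z] : Fin 3 → F) 0 • e) : Fin 4 → F) = ![0, x, 0, 0] := by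
    have : (x • e : Fin 3 → F) = ![x, 0, 0] := by funext i; fin_cases i <;> simp [he]
    rw [show (![x, y, z] : Fin 3 → F) 0 = x from rfl, this]; rfl
  rw [e2]
  have t1 : Conn2 2 (Pi.single 0 1) (![0, x, 0, 0] : Fin 4 → F) ![0, x, 0, 0] ![1, 0, 0, 0] :=
    conn2_tv hF (a := ![1, x, 0, 0]) (c := 1)
      (by simp [Cfsg.hermForm, Fin.sum_univ_four]; linear_combination hx + h2) hone
      (by funext i; fin_cases i <;> simp [Cfsg.hermForm, Fin.sum_univ_four, he] <;> grind)
      (by funext i; fin_cases i <;> simp [Cfsg.hermForm, Fin.sum_univ_four, he] <;> grind)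
  have t2 : Conn2 2 (![0, x, 0, 0] : Fin 4 → F) ![1, 0, 0, 0] ![1, 0, om * y, om * z]
      ![0, x, om * y, om * z] :=
    conn2_tv hF (a := ![1, x, om * y, om * z]) (c := 1)
      (by simp [Cfsg.hermForm, Fin.sum_univ_four]; grind) hone
      (by funext i; fin_cases i <;> simp [Cfsg.hermForm, Fin.sum_univ_four] <;> grind)
      (by funext i; fin_cases i <;> simp [Cfsg.hermForm, Fin.sum_univ_four] <;> grind)
  have t3 : Conn2 2 (![1, 0, om * y, om * z] : Fin 4 → F) ![0, x, om * y, om * z]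
      ![0, om ^ 2 * x, om * y, om * z] ![om, 0, om * y, om * z] :=
    conn2_tv hF (a := ![1, om ^ 2 * x, 0, 0]) (c := 1)
      (by simp [Cfsg.hermForm, Fin.sum_univ_four]; grind) hone
      (by funext i; fin_cases i <;> simp [Cfsg.hermForm, Fin.sum_univ_four] <;> grind)
      (by funext i; fin_cases i <;> simp [Cfsg.hermForm, Fin.sum_univ_four] <;> grind)
  have t4 : Conn2 2 (![0, om ^ 2 * x, om * y, om * z] : Fin 4 → F) ![om, 0, om * y, om * z]
      (Pi.single 0 1) (Fin.cons 0 ![x, y, z]) :=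
    conn2_tv hF (a := ![1, om ^ 2 * x, om * y, om * z]) (c := 1)
      (by simp [Cfsg.hermForm, Fin.sum_univ_four]; grind) hone
      (by funext i; fin_cases i <;> simp [Cfsg.hermForm, Fin.sum_univ_four] <;> grind)
      (by funext i; fin_cases i <;> simp [Cfsg.hermForm, Fin.sum_univ_four] <;> grind)
  exact ((t1.trans t2).trans t3).trans t4

include hF in
theorem tvGroup_eq_top {n : ℕ} (hn : 1 ≤ n) (h32 : ¬ (n = 3 ∧ q = 2)) :
    tvGroup n F q = ⊤ := by
  induction n using Nat.strong_induction_on with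
  | _ n ih =>
  obtain ⟨m, rfl⟩ : ∃ m, n = m + 1 := Nat.exists_eq_succ_of_ne_zero (by omega)
  rcases Nat.eq_zero_or_pos m with rfl | hm
  · haveI := su_one_subsingleton (F := F) (q := q)
    exact Subsingleton.elim _ _
  rw [eq_top_iff]
  intro g _
  set e : Fin (m + 1) → F := Pi.single 0 1 with he
  have hee : Cfsg.hermForm (m + 1) F q e e = 1 := by rw [he, herm_single_left]; simp
  obtain ⟨t, ht, hte⟩ := conn_sphere hF (n := m + 1) (by omega) h32 one_ne_zero hee
    (v := suMat g *ᵥ e) (by rw [su_preserves, hee])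
  have hfix : suMat (t⁻¹ * g) *ᵥ e = e := by
    rw [suMat_mul, ← Matrix.mulVec_mulVec, ← hte, su_inv_mulVec]
  suffices t⁻¹ * g ∈ tvGroup (m + 1) F q by simpa using mul_mem ht this
  obtain ⟨k, hk⟩ := exists_suSucc_eq hF hfix
  by_cases h : m = 3 ∧ q = 2
  swap
  · rw [← hk]
    exact suSucc_mem_tvGroup hF (by rw [ih m (by omega) hm h]; exact Subgroup.mem_top k)
  obtain ⟨rfl, hq⟩ := h
  set g' := t⁻¹ * g with hg'
  have hpres := su_preserves g' (Pi.single 1 1) (Pi.single 1 1)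
  set v := suMat g' *ᵥ (Pi.single 1 1 : Fin 4 → F) with hv
  have hv0 : v 0 = 0 := by
    have h1 := su_preserves g' e (Pi.single 1 1)
    rw [hfix, ← hv, he, herm_single_left, herm_single_left, Pi.single_eq_of_ne (by decide),
      zero_pow (by omega)] at h1
    exact eq_zero_of_pow_eq_zero h1
  obtain ⟨s, hs, hse, hsv⟩ := conn2_four hF hq hv0 (by
    rw [hpres, herm_single_left]; simp)
  have f0 : suMat (s⁻¹ * g') *ᵥ Pi.single 0 1 = Pi.single 0 1 := by
    rw [suMat_mul, ← Matrix.mulVec_mulVec, hfix]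
    conv_lhs => rw [he, ← hse]
    rw [su_inv_mulVec]
  have f1 : suMat (s⁻¹ * g') *ᵥ Pi.single 1 1 = Pi.single 1 1 := by
    rw [suMat_mul, ← Matrix.mulVec_mulVec, ← hv, ← hsv, su_inv_mulVec]
  obtain ⟨k1, hk1⟩ := exists_suSucc_eq hF f0
  have f2 : suMat k1 *ᵥ Pi.single 0 1 = Pi.single 0 1 := by
    have h1 : Fin.tail (suMat (suSucc k1) *ᵥ (Pi.single 1 1 : Fin 4 → F)) =
        suMat k1 *ᵥ Fin.tail (Pi.single 1 1 : Fin 4 → F) := by
      rw [suSucc_mulVec, Fin.tail_cons]
    rw [hk1, f1] at h1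
    rw [show (Pi.single 0 1 : Fin 3 → F) = Fin.tail (Pi.single 1 1 : Fin 4 → F) by
      funext i; fin_cases i <;> rfl]
    exact h1.symm
  obtain ⟨k2, hk2⟩ := exists_suSucc_eq hF f2
  suffices s⁻¹ * g' ∈ tvGroup 4 F q by simpa using mul_mem hs this
  rw [← hk1, ← hk2]
  exact suSucc_mem_tvGroup hF (suSucc_mem_tvGroup hF
    (by rw [ih 2 (by omega) (by omega) (by omega)]; exact Subgroup.mem_top k2))

end CfsgLib.Unitary
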