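import Cfsg.Agent.Unitary.Special
import Mathlib.GroupTheory.Commutator.Basic

/-!
SU is generated by unitary transvections, and these are commutators.
-/

set_option autoImplicit false
set_option linter.style.haveILetI false

namespace CfsgLib.Unitary

open Matrix CfsgLib.Forms

variable {F : Type*} [Field F] [Finite F] {q : ℕ} (hF : Nat.card F = q ^ 2)

/-- The matrix of an element of SU. -/
abbrev suMat {n : ℕ} (g : Cfsg.SU n F q) : Matrix (Fin n) (Fin n) F :=
  (g : Matrix.SpecialLinearGroup (Fin n) F)

omit [Finite F] in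
theorem suMat_mul {n : ℕ} (g h : Cfsg.SU n F q) : suMat (g * h) = suMat g * suMat h := rfl

omit [Finite F] in
theorem suMat_one {n : ℕ} : suMat (1 : Cfsg.SU n F q) = 1 := rfl

omit [Finite F] in
theorem su_ext {n : ℕ} {g h : Cfsg.SU n F q} (e : ∀ x, suMat g *ᵥ x = suMat h *ᵥ x) : g = h :=
  Subtype.ext (Subtype.ext (Matrix.ext_iff_smul.mpr e))

omit [Finite F] in
theorem su_inv_mulVec {n : ℕ} (g : Cfsg.SU n F q) (x : Fin n → F) :
    suMat g⁻¹ *ᵥ (suMat g *ᵥ x) = x := by
  rw [Matrix.mulVec_mulVec, ← suMat_mul, inv_mul_cancel, suMat_one, Matrix.one_mulVec]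

theorem su_preserves {n : ℕ} (g : Cfsg.SU n F q) (x y : Fin n → F) :
    Cfsg.hermForm n F q (suMat g *ᵥ x) (suMat g *ᵥ y) = Cfsg.hermForm n F q x y := g.2 x y

/-- The subgroup generated by transvections. -/
def tvGroup (n : ℕ) (F : Type*) [Field F] (q : ℕ) : Subgroup (Cfsg.SU n F q) :=
  Subgroup.closure {A : Cfsg.SU n F q | ∃ (v : Fin n → F) (c : F),
    Cfsg.hermForm n F q v v = 0 ∧ suMat A = Cfsg.unitaryTransvection n q v c}

/-- Joined by an element of the transvection group. -/
def Conn (q : ℕ) {n : ℕ} (u v : Fin n → F) : Prop := ∃ g ∈ tvGroup n F q, suMat g *ᵥ u = v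

omit [Finite F] in
theorem Conn.trans {n : ℕ} {u v w : Fin n → F} (h : Conn q u v) (h' : Conn q v w) :
    Conn q u w := by
  obtain ⟨g, hg, rfl⟩ := h
  obtain ⟨g', hg', rfl⟩ := h'
  exact ⟨g' * g, mul_mem hg' hg, by rw [suMat_mul, ← Matrix.mulVec_mulVec]⟩

omit [Finite F] in
theorem Conn.symm {n : ℕ} {u v : Fin n → F} (h : Conn q u v) : Conn q v u := by
  obtain ⟨g, hg, rfl⟩ := h
  exact ⟨g⁻¹, inv_mem hg, su_inv_mulVec g u⟩

include hF in
theorem suTv_mem {n : ℕ} (v : Fin n → F) (c : F) (hv : Cfsg.hermForm n F q v v = 0)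
    (hc : c + c ^ q = 0) : suTv n v c hv hc hF ∈ tvGroup n F q :=
  Subgroup.subset_closure ⟨v, c, hv, rfl⟩

include hF in
/-- One transvection moves `x` to `x + (c h(x,a)) a`. -/
theorem conn_tv {n : ℕ} {a x y : Fin n → F} {c : F} (ha : Cfsg.hermForm n F q a a = 0)
    (hc : c + c ^ q = 0) (e : x + (c * Cfsg.hermForm n F q x a) • a = y) : Conn q x y :=
  ⟨suTv n a c ha hc hF, suTv_mem hF a c ha hc, (utv_mulVec a c x).trans e⟩

/-- The additive facts about the form needed below. -/
theorem herm_add_right {n : ℕ} (hF : Nat.card F = q ^ 2) (u v w : Fin n → F) :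
    Cfsg.hermForm n F q u (v + w) = Cfsg.hermForm n F q u v + Cfsg.hermForm n F q u w :=
  (uForm hF n).add_right u v w

theorem herm_smul_right {n : ℕ} (hF : Nat.card F = q ^ 2) (c : F) (u v : Fin n → F) :
    Cfsg.hermForm n F q u (c • v) = c ^ q * Cfsg.hermForm n F q u v :=
  (uForm hF n).smul_right c u v

theorem herm_swap {n : ℕ} (hF : Nat.card F = q ^ 2) (u v : Fin n → F) :
    Cfsg.hermForm n F q v u = Cfsg.hermForm n F q u v ^ q := by
  have h : Cfsg.hermForm n F q v u = 1 * Cfsg.hermForm n F q u v ^ q := (uForm hF n).swap u v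
  rwa [one_mul] at h

theorem herm_sub_left {n : ℕ} (hF : Nat.card F = q ^ 2) (u v w : Fin n → F) :
    Cfsg.hermForm n F q (u - v) w = Cfsg.hermForm n F q u w - Cfsg.hermForm n F q v w :=
  (uForm hF n).sub_left u v w

theorem herm_sub_right {n : ℕ} (hF : Nat.card F = q ^ 2) (u v w : Fin n → F) :
    Cfsg.hermForm n F q u (v - w) = Cfsg.hermForm n F q u v - Cfsg.hermForm n F q u w :=
  (uForm hF n).sub_right u v w

include hF in
theorem exists_skew : ∃ c : F, c ≠ 0 ∧ c + c ^ q = 0 := by
  obtain ⟨b, hb⟩ : ∃ b, frobQ hF b ≠ b := by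
    by_contra hc; push Not at hc; exact frobQ_ne_id hF (RingHom.ext hc)
  refine ⟨b - frobQ hF b, sub_ne_zero.mpr (Ne.symm hb), ?_⟩
  rw [← frobQ_apply hF, map_sub, frobQ_invol]; ring

include hF in
theorem exists_trace_eq {μ : F} (hμ : μ ^ q = μ) : ∃ t : F, t + t ^ q = μ := by
  obtain ⟨t, ht⟩ := exists_add_σ_eq_one (frobQ_ne_id hF) (frobQ_invol hF)
  rw [frobQ_apply] at ht
  exact ⟨t * μ, by rw [mul_pow, hμ, ← add_mul, ht, one_mul]⟩

include hF in
theorem exists_norm_eq {μ : F} (hμ : μ ^ q = μ) : ∃ a : F, a ^ (q + 1) = μ := by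
  rcases eq_or_ne μ 0 with rfl | h
  · exact ⟨0, zero_pow (by omega)⟩
  · have h1 := card_norm_fiber hF h hμ
    obtain ⟨⟨a, ha⟩⟩ := (Nat.card_pos_iff.mp (by omega :
      0 < Nat.card {x : F // x ^ (q + 1) = μ})).1
    exact ⟨a, ha⟩

omit [Finite F] in
theorem skew_smul {c s : F} (hc : c + c ^ q = 0) (hs : s ^ q = s) :
    s * c + (s * c) ^ q = 0 := by
  rw [mul_pow, hs, ← mul_add, hc, mul_zero]

include hF in
/-- Vectors of a hyperbolic line of equal non-zero length are joined by transvections. -/
theorem conn_hyperbolic {n : ℕ} {e f : Fin n → F} (he : Cfsg.hermForm n F q e e = 0)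
    (hf : Cfsg.hermForm n F q f f = 0) (hef : Cfsg.hermForm n F q e f = 1) {μ t : F} (hμ : μ ≠ 0)
    (ht : t + t ^ q = μ) (a b : F) (hab : a * b ^ q + b * a ^ q = μ) :
    Conn q (a • e + b • f) (t • e + f) := by
  have hq := two_le_q hF
  have hfe : Cfsg.hermForm n F q f e = 1 := by rw [herm_swap hF e f, hef, one_pow]
  obtain ⟨c0, hc0, hc0t⟩ := exists_skew hF
  have hc0q : c0 ^ q = -c0 := by linear_combination hc0t
  -- elementary moves
  have moveE : ∀ a b c : F, c + c ^ q = 0 → Conn q (a • e + b • f) ((a + c * b) • e + b • f) := by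
    intro a b c hc
    refine conn_tv hF he hc ?_
    rw [herm_add_left, herm_smul_left, herm_smul_left, he, hfe, mul_zero, zero_add, mul_one]
    module
  have moveF : ∀ a b c : F, c + c ^ q = 0 → Conn q (a • e + b • f) (a • e + (b + c * a) • f) := by
    intro a b c hc
    refine conn_tv hF hf hc ?_
    rw [herm_add_left, herm_smul_left, herm_smul_left, hf, hef, mul_zero, add_zero, mul_one]
    module
  have hsum : ∀ x : F, (x + x ^ q) ^ q = x + x ^ q := fun x => by
    rw [add_pow_q hF, pow_q_q hF, add_comm]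
  have main : ∀ a b : F, a * b ^ q + b * a ^ q = μ → b ^ q ≠ b →
      Conn q (a • e + b • f) (t • e + f) := by
    intro a b hab hb
    set Y := (1 - b) * a ^ q with hY
    have hb' : b ^ q - b ≠ 0 := sub_ne_zero.mpr hb
    set s := -(Y + Y ^ q) / (c0 * (b - b ^ q)) with hs
    have hden : c0 * (b - b ^ q) ≠ 0 := mul_ne_zero hc0 (sub_ne_zero.mpr (Ne.symm hb))
    have hsq : s ^ q = s := by
      rw [← frobQ_apply hF s, hs, map_div₀, map_neg, map_mul, map_sub]
      simp only [frobQ_apply, hsum, hc0q, pow_q_q hF]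
      congr 1; ring
    set a' := a + s * c0 * b with ha'
    have hab' : a' * b ^ q + b * a' ^ q = μ := by
      rw [ha', add_pow_q hF, mul_pow, mul_pow, hsq, hc0q]
      linear_combination hab
    have ha0 : a' ≠ 0 := by
      intro h0; rw [h0, zero_pow (by omega)] at hab'; exact hμ (by linear_combination -hab')
    set c := (1 - b) / a' with hc
    have hkey : (1 - b) * a' ^ q + (1 - b ^ q) * a' = 0 := by
      have hs' : s * (c0 * (b - b ^ q)) = -(Y + Y ^ q) := by rw [hs, div_mul_cancel₀ _ hden]
      rw [hY, mul_pow, pow_q_q hF, ← frobQ_apply hF (1 - b), map_sub, map_one, frobQ_apply] at hs'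
      rw [ha', add_pow_q hF, mul_pow, mul_pow, hsq, hc0q]
      linear_combination hs'
    have hcskew : c + c ^ q = 0 := by
      rw [hc, div_pow, ← frobQ_apply hF (1 - b), map_sub, map_one, frobQ_apply,
        div_add_div _ _ ha0 (pow_ne_zero _ ha0), div_eq_zero_iff]
      exact Or.inl (by linear_combination hkey)
    have h1 := moveE a b (s * c0) (skew_smul hc0t hsq)
    have h2 := moveF a' b c hcskew
    have hb1 : b + c * a' = 1 := by rw [hc, div_mul_cancel₀ _ ha0]; ring
    rw [hb1] at h2
    have htr : a' + a' ^ q = μ := by linear_combination hab' + hkey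
    have h4 := moveE a' 1 (t - a') (by
      rw [← frobQ_apply hF (t - a'), map_sub, frobQ_apply, frobQ_apply]
      linear_combination ht - htr)
    have h5 := (h1.trans h2).trans h4
    rwa [mul_one, add_sub_cancel, one_smul] at h5
  by_cases hb : b ^ q = b
  · have hne : (b + c0 * a) ^ q ≠ b + c0 * a := by
      intro h
      rw [add_pow_q hF, mul_pow, hb, hc0q] at h
      have h1 : c0 * (a + a ^ q) = 0 := by linear_combination -h
      have h2 := (mul_eq_zero.mp h1).resolve_left hc0
      rw [hb] at hab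
      exact hμ (by linear_combination -hab + b * h2)
    refine (moveF a b c0 hc0t).trans (main a _ ?_ hne)
    rw [add_pow_q hF, mul_pow, hc0q]
    linear_combination hab
  · exact main a b hab hb

include hF in
/-- Vectors of equal non-zero length spanning a non-degenerate plane are joined. -/
theorem conn_of_nondeg {n : ℕ} {u v : Fin n → F} {μ : F} (hμ : μ ≠ 0)
    (hu : Cfsg.hermForm n F q u u = μ) (hv : Cfsg.hermForm n F q v v = μ)
    (hD : Cfsg.hermForm n F q u v * Cfsg.hermForm n F q v u ≠ μ * μ) : Conn q u v := by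
  have hq := two_le_q hF
  have hμq : μ ^ q = μ := hu ▸ herm_self_fixed hF u
  set k := Cfsg.hermForm n F q v u / μ with hk
  set v' := v - k • u with hv'
  have hv'u : Cfsg.hermForm n F q v' u = 0 := by
    rw [hv', herm_sub_left hF, herm_smul_left, hu, hk, div_mul_cancel₀ _ hμ, sub_self]
  have huv' : Cfsg.hermForm n F q u v' = 0 := by
    rw [herm_swap hF v' u, hv'u, zero_pow (by omega)]
  set ν := Cfsg.hermForm n F q v' v' with hν
  have hν0 : ν ≠ 0 := by
    intro h0
    have e : ν = Cfsg.hermForm n F q v v - k * Cfsg.hermForm n F q u v := by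
      rw [hν]; conv_lhs => rw [hv']
      rw [herm_sub_left hF, herm_smul_left, herm_sub_right hF, herm_sub_right hF,
        herm_smul_right hF, herm_smul_right hF, hu, hk]
      rw [herm_swap hF v u, div_pow, hμq]
      field_simp
      ring
    rw [h0, hv, hk] at e
    exact hD (by field_simp at e; linear_combination e)
  have hνq : ν ^ q = ν := herm_self_fixed hF v'
  set ρ := -μ / ν with hρ
  have hρ0 : ρ ≠ 0 := div_ne_zero (neg_ne_zero.mpr hμ) hν0
  have hρq : ρ ^ q = ρ := by
    rw [← frobQ_apply hF, hρ, map_div₀, map_neg, frobQ_apply, frobQ_apply, hμq, hνq]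
  haveI := Fintype.ofFinite F
  classical
  have hcard := card_norm_fiber hF hρ0 hρq
  rw [Nat.card_eq_fintype_card] at hcard
  obtain ⟨⟨l, hl⟩, ⟨l', hl'⟩, hne⟩ := Fintype.exists_pair_of_one_lt_card
    (show 1 < Fintype.card {x : F // x ^ (q + 1) = ρ} by omega)
  have hll : l ≠ l' := fun e => hne (Subtype.ext e)
  have hiso : ∀ x : F, x ^ (q + 1) = ρ → Cfsg.hermForm n F q (u + x • v') (u + x • v') = 0 := by
    intro x hx
    simp only [herm_add_left, herm_add_right hF, herm_smul_left, herm_smul_right hF, huv', hv'u,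
      hu, ← hν]
    have : x ^ (q + 1) * ν = -μ := by rw [hx, hρ, div_mul_cancel₀ _ hν0]
    rw [pow_succ'] at this
    linear_combination this
  set E := u + l • v' with hE
  set F0 := u + l' • v' with hF0
  have hEF : Cfsg.hermForm n F q E F0 = μ + l * l' ^ q * ν := by
    simp only [hE, hF0, herm_add_left, herm_add_right hF, herm_smul_left, herm_smul_right hF, huv',
      hv'u, hu, ← hν]
    ring
  have hEF0 : μ + l * l' ^ q * ν ≠ 0 := by
    intro h
    have h1 : l' ^ (q + 1) * ν = -μ := by rw [hl', hρ, div_mul_cancel₀ _ hν0]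
    rw [pow_succ'] at h1
    have h2 : (l - l') * (l' ^ q * ν) = 0 := by linear_combination h - h1
    rcases mul_eq_zero.mp h2 with h3 | h3
    · exact hll (sub_eq_zero.mp h3)
    · rw [mul_assoc, h3, mul_zero, add_zero] at h; exact hμ h
  set z := μ + l * l' ^ q * ν with hz
  set f := (z⁻¹) ^ q • F0 with hf
  have hef : Cfsg.hermForm n F q E f = 1 := by
    rw [hf, herm_smul_right hF, pow_q_q hF, hEF, inv_mul_cancel₀ hEF0]
  have hff : Cfsg.hermForm n F q f f = 0 := by
    rw [hf, herm_smul_left, herm_smul_right hF, hiso l' hl', mul_zero, mul_zero]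
  have hfe : Cfsg.hermForm n F q f E = 1 := by rw [herm_swap hF E f, hef, one_pow]
  obtain ⟨t, ht⟩ := exists_trace_eq hF hμq
  have hEE : Cfsg.hermForm n F q E E = 0 := hiso l hl
  have key : ∀ w : Fin n → F, Cfsg.hermForm n F q w w = μ →
      (∃ a b : F, w = a • E + b • f) → Conn q w (t • E + f) := by
    rintro w hw ⟨a, b, rfl⟩
    refine conn_hyperbolic hF hEE hff hef hμ ht a b ?_
    rw [← hw]
    simp only [herm_add_left, herm_add_right hF, herm_smul_left, herm_smul_right hF, hEE,
      hff, hef, hfe]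
    ring
  have hspan : ∀ a b : F, ∃ a' b' : F, a • u + b • v' = a' • E + b' • f := by
    intro a b
    have hd : l - l' ≠ 0 := sub_ne_zero.mpr hll
    refine ⟨(b - a * l') / (l - l'), (a * l - b) / (l - l') / (z⁻¹) ^ q, ?_⟩
    rw [hf, smul_smul, div_mul_cancel₀ _ (pow_ne_zero _ (inv_ne_zero hEF0)), hE, hF0]
    match_scalars
    · field_simp; ring
    · field_simp; ring
  refine (key u hu ?_).trans (key v hv ?_).symm
  · obtain ⟨a, b, h⟩ := hspan 1 0; exact ⟨a, b, by rw [← h]; simp⟩
  · obtain ⟨a, b, h⟩ := hspan k 1; exact ⟨a, b, by rw [← h, hv']; simp⟩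

include hF in
/-- A subspace cut out by few vectors contains an anisotropic vector. -/
theorem exists_aniso {n m : ℕ} (hm : m < n) (P : Fin m → (Fin n → F)) (K : Submodule F (Fin n → F))
    (hPK : ∀ x, (∀ i, Cfsg.hermForm n F q x (P i) = 0) → x ∈ K)
    (hspan : K ⊔ Submodule.span F (Set.range P) = ⊤) :
    ∃ z ∈ K, Cfsg.hermForm n F q z z ≠ 0 := by
  by_contra hc
  push Not at hc
  let φ : (Fin n → F) →ₗ[F] (Fin m → F) :=
    { toFun := fun x i => Cfsg.hermForm n F q x (P i)
      map_add' := fun x y => funext fun i => herm_add_left n x y (P i)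
      map_smul' := fun c x => funext fun i => herm_smul_left n c x (P i) }
  obtain ⟨z, hz, hz0⟩ := Submodule.exists_mem_ne_zero_of_ne_bot
    (LinearMap.ker_ne_bot_of_finrank_lt (f := φ) (by simpa using hm))
  have hzP : ∀ i, Cfsg.hermForm n F q z (P i) = 0 := congrFun (LinearMap.mem_ker.mp hz)
  have hK : ∀ x ∈ K, ∀ y ∈ K, Cfsg.hermForm n F q x y = 0 := by
    intro x hx y hy
    obtain ⟨c, hcq⟩ : ∃ c : F, frobQ hF c ≠ c := by
      by_contra h; push Not at h; exact frobQ_ne_id hF (RingHom.ext h)
    rw [frobQ_apply] at hcq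
    have e1 := hc (x + y) (K.add_mem hx hy)
    have e2 := hc (x + c • y) (K.add_mem hx (K.smul_mem c hy))
    simp only [herm_add_left, herm_add_right hF, herm_smul_left, herm_smul_right hF, hc x hx,
      hc y hy] at e1 e2
    exact (mul_eq_zero.mp (by linear_combination e2 - c * e1 :
      (c ^ q - c) * Cfsg.hermForm n F q x y = 0)).resolve_left (sub_ne_zero.mpr hcq)
  apply hz0
  apply uForm_nondeg hF n
  intro x
  rw [uForm_h]
  have hx : x ∈ K ⊔ Submodule.span F (Set.range P) := hspan ▸ Submodule.mem_top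
  obtain ⟨y, hy, w, hw, rfl⟩ := Submodule.mem_sup.mp hx
  rw [herm_add_left, hK y hy z (hPK z hzP), zero_add]
  clear hx
  induction hw using Submodule.span_induction with
  | mem a ha => obtain ⟨i, rfl⟩ := ha; rw [herm_swap hF z, hzP, zero_pow]; have := two_le_q hF; omega
  | zero => exact (uForm hF n).zero_left z
  | add a b _ _ ha hb => rw [herm_add_left, ha, hb, add_zero]
  | smul r a _ ha => rw [herm_smul_left, ha, mul_zero]

omit [Finite F] in
/-- Orthogonal complement of a list of vectors. -/
def perpK {n m : ℕ} (q : ℕ) (P : Fin m → (Fin n → F)) : Submodule F (Fin n → F) where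
  carrier := {x | ∀ i, Cfsg.hermForm n F q x (P i) = 0}
  zero_mem' := fun i => by simp [Cfsg.hermForm]
  add_mem' := fun {x y} hx hy i => by rw [herm_add_left, hx i, hy i, add_zero]
  smul_mem' := fun c x hx i => by rw [herm_smul_left, hx i, mul_zero]

include hF in
theorem exists_length {n : ℕ} {z : Fin n → F} (hz : Cfsg.hermForm n F q z z ≠ 0) {μ : F}
    (hμ : μ ^ q = μ) : ∃ a : F, Cfsg.hermForm n F q (a • z) (a • z) = μ := by
  have hzq := herm_self_fixed hF z
  obtain ⟨a, ha⟩ := exists_norm_eq hF (μ := μ / Cfsg.hermForm n F q z z)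
    (by rw [div_pow, hμ, hzq])
  refine ⟨a, ?_⟩
  rw [herm_smul_left, herm_smul_right hF, ← mul_assoc, ← pow_succ', ha, div_mul_cancel₀ _ hz]

include hF in
/-- Transitivity on vectors of a given non-zero length. -/
theorem conn_sphere {n : ℕ} (hn : 2 ≤ n) (h32 : ¬ (n = 3 ∧ q = 2)) {u v : Fin n → F} {μ : F}
    (hμ : μ ≠ 0) (hu : Cfsg.hermForm n F q u u = μ) (hv : Cfsg.hermForm n F q v v = μ) :
    Conn q u v := by
  have hq := two_le_q hF
  have hμq : μ ^ q = μ := hu ▸ herm_self_fixed hF u
  by_cases hD : Cfsg.hermForm n F q u v * Cfsg.hermForm n F q v u = μ * μ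
  swap
  · exact conn_of_nondeg hF hμ hu hv hD
  suffices ∃ w, Cfsg.hermForm n F q w w = μ ∧ Cfsg.hermForm n F q u w = 0 ∧
      Cfsg.hermForm n F q w v * Cfsg.hermForm n F q v w ≠ μ * μ by
    obtain ⟨w, hw, huw, hwv⟩ := this
    exact (conn_of_nondeg hF hμ hu hw (by rw [huw, zero_mul]; exact (mul_ne_zero hμ hμ).symm)).trans
      (conn_of_nondeg hF hμ hw hv hwv)
  set k := Cfsg.hermForm n F q v u / μ with hk
  set v' := v - k • u with hv'
  have hv'u : Cfsg.hermForm n F q v' u = 0 := by
    rw [hv', herm_sub_left hF, herm_smul_left, hu, hk, div_mul_cancel₀ _ hμ, sub_self]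
  have huv' : Cfsg.hermForm n F q u v' = 0 := by
    rw [herm_swap hF v' u, hv'u, zero_pow (by omega)]
  have hν : Cfsg.hermForm n F q v' v' = 0 := by
    conv_lhs => arg 4; rw [hv']
    rw [herm_sub_left hF, herm_smul_left, huv', mul_zero, sub_zero, hv', herm_sub_right hF,
      herm_smul_right hF, hk, div_pow, hμq, ← herm_swap hF, hv]
    field_simp
    linear_combination -hD
  have hvdec : v = k • u + v' := by rw [hv']; abel
  have hhv : ∀ w, Cfsg.hermForm n F q u w = 0 →
      Cfsg.hermForm n F q v w = Cfsg.hermForm n F q v' w := by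
    intro w hw; rw [hvdec, herm_add_left, herm_smul_left, hw, mul_zero, zero_add]
  rcases eq_or_ne v' 0 with h0 | h0
  · obtain ⟨z, hzK, hz⟩ := exists_aniso hF (n := n) (m := 1) (by omega) ![u] (perpK q ![u])
      (fun x hx => hx) (by
        refine eq_top_iff.mpr fun x _ => ?_
        refine Submodule.mem_sup.mpr ⟨x - (Cfsg.hermForm n F q x u / μ) • u, fun i => ?_,
          (Cfsg.hermForm n F q x u / μ) • u, Submodule.smul_mem _ _ (Submodule.subset_span ⟨0, rfl⟩),
          sub_add_cancel _ _⟩
        fin_cases i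
        simp [herm_sub_left hF, herm_smul_left, hu, div_mul_cancel₀ _ hμ])
    obtain ⟨a, ha⟩ := exists_length hF hz hμq
    have huz : Cfsg.hermForm n F q u z = 0 := by
      rw [herm_swap hF z u]; have := hzK 0; simp at this; rw [this, zero_pow (by omega)]
    refine ⟨a • z, ha, by rw [herm_smul_right hF, huz, mul_zero], ?_⟩
    rw [hhv _ (by rw [herm_smul_right hF, huz, mul_zero]), h0,
      show Cfsg.hermForm n F q 0 (a • z) = 0 from (uForm hF n).zero_left _, mul_zero]
    exact (mul_ne_zero hμ hμ).symm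
  · have hindep : v' ∉ Submodule.span F {u} := by
      intro hm
      obtain ⟨r, hr⟩ := Submodule.mem_span_singleton.mp hm
      rw [← hr, herm_smul_left, hu] at hv'u
      rw [(mul_eq_zero.mp hv'u).resolve_right hμ, zero_smul] at hr
      exact h0 hr.symm
    obtain ⟨r, hrU, hr1⟩ := (uForm hF n).exists_perp_one (uForm_nondeg hF n) hindep
    simp only [uForm_h] at hrU hr1
    have hur : Cfsg.hermForm n F q u r = 0 := hrU u (Submodule.mem_span_singleton_self u)
    have hru : Cfsg.hermForm n F q r u = 0 := by rw [herm_swap hF u r, hur, zero_pow (by omega)]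
    by_cases hn4 : 4 ≤ n
    · obtain ⟨z, hzK, hz⟩ := exists_aniso hF (n := n) (m := 3) (by omega) ![u, v', r]
        (perpK q ![u, v']) (fun x hx i => by fin_cases i <;> [exact hx 0; exact hx 1]) (by
          refine eq_top_iff.mpr fun x _ => ?_
          set a := Cfsg.hermForm n F q x u / μ
          set b := Cfsg.hermForm n F q x v'
          refine Submodule.mem_sup.mpr ⟨x - (a • u + b • r), fun i => ?_, a • u + b • r,
            Submodule.add_mem _ (Submodule.smul_mem _ _ (Submodule.subset_span ⟨0, rfl⟩))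
              (Submodule.smul_mem _ _ (Submodule.subset_span ⟨2, rfl⟩)), sub_add_cancel _ _⟩
          have hrv : Cfsg.hermForm n F q r v' = 1 := by rw [herm_swap hF v' r, hr1, one_pow]
          fin_cases i
          · simp [herm_sub_left hF, herm_add_left, herm_smul_left, hu, hru, a,
              div_mul_cancel₀ _ hμ]
          · simp [herm_sub_left hF, herm_add_left, herm_smul_left, huv', hrv, b])
      obtain ⟨a, ha⟩ := exists_length hF hz hμq
      have h1 := hzK 0
      have h2 := hzK 1
      simp only [Matrix.cons_val_zero, Matrix.cons_val_one] at h1 h2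
      have huz : Cfsg.hermForm n F q u (a • z) = 0 := by
        rw [herm_smul_right hF, herm_swap hF z u, h1, zero_pow (by omega), mul_zero]
      refine ⟨a • z, ha, huz, ?_⟩
      rw [hhv _ huz, herm_smul_right hF, herm_swap hF z v', h2, zero_pow (by omega), mul_zero,
        mul_zero]
      exact (mul_ne_zero hμ hμ).symm
    · obtain hn2 | ⟨hn3, hq3⟩ : n = 2 ∨ (n = 3 ∧ 3 ≤ q) := by omega
      · exfalso
        subst hn2
        have e1 : u 0 * u 0 ^ q + u 1 * u 1 ^ q = μ := by
          rw [← hu]; simp [Cfsg.hermForm, Fin.sum_univ_two]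
        have e2 : v' 0 * u 0 ^ q + v' 1 * u 1 ^ q = 0 := by
          rw [← hv'u]; simp [Cfsg.hermForm, Fin.sum_univ_two]
        have e3 : v' 0 * v' 0 ^ q + v' 1 * v' 1 ^ q = 0 := by
          rw [← hν]; simp [Cfsg.hermForm, Fin.sum_univ_two]
        have e4 : v' 0 ^ q * u 0 + v' 1 ^ q * u 1 = 0 := by
          have := congrArg (frobQ hF) e2
          rw [map_add, map_mul, map_mul, map_zero] at this
          simpa only [frobQ_apply, pow_q_q hF] using this
        have a0 : v' 0 * v' 0 ^ q * μ = 0 := by
          linear_combination (-(v' 0 * v' 0 ^ q)) * e1 + (v' 0 ^ q * u 0) * e2 -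
            (v' 1 * u 1 ^ q) * e4 + u 1 * u 1 ^ q * e3
        have a1 : v' 0 = 0 := by
          rcases mul_eq_zero.mp ((mul_eq_zero.mp a0).resolve_right hμ) with h | h
          · exact h
          · exact eq_zero_of_pow_eq_zero h
        have a2 : v' 1 = 0 := by
          rw [a1, zero_mul, zero_add] at e3
          rcases mul_eq_zero.mp e3 with h | h
          · exact h
          · exact eq_zero_of_pow_eq_zero h
        exact h0 (funext fun i => by fin_cases i <;> assumption)
      · haveI := Fintype.ofFinite F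
        classical
        -- an isotropic partner of `v'` orthogonal to `u`
        obtain ⟨s, hs⟩ := exists_trace_eq hF (herm_self_fixed hF r)
        set r' := r - s • v' with hr'
        have hrv : Cfsg.hermForm n F q r v' = 1 := by rw [herm_swap hF v' r, hr1, one_pow]
        have h1' : Cfsg.hermForm n F q v' r' = 1 := by
          rw [hr', herm_sub_right hF, herm_smul_right hF, hr1, hν, mul_zero, sub_zero]
        have h2' : Cfsg.hermForm n F q r' v' = 1 := by rw [herm_swap hF v' r', h1', one_pow]
        have h3' : Cfsg.hermForm n F q r' r' = 0 := by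
          rw [hr', herm_sub_left hF, herm_smul_left, herm_sub_right hF, herm_sub_right hF,
            herm_smul_right hF, herm_smul_right hF, hrv, hr1, hν]
          linear_combination -hs
        have hur' : Cfsg.hermForm n F q u r' = 0 := by
          rw [hr', herm_sub_right hF, herm_smul_right hF, hur, huv', mul_zero, sub_zero]
        obtain ⟨b, hb0, hb⟩ : ∃ b : F, b ≠ 0 ∧ b ^ (q + 1) ≠ μ * μ := by
          by_contra hc
          push Not at hc
          have hle := Fintype.card_le_of_injective
            (fun x : {x : F // x ≠ 0} => (⟨x.1, hc x.1 x.2⟩ : {x : F // x ^ (q + 1) = μ * μ}))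
            (fun x y e => Subtype.ext (congrArg Subtype.val e :))
          have hf := card_norm_fiber hF (mul_ne_zero hμ hμ) (by rw [mul_pow, hμq])
          rw [Nat.card_eq_fintype_card] at hf
          rw [hf, Fintype.card_subtype_compl, ← Nat.card_eq_fintype_card, hF,
            Fintype.card_subtype_eq] at hle
          nlinarith [Nat.sub_add_cancel (Nat.one_le_pow 2 q (by omega))]
        obtain ⟨t, ht⟩ := exists_trace_eq hF hμq
        set a := t / b ^ q with ha
        refine ⟨a • v' + b • r', ?_, ?_, ?_⟩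
        · simp only [herm_add_left, herm_add_right hF, herm_smul_left, herm_smul_right hF, hν, h1',
            h2', h3', mul_zero, mul_one, add_zero, zero_add]
          rw [ha, div_pow, pow_q_q hF, div_mul_cancel₀ _ hb0, mul_div_cancel₀ _ (pow_ne_zero _ hb0)]
          linear_combination ht
        · rw [herm_add_right hF, herm_smul_right hF, herm_smul_right hF, huv', hur', mul_zero,
            mul_zero, add_zero]
        · have huw : Cfsg.hermForm n F q u (a • v' + b • r') = 0 := by
            rw [herm_add_right hF, herm_smul_right hF, herm_smul_right hF, huv', hur', mul_zero,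
              mul_zero, add_zero]
          rw [herm_swap hF v (a • v' + b • r'), hhv _ huw,
            herm_add_right hF, herm_smul_right hF, herm_smul_right hF, hν, h1', mul_zero, mul_one,
            zero_add, pow_q_q hF, ← pow_succ']
          intro h
          exact hb (by rwa [mul_comm] at h)

end CfsgLib.Unitary
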