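import Cfsg.Agent.Unitary.TransvectionClass
import Cfsg.Agent.Unitary.Decompose

/-!
Involutions of `SU_n(q)` in characteristic two are determined up to conjugacy by the rank of `a - 1`.
-/

set_option autoImplicit false
set_option linter.style.haveILetI false
set_option linter.unusedSectionVars false

namespace CfsgLib.Unitary.Invol

open Matrix CfsgLib.Forms CfsgLib.Unitary

variable {F : Type*} [Field F] [Finite F] [CharP F 2] {q n : ℕ} (hF : Nat.card F = q ^ 2)
include hF

local notation "hm" => Cfsg.hermForm n F q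

/-- A square-zero map skew-adjoint for the Hermitian form (`= a - 1` for an involution `a`). -/
structure IsUDev (N : (Fin n → F) →ₗ[F] (Fin n → F)) : Prop where
  sq : ∀ x, N (N x) = 0
  adj : ∀ x y, hm (N x) y = hm x (N y)

theorem isUDev_of_invol {g : Cfsg.SU n F q} (hg : g * g = 1) :
    IsUDev (q := q) (Matrix.mulVecLin (suMat g - 1)) := by
  have happ : ∀ x, Matrix.mulVecLin (suMat g - 1) x = suMat g *ᵥ x - x := fun x => by
    rw [Matrix.mulVecLin_apply, Matrix.sub_mulVec, Matrix.one_mulVec]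
  have hgg : ∀ x, suMat g *ᵥ (suMat g *ᵥ x) = x := fun x => by
    rw [Matrix.mulVec_mulVec, ← suMat_mul, hg, suMat_one, Matrix.one_mulVec]
  have h2 : ∀ x : Fin n → F, x + x = 0 := fun x => funext fun i => CharTwo.add_self_eq_zero _
  refine ⟨fun x => ?_, fun x y => ?_⟩
  · rw [happ, happ, Matrix.mulVec_sub, hgg]
    calc x - suMat g *ᵥ x - (suMat g *ᵥ x - x) = (x + x) - (suMat g *ᵥ x + suMat g *ᵥ x) := by abel
      _ = 0 := by rw [h2, h2, sub_zero]
  · rw [happ, happ, herm_sub_left hF, show hm x (suMat g *ᵥ y - y) = hm x (suMat g *ᵥ y) - hm x y from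
      (uForm hF n).sub_right _ _ _]
    congr 1
    conv_lhs => rw [← hgg y]
    exact su_preserves g _ _

variable {N : (Fin n → F) →ₗ[F] (Fin n → F)}

theorem image_isotropic (hN : IsUDev (q := q) N) (x y : Fin n → F) : hm (N x) (N y) = 0 := by
  rw [hN.adj, hN.sq]; exact (uForm hF n).zero_right x

/-- A standard hyperbolic family for `N`. -/
structure IsFam {s : ℕ} (N : (Fin n → F) →ₗ[F] (Fin n → F)) (e : Fin s → Fin n → F) : Prop where
  zero : ∀ i j, hm (e i) (e j) = 0
  dual : ∀ i j, hm (e i) (N (e j)) = if i = j then 1 else 0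
  expand : ∀ x, N x = ∑ i, hm x (N (e i)) • N (e i)

theorem exists_fam (hN : IsUDev (q := q) N) :
    ∃ e : Fin (Module.finrank F (LinearMap.range N)) → Fin n → F, IsFam (q := q) N e := by
  classical
  obtain ⟨U, hU⟩ := exists_isCompl (LinearMap.ker N)
  set s := Module.finrank F (LinearMap.range N) with hs
  have hUs : Module.finrank F U = s := by
    have h1 := Submodule.finrank_add_eq_of_isCompl hU
    have h2 := LinearMap.finrank_range_add_finrank_ker N
    omega
  have hdec : ∀ x, ∃ u ∈ U, N x = N u := fun x => by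
    obtain ⟨k, hk, u, hu, rfl⟩ := Submodule.mem_sup.1 (hU.sup_eq_top.ge (Submodule.mem_top (x := x)))
    exact ⟨u, hu, by rw [map_add, LinearMap.mem_ker.1 hk, zero_add]⟩
  let B : U →ₛₗ[frobQ hF] U →ₗ[F] F :=
    LinearMap.mk₂'ₛₗ (frobQ hF) (RingHom.id F) (fun x y => hm y.1 (N x.1))
      (fun a b c => by rw [Submodule.coe_add, map_add, herm_add_right hF])
      (fun r a c => by rw [Submodule.coe_smul, map_smul, herm_smul_right hF, smul_eq_mul, frobQ_apply])
      (fun a b c => herm_add_left n b.1 c.1 _)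
      (fun r a c => by rw [Submodule.coe_smul, herm_smul_left]; rfl)
  have hS : B.IsSymm := ⟨fun x y => by
    show frobQ hF (hm y.1 (N x.1)) = hm x.1 (N y.1)
    rw [frobQ_apply, ← herm_swap hF, hN.adj]⟩
  have hB : B.Nondegenerate := by
    have h1 : ∀ x : U, (∀ y : U, B x y = 0) → x = 0 := by
      intro x hx
      have h0 : N x.1 = 0 := uForm_nondeg hF n _ fun v => by
        obtain ⟨k, hk, u, hu, rfl⟩ := Submodule.mem_sup.1 (hU.sup_eq_top.ge (Submodule.mem_top (x := v)))
        show hm (k + u) (N x.1) = 0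
        rw [herm_add_left, show hm u (N x.1) = 0 from hx ⟨u, hu⟩, add_zero, ← hN.adj,
          LinearMap.mem_ker.1 hk]
        exact (uForm hF n).zero_left _
      exact Subtype.ext (Submodule.disjoint_def.1 hU.disjoint x.1 (LinearMap.mem_ker.2 h0) x.2)
    refine ⟨h1, fun y hy => h1 y fun x => ?_⟩
    rw [← hS.eq x y, hy x, map_zero]
  obtain ⟨b, hb⟩ := exists_orthonormal_herm (frobQ_ne_id hF) (frobQ_invol hF)
    (fun a ha ha0 => finite_norm_surjective (frobQ_ne_id hF) (frobQ_invol hF) a ha ha0) s U B hS hB hUs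
  set e : Fin s → Fin n → F := fun i => (b i : Fin n → F) with he
  have hdual : ∀ i j, hm (e i) (N (e j)) = if i = j then 1 else 0 := fun i j => by
    have h := hb j i
    rw [show (if i = j then (1 : F) else 0) = if j = i then 1 else 0 by simp [eq_comm]]
    exact h
  choose t ht using fun i => exists_trace_eq hF (herm_self_fixed hF (e i))
  set c : Fin s → Fin s → F := fun i j =>
    if i < j then hm (e i) (e j) else if i = j then t i else 0 with hc
  set e' : Fin s → Fin n → F := fun i => e i + ∑ k, c i k • N (e k) with he'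
  have hcsum : ∀ i, N (∑ k, c i k • N (e k)) = 0 := fun i => by simp [map_sum, hN.sq]
  have hNe : ∀ i, N (e' i) = N (e i) := fun i => by rw [he', map_add, hcsum, add_zero]
  have hl : ∀ i j, hm (∑ k, c i k • N (e k)) (e j) = c i j := fun i j => by
    rw [show hm (∑ k, c i k • N (e k)) (e j) = ∑ k, hm (c i k • N (e k)) (e j) from
      map_sum (AddMonoidHom.mk' (fun v => hm v (e j)) fun a b => herm_add_left n a b _) _ _]
    simp only [herm_smul_left, hN.adj, hdual, mul_ite, mul_one, mul_zero, Finset.sum_ite_eq',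
      Finset.mem_univ, if_true]
  have hll : ∀ i j, hm (∑ k, c i k • N (e k)) (∑ k, c j k • N (e k)) = 0 := fun i j => by
    rw [show (∑ k, c i k • N (e k)) = N (∑ k, c i k • e k) by simp [map_sum],
      show (∑ k, c j k • N (e k)) = N (∑ k, c j k • e k) by simp [map_sum]]
    exact image_isotropic hF hN _ _
  refine ⟨e', ⟨fun i j => ?_, fun i j => ?_, fun x => ?_⟩⟩
  · show hm (e i + ∑ k, c i k • N (e k)) (e j + ∑ k, c j k • N (e k)) = 0
    rw [herm_add_left, herm_add_right hF, herm_add_right hF, hll, hl, add_zero,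
      herm_swap hF (∑ k, c j k • N (e k)) (e i), hl]
    rcases lt_trichotomy i j with h | h | h
    · simp only [hc, if_pos h, if_neg h.not_gt, if_neg h.ne']
      rw [zero_pow (by have := two_le_q hF; omega), add_zero, CharTwo.add_self_eq_zero]
    · subst h
      simp only [hc, lt_irrefl, if_false, if_true]
      rw [← ht i]
      linear_combination (t i + t i ^ q) * CharTwo.two_eq_zero (R := F)
    · simp only [hc, if_pos h, if_neg h.not_gt, if_neg h.ne']
      rw [← herm_swap hF, add_zero, CharTwo.add_self_eq_zero]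
  · rw [hNe]
    show hm (e i + _) _ = _
    rw [herm_add_left, hdual, ← hN.adj, hcsum, show hm 0 (e j) = 0 from (uForm hF n).zero_left _, add_zero]
  · obtain ⟨u, hu, hxu⟩ := hdec x
    have h1 := congrArg (fun w : U => N w.1) (b.sum_repr ⟨u, hu⟩)
    simp only [Submodule.coe_sum, Submodule.coe_smul, map_sum, map_smul] at h1
    have hco : ∀ i, b.repr ⟨u, hu⟩ i = hm x (N (e i)) := fun i => by
      rw [← hN.adj, hxu, ← h1,
        show hm (∑ k, b.repr ⟨u, hu⟩ k • N (b k : Fin n → F)) (e i) = ∑ k, hm (b.repr ⟨u, hu⟩ k • N (e k)) (e i) from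
          map_sum (AddMonoidHom.mk' (fun v => hm v (e i)) fun a b => herm_add_left n a b _) _ _]
      simp only [herm_smul_left, hN.adj, hdual, mul_ite, mul_one, mul_zero, Finset.sum_ite_eq',
        Finset.mem_univ, if_true]
    rw [hxu]
    conv_lhs => rw [← h1]
    exact Finset.sum_congr rfl fun i _ => by rw [hco, hNe]

theorem linearIndependent_fam (hN : IsUDev (q := q) N) {s : ℕ} {e : Fin s → Fin n → F}
    (he : IsFam (q := q) N e) :
    LinearIndependent F (Sum.elim e fun i => N (e i)) := by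
  rw [Fintype.linearIndependent_iff]
  intro c hc i
  have key : ∀ w, ∑ j, c j * hm (Sum.elim e (fun i => N (e i)) j) w = 0 := fun w => by
    have h := congrArg (fun v => hm v w) hc
    simp only [show hm (0 : Fin n → F) w = 0 from (uForm hF n).zero_left w] at h
    rw [← h, show hm (∑ j, c j • Sum.elim e (fun i => N (e i)) j) w = ∑ j, hm (c j • Sum.elim e (fun i => N (e i)) j) w from
      map_sum (AddMonoidHom.mk' (fun v => hm v w) fun a b => herm_add_left n a b _) _ _]
    simp only [herm_smul_left]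
  rcases i with i | i
  · simpa [Fintype.sum_sum_type, he.dual, image_isotropic hF hN] using key (N (e i))
  · simpa [Fintype.sum_sum_type, he.zero, hN.adj, he.dual] using key (e i)

/-- The map `1 + Σ a h(·,z) z` over a list of vectors. -/
theorem exists_fix (hN : IsUDev (q := q) N) {μ : F} (hμ : μ ^ (q + 1) = 1)
    (hn : 0 < n) :
    ∃ T : Matrix (Fin n) (Fin n) F, T.det = μ ∧ (∀ x y, hm (T *ᵥ x) (T *ᵥ y) = hm x y) ∧
      ∀ x, T *ᵥ N x = N (T *ᵥ x) := by
  classical
  have hq := two_le_q hF
  have hpr : ∀ (z : Fin n → F) (lam : F), hm z z = 1 → lam ^ (q + 1) = 1 → ∀ x y,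
      hm (Cfsg.unitaryTransvection n q z (lam - 1) *ᵥ x) (Cfsg.unitaryTransvection n q z (lam - 1) *ᵥ y) =
        hm x y := by
    intro z lam hz hlam x y
    simp only [utv_mulVec, herm_add_left, herm_add_right hF, herm_smul_left, herm_smul_right hF, hz,
      mul_pow, ← herm_swap hF]
    rw [show (lam - 1) ^ q = lam ^ q - 1 by rw [← frobQ_apply hF (lam - 1), map_sub, map_one, frobQ_apply]]
    have : lam * lam ^ q = 1 := by rw [← pow_succ']; exact hlam
    linear_combination (hm x z * hm z y) * this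
  have hdet : ∀ (z : Fin n → F) (lam : F), hm z z = 1 →
      (Cfsg.unitaryTransvection n q z (lam - 1)).det = lam := fun z lam hz => by
    rw [det_utv, hz, mul_one, add_sub_cancel]
  by_cases hk : ∃ z, N z = 0 ∧ hm z z ≠ 0
  · obtain ⟨z, hNz, hzz⟩ := hk
    obtain ⟨c, hc⟩ := exists_norm_eq hF (μ := (hm z z)⁻¹) (by rw [inv_pow, herm_self_fixed hF])
    have hz1 : hm (c • z) (c • z) = 1 := by
      rw [herm_smul_left, herm_smul_right hF, ← mul_assoc, ← pow_succ', hc, inv_mul_cancel₀ hzz]
    have hN1 : N (c • z) = 0 := by rw [map_smul, hNz, smul_zero]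
    refine ⟨_, hdet (c • z) μ hz1, hpr (c • z) μ hz1 hμ, fun x => ?_⟩
    rw [utv_mulVec, utv_mulVec, map_add, map_smul, hN1, smul_zero, add_zero, hN.adj, hN1,
      show hm x 0 = 0 from (uForm hF n).zero_right x, mul_zero, zero_smul, add_zero]
  · push Not at hk
    obtain ⟨e, he⟩ := exists_fam hF hN
    haveI := Fintype.ofFinite F
    obtain ⟨lam, hlam⟩ := FiniteField.isSquare_of_char_two (ringChar.eq F 2) μ
    have hlam1 : lam ^ (q + 1) = 1 := by
      have h : (lam ^ (q + 1) + 1) * (lam ^ (q + 1) + 1) = 0 := by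
        have h1 : lam ^ (q + 1) * lam ^ (q + 1) = 1 := by rw [← mul_pow, ← hlam, hμ]
        linear_combination h1 + (lam ^ (q + 1) + 1) * CharTwo.two_eq_zero (R := F)
      exact CharTwo.add_eq_zero.1 (mul_self_eq_zero.1 h)
    have hpos : 0 < Module.finrank F (LinearMap.range N) := by
      rw [Nat.pos_iff_ne_zero]
      intro h0
      have hz : (Pi.single ⟨0, hn⟩ 1 : Fin n → F) ∈ LinearMap.ker N := by
        rw [LinearMap.mem_ker]
        have hr : N (Pi.single ⟨0, hn⟩ 1) ∈ LinearMap.range N := ⟨_, rfl⟩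
        rw [Submodule.finrank_eq_zero.1 h0, Submodule.mem_bot] at hr
        exact hr
      exact one_ne_zero ((show hm (Pi.single ⟨0, hn⟩ 1) (Pi.single ⟨0, hn⟩ 1) = 1 by
        rw [herm_single_left]; simp) ▸ hk _ hz)
    set e0 := e ⟨0, hpos⟩
    have h00 : hm e0 e0 = 0 := he.zero _ _
    have h01 : hm e0 (N e0) = 1 := (he.dual _ _).trans (if_pos rfl)
    have h10 : hm (N e0) e0 = 1 := by rw [hN.adj, h01]
    have h11 : hm (N e0) (N e0) = 0 := image_isotropic hF hN _ _
    obtain ⟨t, ht⟩ := exists_trace_eq hF (μ := (1 : F)) (one_pow q)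
    have hval : ∀ a : F, a + a ^ q = 1 → hm (e0 + a • N e0) (e0 + a • N e0) = 1 := fun a ha => by
      simp only [herm_add_left, herm_add_right hF, herm_smul_left, herm_smul_right hF, h00, h01, h10, h11]
      linear_combination ha
    have ht' : t ^ q + (t ^ q) ^ q = 1 := by rw [pow_q_q hF, add_comm, ht]
    refine ⟨Cfsg.unitaryTransvection n q (e0 + t • N e0) (lam - 1) *
        Cfsg.unitaryTransvection n q (e0 + t ^ q • N e0) (lam - 1), ?_, fun x y => ?_, fun x => ?_⟩
    · rw [Matrix.det_mul, hdet _ _ (hval t ht), hdet _ _ (hval _ ht'), ← hlam]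
    · rw [← mulVec_mulVec, ← mulVec_mulVec, hpr _ _ (hval t ht) hlam1, hpr _ _ (hval _ ht') hlam1]
    · have hperp : hm (e0 + t ^ q • N e0) (e0 + t • N e0) = 0 := by
        simp only [herm_add_left, herm_add_right hF, herm_smul_left, herm_smul_right hF, h00, h01, h10, h11]
        linear_combination t ^ q * CharTwo.two_eq_zero (R := F)
      have hT : ∀ y, (Cfsg.unitaryTransvection n q (e0 + t • N e0) (lam - 1) *
          Cfsg.unitaryTransvection n q (e0 + t ^ q • N e0) (lam - 1)) *ᵥ y =
          y + ((lam - 1) * hm y (N e0)) • e0 + ((lam - 1) * hm y e0) • N e0 := by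
        intro y
        rw [← mulVec_mulVec, utv_mulVec (e0 + t ^ q • N e0), utv_mulVec, herm_add_left, herm_smul_left,
          hperp, mul_zero, add_zero]
        simp only [herm_add_right hF, herm_smul_right hF, pow_q_q hF, smul_add, smul_smul]
        match_scalars
        · ring
        · linear_combination ((lam - 1) * hm y e0) * CharTwo.two_eq_zero (R := F) + ((lam - 1) * hm y (N e0)) * ht
        · linear_combination ((lam - 1) * hm y e0) * ht + ((lam - 1) * t * t ^ q * hm y (N e0)) * CharTwo.two_eq_zero (R := F)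
      rw [hT, hT, map_add, map_add, map_smul, map_smul, hN.sq, smul_zero, add_zero, hN.adj, hN.adj, hN.sq,
        show hm x 0 = 0 from (uForm hF n).zero_right x, mul_zero, zero_smul, add_zero]

/-- Involutions of `SU_n(q)`, `q` even, with `a - 1` and `b - 1` of equal rank are conjugate. -/
theorem isConj_of_rank (hn : 0 < n) {a b : Cfsg.SU n F q} (ha : a * a = 1) (hb : b * b = 1)
    (hr : (suMat a - 1).rank = (suMat b - 1).rank) : IsConj a b := by
  classical
  have hNa := isUDev_of_invol hF ha
  have hNb := isUDev_of_invol hF hb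
  set N := Matrix.mulVecLin (suMat a - 1) with hN
  set M := Matrix.mulVecLin (suMat b - 1) with hM
  obtain ⟨e, he⟩ := exists_fam hF hNa
  obtain ⟨f', hf'⟩ := exists_fam hF hNb
  have hrr : Module.finrank F (LinearMap.range N) = Module.finrank F (LinearMap.range M) := hr
  set f := f' ∘ Fin.cast hrr with hfdef
  have hf : IsFam (q := q) M f := ⟨fun i j => hf'.zero _ _, fun i j => by
      rw [hfdef, Function.comp_apply, Function.comp_apply, hf'.dual]; simp [Fin.ext_iff],
    fun x => by rw [hf'.expand x]; exact ((finCongr hrr).sum_comp fun i => hm x (M (f' i)) • M (f' i)).symm⟩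
  let σ := finSumFinEquiv (m := Module.finrank F (LinearMap.range N)) (n := Module.finrank F (LinearMap.range N))
  obtain ⟨g, hg⟩ := exists_GU_family hF (Sum.elim e (fun i => N (e i)) ∘ σ.symm)
    (Sum.elim f (fun i => M (f i)) ∘ σ.symm)
    ((linearIndependent_fam hF hNa he).comp _ σ.symm.injective)
    ((linearIndependent_fam hF hNb hf).comp _ σ.symm.injective) (fun i j => by
      simp only [Function.comp_apply]
      rcases σ.symm i with i | i <;> rcases σ.symm j with j | j <;>
        simp only [Sum.elim_inl, Sum.elim_inr, image_isotropic hF hNa, image_isotropic hF hNb] <;>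
        simp [he.zero, hf.zero, he.dual, hf.dual, hNa.adj, hNb.adj])
  set G := (g.1 : Matrix (Fin n) (Fin n) F) with hG
  have hgN : ∀ i, G *ᵥ N (e i) = M (f i) := fun i => by
    have := hg (σ (Sum.inr i))
    simpa using this
  have hcomm : ∀ x, G *ᵥ N x = M (G *ᵥ x) := by
    intro x
    rw [he.expand x, hf.expand (G *ᵥ x), Matrix.mulVec_sum]
    refine Finset.sum_congr rfl fun i _ => ?_
    rw [Matrix.mulVec_smul, hgN, ← hgN i, mem_GU_iff.mp g.2]
  have hd : ((G.det)⁻¹) ^ (q + 1) = 1 := by
    rw [inv_pow, inv_eq_one]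
    simpa using congrArg Units.val (det_GU hF g.2)
  obtain ⟨T, hTd, hTp, hTc⟩ := exists_fix hF hNb hd hn
  have hG0 : G.det ≠ 0 := (Matrix.GeneralLinearGroup.det g.1).ne_zero
  have hdet : (T * G).det = 1 := by rw [Matrix.det_mul, hTd, inv_mul_cancel₀ hG0]
  let s : Cfsg.SU n F q := ⟨⟨T * G, hdet⟩, fun x y => by
    show hm ((T * G) *ᵥ x) ((T * G) *ᵥ y) = hm x y
    rw [← mulVec_mulVec, ← mulVec_mulVec, hTp, mem_GU_iff.mp g.2]⟩
  refine isConj_iff.2 ⟨s, mul_inv_eq_iff_eq_mul.2 (su_ext fun x => ?_)⟩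
  have happ : ∀ (c : Cfsg.SU n F q) x, suMat c *ᵥ x = x + Matrix.mulVecLin (suMat c - 1) x := fun c x => by
    rw [Matrix.mulVecLin_apply, Matrix.sub_mulVec, Matrix.one_mulVec, add_sub_cancel]
  rw [suMat_mul, suMat_mul]
  show ((T * G) * suMat a) *ᵥ x = (suMat b * (T * G)) *ᵥ x
  rw [← Matrix.mulVec_mulVec x (T * G), ← Matrix.mulVec_mulVec x (suMat b), happ a x, happ b ((T * G) *ᵥ x)]
  show (T * G) *ᵥ (x + N x) = (T * G) *ᵥ x + M ((T * G) *ᵥ x)
  rw [Matrix.mulVec_add, ← mulVec_mulVec (N x), hcomm, hTc, mulVec_mulVec]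

end CfsgLib.Unitary.Invol
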