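import Cfsg.Agent.Unitary.Simple
import Mathlib.LinearAlgebra.Matrix.GeneralLinearGroup.Card

/-!
Totally isotropic subspaces: counts and stabilisers.
-/

set_option autoImplicit false
set_option linter.style.haveILetI false

namespace CfsgLib.Unitary

open Matrix CfsgLib.Forms

variable {F : Type*} [Field F] [Finite F] {q : ℕ} (hF : Nat.card F = q ^ 2)

/-- Orbit-stabiliser in fibre form. -/
theorem card_eq_card_mul_card {H X : Type*} [Group H] (f : H → X) (hf : Function.Surjective f)
    (K : Subgroup H) (hK : ∀ g g', g⁻¹ * g' ∈ K ↔ f g = f g') :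
    Nat.card H = Nat.card X * Nat.card K := by
  let φ : H ⧸ K ≃ X :=
    Equiv.ofBijective (Quotient.lift f fun g g' h => (hK g g').mp (QuotientGroup.leftRel_apply.mp h))
      ⟨fun x y => by
        induction x using Quotient.inductionOn with | h g =>
        induction y using Quotient.inductionOn with | h g' =>
        exact fun h => QuotientGroup.eq.mpr ((hK g g').mpr h),
       fun x => by obtain ⟨g, hg⟩ := hf x; exact ⟨QuotientGroup.mk g, hg⟩⟩
  rw [Subgroup.card_eq_card_quotient_mul_card_subgroup K, Nat.card_congr φ]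

/-- Independent mutually orthogonal isotropic tuples. -/
abbrev IsoTuple (q n k : ℕ) (F : Type*) [Field F] : Type _ :=
  {v : Fin k → Fin n → F // LinearIndependent F v ∧ ∀ i j, Cfsg.hermForm n F q (v i) (v j) = 0}

/-- The number of such tuples. -/
noncomputable def numTuple (F : Type*) [Field F] (q n k : ℕ) : ℕ := Nat.card (IsoTuple q n k F)

include hF in
/-- Isotropic vectors orthogonal to an isotropic tuple. -/
theorem card_perp_tuple {n k m : ℕ} (hn : n = k + k + m) (v : IsoTuple q n k F) :
    Nat.card {x : Fin n → F // Cfsg.hermForm n F q x x = 0 ∧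
      ∀ i, Cfsg.hermForm n F q x (v.1 i) = 0} = (q ^ 2) ^ k * numLen F q m 0 := by
  subst hn
  have hq := two_le_q hF
  obtain ⟨v, hli, hv⟩ := v
  obtain ⟨l, hl⟩ := exists_norm_eq hF (μ := (-1 : F))
    (by rw [← frobQ_apply hF, map_neg, map_one])
  rw [pow_succ] at hl
  let a : Fin k → Fin (k + k + m) := fun j => Fin.castAdd m (Fin.castAdd k j)
  let b : Fin k → Fin (k + k + m) := fun j => Fin.castAdd m (Fin.natAdd k j)
  let e : Fin k → Fin (k + k + m) → F := fun j => Pi.single (a j) 1 + l • Pi.single (b j) 1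
  have hab : ∀ i j, a i ≠ b j := fun i j h => by
    have := congrArg Fin.val h; simp [a, b] at this; omega
  have ha : Function.Injective a := (Fin.castAdd_injective _ _).comp (Fin.castAdd_injective _ _)
  have hb : Function.Injective b := (Fin.castAdd_injective _ _).comp (Fin.natAdd_injective _ _)
  have hxe : ∀ x i, Cfsg.hermForm (k + k + m) F q x (e i) = x (a i) + l ^ q * x (b i) := by
    intro x i
    rw [herm_add_right hF, herm_smul_right hF]
    have h1 : ∀ j, Cfsg.hermForm (k + k + m) F q x (Pi.single j 1) = x j := fun j => by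
      rw [Cfsg.hermForm, Finset.sum_eq_single j]
      · simp
      · intro c _ hc; simp [Pi.single_eq_of_ne hc, show q ≠ 0 by omega]
      · simp
    rw [h1, h1]
  have hee : ∀ i j, Cfsg.hermForm (k + k + m) F q (e i) (e j) = 0 := by
    intro i j
    rw [hxe]
    simp only [e, Pi.add_apply, Pi.smul_apply, smul_eq_mul, Pi.single_apply, ha.eq_iff, hb.eq_iff,
      hab j i, (hab i j).symm, if_false, mul_zero, add_zero, zero_add]
    split_ifs
    · linear_combination hl
    · simp
  have hlie : LinearIndependent F e := by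
    rw [Fintype.linearIndependent_iff]
    intro c hc i
    have h := congrFun hc (a i)
    simpa [e, Finset.sum_apply, Pi.single_apply, ha.eq_iff, hab] using h
  obtain ⟨g, hg⟩ := exists_GU_family hF e v hlie hli (fun i j => by rw [hee, hv])
  set G := (g.1 : Matrix (Fin (k + k + m)) (Fin (k + k + m)) F) with hG
  have hp : ∀ x y, Cfsg.hermForm (k + k + m) F q (G *ᵥ x) (G *ᵥ y) =
      Cfsg.hermForm (k + k + m) F q x y := mem_GU_iff.mp g.2
  let E : (Fin (k + k + m) → F) ≃ (Fin (k + k + m) → F) :=
    { toFun := fun x => G *ᵥ x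
      invFun := fun x => (g.1⁻¹).1 *ᵥ x
      left_inv := fun x => by simp [hG, Matrix.mulVec_mulVec]
      right_inv := fun x => by simp [hG, Matrix.mulVec_mulVec] }
  have e1 : {x : Fin (k + k + m) → F // Cfsg.hermForm _ F q x x = 0 ∧
        ∀ i, Cfsg.hermForm _ F q x (v i) = 0} ≃
      {x : Fin (k + k + m) → F // Cfsg.hermForm _ F q x x = 0 ∧
        ∀ i, Cfsg.hermForm _ F q x (e i) = 0} :=
    (Equiv.subtypeEquiv E fun x => by
      change _ ↔ Cfsg.hermForm _ F q (G *ᵥ x) (G *ᵥ x) = 0 ∧
        ∀ i, Cfsg.hermForm _ F q (G *ᵥ x) (v i) = 0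
      simp only [← hg, ← hG, hp]).symm
  have hherm : ∀ (y : Fin k → F) (z : Fin m → F),
      Cfsg.hermForm (k + k + m) F q (Fin.append (Fin.append (-(l ^ q) • y) y) z)
        (Fin.append (Fin.append (-(l ^ q) • y) y) z) = Cfsg.hermForm m F q z z := by
    intro y z
    simp only [Cfsg.hermForm, Fin.sum_univ_add, Fin.append_left, Fin.append_right, Pi.smul_apply,
      smul_eq_mul]
    rw [← Finset.sum_add_distrib, add_eq_right]
    refine Finset.sum_eq_zero fun i _ => ?_
    rw [mul_pow, ← frobQ_apply hF (-(l ^ q)), map_neg, frobQ_apply, pow_q_q hF]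
    linear_combination (y i * y i ^ q) * hl
  have e2 : {x : Fin (k + k + m) → F // Cfsg.hermForm _ F q x x = 0 ∧
        ∀ i, Cfsg.hermForm _ F q x (e i) = 0} ≃
      (Fin k → F) × {z : Fin m → F // Cfsg.hermForm m F q z z = 0} :=
    { toFun := fun x => (fun i => x.1 (b i), ⟨fun i => x.1 (Fin.natAdd (k + k) i), by
        have hx : x.1 = Fin.append (Fin.append (-(l ^ q) • fun i => x.1 (b i)) fun i => x.1 (b i))
            (fun i => x.1 (Fin.natAdd (k + k) i)) := by
          funext i
          induction i using Fin.addCases with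
          | left i =>
            induction i using Fin.addCases with
            | left i =>
              have := x.2.2 i
              rw [hxe] at this
              simp only [a] at this
              simp only [Fin.append_left, Pi.smul_apply, smul_eq_mul]
              linear_combination this
            | right i => simp only [b, Fin.append_left, Fin.append_right]
          | right i => simp
        have h0 := x.2.1
        rw [hx, hherm] at h0
        exact h0⟩)
      invFun := fun p => ⟨Fin.append (Fin.append (-(l ^ q) • p.1) p.1) p.2.1,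
        by rw [hherm]; exact p.2.2, fun i => by
          rw [hxe]; simp only [a, b, Fin.append_left, Fin.append_right, Pi.smul_apply, smul_eq_mul]
          ring⟩
      left_inv := fun x => Subtype.ext (by
        funext i
        induction i using Fin.addCases with
        | left i =>
          induction i using Fin.addCases with
          | left i =>
            have := x.2.2 i
            rw [hxe] at this
            simp only [a] at this
            simp only [Fin.append_left, Pi.smul_apply, smul_eq_mul]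
            linear_combination -this
          | right i => simp only [b, Fin.append_left, Fin.append_right]
        | right i => simp)
      right_inv := fun p => by
        refine Prod.ext (funext fun i => by simp only [b, Fin.append_left, Fin.append_right])
          (Subtype.ext (funext fun i => by simp only [Fin.append_right])) }
  rw [Nat.card_congr (e1.trans e2), Nat.card_prod, Nat.card_pi]
  simp [hF, numLen]

include hF in
theorem numTuple_succ {n k m : ℕ} (hn : n = k + k + m) :
    (numTuple F q n (k + 1) : ℤ) =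
      numTuple F q n k * (((q : ℤ) ^ 2) ^ k * ((numLen F q m 0 : ℤ) - 1)) := by
  classical
  haveI := Fintype.ofFinite F
  have hsw : ∀ {x y : Fin n → F}, Cfsg.hermForm n F q x y = 0 ↔ Cfsg.hermForm n F q y x = 0 :=
    (uForm hF n).eq_zero_comm
  let T : IsoTuple q n k F → Type _ := fun v =>
    {x : Fin n → F // (Cfsg.hermForm n F q x x = 0 ∧ ∀ i, Cfsg.hermForm n F q x (v.1 i) = 0) ∧
      x ∉ Submodule.span F (Set.range v.1)}
  have e : IsoTuple q n (k + 1) F ≃ Σ v : IsoTuple q n k F, T v :=
    { toFun := fun w => ⟨⟨Fin.init w.1, (w.2.1.comp _ (Fin.castSucc_injective k)),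
          fun i j => w.2.2 _ _⟩, w.1 (Fin.last k), ⟨w.2.2 _ _, fun i => w.2.2 _ _⟩, by
          have h := w.2.1
          rw [← Fin.snoc_init_self w.1, linearIndependent_finSnoc] at h
          exact h.2⟩
      invFun := fun p => ⟨Fin.snoc p.1.1 p.2.1, by
          rw [linearIndependent_finSnoc]; exact ⟨p.1.2.1, p.2.2.2⟩, fun i j => by
          induction i using Fin.lastCases with
          | last =>
            induction j using Fin.lastCases with
            | last => simpa using p.2.2.1.1
            | cast j => simpa using p.2.2.1.2 j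
          | cast i =>
            induction j using Fin.lastCases with
            | last => simpa using hsw.mp (p.2.2.1.2 i)
            | cast j => simpa using p.1.2.2 i j⟩
      left_inv := fun w => Subtype.ext (Fin.snoc_init_self w.1)
      right_inv := fun p => by
        rcases p with ⟨⟨v, hv⟩, x, hx⟩
        refine Sigma.subtype_ext (Subtype.ext ?_) ?_
        · exact Fin.init_snoc (α := fun _ => Fin n → F) x v
        · simp }
  have hT : ∀ v, (Nat.card (T v) : ℤ) = ((q : ℤ) ^ 2) ^ k * ((numLen F q m 0 : ℤ) - 1) := by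
    intro v
    set P := fun x : Fin n → F =>
      Cfsg.hermForm n F q x x = 0 ∧ ∀ i, Cfsg.hermForm n F q x (v.1 i) = 0 with hP
    have hspan : ∀ x ∈ Submodule.span F (Set.range v.1), P x := by
      intro x hx
      have h2 : ∀ i, Cfsg.hermForm n F q x (v.1 i) = 0 := by
        intro i
        induction hx using Submodule.span_induction with
        | mem a ha => obtain ⟨j, rfl⟩ := ha; exact v.2.2 j i
        | zero => exact (uForm hF n).zero_left _
        | add a b _ _ h1 h2 => rw [herm_add_left, h1, h2, add_zero]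
        | smul r a _ h1 => rw [herm_smul_left, h1, mul_zero]
      refine ⟨?_, h2⟩
      suffices ∀ y ∈ Submodule.span F (Set.range v.1), Cfsg.hermForm n F q x y = 0 from this x hx
      intro y hy
      induction hy using Submodule.span_induction with
      | mem a ha => obtain ⟨j, rfl⟩ := ha; exact h2 j
      | zero => exact (uForm hF n).zero_right _
      | add a b _ _ h1 h2 => rw [herm_add_right hF, h1, h2, add_zero]
      | smul r a _ h1 => rw [herm_smul_right hF, h1, mul_zero]
    have h1 : Nat.card {x // P x} =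
        Nat.card (T v) + Nat.card (Submodule.span F (Set.range v.1)) := by
      rw [← Nat.card_sum]
      refine Nat.card_congr ?_
      exact
        { toFun := fun x => if h : x.1 ∈ Submodule.span F (Set.range v.1)
            then Sum.inr ⟨x.1, h⟩ else Sum.inl ⟨x.1, x.2, h⟩
          invFun := Sum.elim (fun x => ⟨x.1, x.2.1⟩) (fun x => ⟨x.1, hspan x.1 x.2⟩)
          left_inv := fun x => by
            by_cases h : x.1 ∈ Submodule.span F (Set.range v.1) <;> simp [h]
          right_inv := fun x => by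
            rcases x with x | x
            · simp [x.2.2]
            · simp [x.2] }
    have h2 : Nat.card (Submodule.span F (Set.range v.1)) = (q ^ 2) ^ k := by
      rw [Module.natCard_eq_pow_finrank (K := F), finrank_span_eq_card v.2.1, hF, Fintype.card_fin]
    rw [hP, card_perp_tuple hF hn v, h2] at h1
    have h1' := congrArg (Nat.cast : ℕ → ℤ) h1
    push_cast at h1'
    linear_combination -h1'
  rw [numTuple, Nat.card_congr e, Nat.card_sigma]
  push_cast
  rw [Finset.sum_congr rfl fun v _ => hT v, Finset.sum_const, Finset.card_univ, numTuple,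
    Nat.card_eq_fintype_card, nsmul_eq_mul]

/-- The order of GU. -/
def guz (q : ℤ) (m : ℕ) : ℤ :=
  q ^ (m * (m - 1) / 2) * ∏ i ∈ Finset.range m, (q ^ (i + 1) - (-1) ^ (i + 1))

theorem guz_nat (hq : 1 ≤ q) (m : ℕ) :
    guz q m = ((q ^ (m * (m - 1) / 2) *
      ∏ i ∈ Finset.range m, (if Even i then q ^ (i + 1) + 1 else q ^ (i + 1) - 1) : ℕ) : ℤ) := by
  rw [guz]
  push_cast
  congr 1
  refine Finset.prod_congr rfl fun i _ => ?_
  split_ifs with h
  · rw [pow_succ (-1 : ℤ), h.neg_one_pow]; push_cast; ring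
  · rw [pow_succ (-1 : ℤ), (Nat.not_even_iff_odd.mp h).neg_one_pow,
      Nat.cast_sub (Nat.one_le_pow _ _ hq)]
    push_cast; ring

include hF in
theorem guz_step (m : ℕ) :
    guz q (m + 2) = ((numLen F q (m + 2) 0 : ℤ) - 1) * (q : ℤ) ^ (2 * m + 1) * guz q m := by
  have hq := two_le_q hF
  have hz : (numLen F q (m + 2) 0 : ℤ) - 1 =
      ((q : ℤ) ^ (m + 1) - (-1) ^ (m + 1)) * ((q : ℤ) ^ (m + 2) - (-1) ^ (m + 2)) := by
    apply mul_left_cancel₀ (show (q : ℤ) ≠ 0 by exact_mod_cast (by omega : q ≠ 0))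
    rw [mul_sub, numLen_zero hF]
    have : ((-1 : ℤ) ^ m) * (-1) ^ m = 1 := by rw [← mul_pow]; simp
    linear_combination (q : ℤ) * this
  rw [hz, guz, guz, Finset.prod_range_succ, Finset.prod_range_succ, ← Finset.sum_range_id,
    ← Finset.sum_range_id, Finset.sum_range_succ, Finset.sum_range_succ]
  ring

include hF in
theorem numTuple_eq {n k : ℕ} (hk : 2 * k ≤ n) :
    (q : ℤ) ^ (k * (2 * n - 3 * k)) * guz q (n - 2 * k) * numTuple F q n k = guz q n := by
  induction k with
  | zero =>
    have : numTuple F q n 0 = 1 := Nat.card_eq_one_iff_exists.mpr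
      ⟨⟨Fin.elim0, linearIndependent_empty_type, fun i => i.elim0⟩,
        fun w => Subtype.ext (funext fun i => i.elim0)⟩
    simp [this]
  | succ k ih =>
    obtain ⟨m, rfl⟩ : ∃ m, n = k + k + (m + 2) := ⟨n - 2 * k - 2, by omega⟩
    have h1 := ih (by omega)
    rw [show k + k + (m + 2) - 2 * k = m + 2 by omega] at h1
    rw [numTuple_succ hF rfl, show k + k + (m + 2) - 2 * (k + 1) = m by omega, ← h1, guz_step hF m,
      show k * (2 * (k + k + (m + 2)) - 3 * k) = k * (k + 2 * m + 4) by congr 1; omega,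
      show (k + 1) * (2 * (k + k + (m + 2)) - 3 * (k + 1)) = (k + 1) * (k + 2 * m + 1) by
        congr 1; omega]
    ring

/-- Totally isotropic `k`-subspaces. -/
abbrev IsoSub (q n k : ℕ) (F : Type*) [Field F] : Type _ :=
  {W : Submodule F (Fin n → F) // Module.finrank F W = k ∧
    ∀ u ∈ W, ∀ v ∈ W, Cfsg.hermForm n F q u v = 0}

include hF in
theorem card_bases {n k : ℕ} (W : IsoSub q n k F) :
    Nat.card {v : IsoTuple q n k F // ∀ i, v.1 i ∈ W.1} =
      ∏ i : Fin k, ((q ^ 2) ^ k - (q ^ 2) ^ (i : ℕ)) := by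
  haveI := Fintype.ofFinite F
  haveI := Fintype.ofFinite W.1
  have e : {v : IsoTuple q n k F // ∀ i, v.1 i ∈ W.1} ≃
      {s : Fin k → W.1 // LinearIndependent F s} :=
    { toFun := fun v => ⟨fun i => ⟨v.1.1 i, v.2 i⟩, LinearIndependent.of_comp W.1.subtype v.1.2.1⟩
      invFun := fun s => ⟨⟨fun i => (s.1 i : Fin n → F),
        s.2.map' W.1.subtype (Submodule.ker_subtype _), fun i j => W.2.2 _ (s.1 i).2 _ (s.1 j).2⟩,
        fun i => (s.1 i).2⟩
      left_inv := fun v => rfl
      right_inv := fun s => rfl }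
  rw [Nat.card_congr e, card_linearIndependent (by rw [W.2.1]), W.2.1,
    ← Nat.card_eq_fintype_card (α := F), hF]

include hF in
theorem card_isoSub {n k : ℕ} :
    Nat.card (IsoSub q n k F) * ∏ i : Fin k, ((q ^ 2) ^ k - (q ^ 2) ^ (i : ℕ)) =
      numTuple F q n k := by
  classical
  haveI := Fintype.ofFinite F
  let sp : IsoTuple q n k F → IsoSub q n k F := fun v =>
    ⟨Submodule.span F (Set.range v.1), by rw [finrank_span_eq_card v.2.1, Fintype.card_fin], by
      intro u hu w hw
      induction hu using Submodule.span_induction with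
      | mem a ha =>
        obtain ⟨i, rfl⟩ := ha
        induction hw using Submodule.span_induction with
        | mem b hb => obtain ⟨j, rfl⟩ := hb; exact v.2.2 i j
        | zero => exact (uForm hF n).zero_right _
        | add a b _ _ h1 h2 => rw [herm_add_right hF, h1, h2, add_zero]
        | smul r a _ h1 => rw [herm_smul_right hF, h1, mul_zero]
      | zero => exact (uForm hF n).zero_left _
      | add a b _ _ h1 h2 => rw [herm_add_left, h1, h2, add_zero]
      | smul r a _ h1 => rw [herm_smul_left, h1, mul_zero]⟩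
  have hfib : ∀ W, Nat.card {v // sp v = W} =
      ∏ i : Fin k, ((q ^ 2) ^ k - (q ^ 2) ^ (i : ℕ)) := by
    intro W
    rw [← card_bases hF W]
    refine Nat.card_congr (Equiv.subtypeEquivRight fun v => ?_)
    constructor
    · rintro rfl i; exact Submodule.subset_span ⟨i, rfl⟩
    · intro h
      refine Subtype.ext (Submodule.eq_of_le_of_finrank_eq
        (Submodule.span_le.mpr (by rintro _ ⟨i, rfl⟩; exact h i)) ?_)
      rw [finrank_span_eq_card v.2.1, Fintype.card_fin, W.2.1]
  rw [numTuple, ← Nat.card_congr (Equiv.sigmaFiberEquiv sp), Nat.card_sigma,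
    Finset.sum_congr rfl fun W _ => hfib W, Finset.sum_const, Finset.card_univ, smul_eq_mul,
    Nat.card_eq_fintype_card]

/-- The setwise stabiliser in GU. -/
abbrev guStab {n : ℕ} (q : ℕ) (W : Submodule F (Fin n → F)) : Subgroup (Cfsg.GU n F q) :=
  (Cfsg.stabilizing (Cfsg.glToMat (Fin n) F) (W : Set (Fin n → F))).subgroupOf (Cfsg.GU n F q)

theorem mem_guStab_of_mapsTo {n : ℕ} {W : Submodule F (Fin n → F)} {g : Cfsg.GU n F q}
    (h : ∀ v ∈ W, (g.1 : Matrix (Fin n) (Fin n) F) *ᵥ v ∈ W) : g ∈ guStab q W := by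
  have hinj : Function.Injective (fun v : W => (⟨_, h v.1 v.2⟩ : W)) := fun a b e => by
    refine Subtype.ext ?_
    have h1 := congrArg (fun z => ((g.1⁻¹).1 : Matrix (Fin n) (Fin n) F) *ᵥ z)
      (congrArg Subtype.val e)
    simpa [Matrix.mulVec_mulVec] using h1
  intro v
  refine ⟨h v, fun hv => ?_⟩
  obtain ⟨w, hw⟩ := Finite.surjective_of_injective hinj
    ⟨(g.1 : Matrix (Fin n) (Fin n) F) *ᵥ v, hv⟩
  have h1 := congrArg (fun z => ((g.1⁻¹).1 : Matrix (Fin n) (Fin n) F) *ᵥ z)
    (congrArg Subtype.val hw)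
  simp [Matrix.mulVec_mulVec] at h1
  exact h1 ▸ w.2

include hF in
theorem card_guStab_mul {n k : ℕ} (W : IsoSub q n k F) :
    Nat.card (guStab q W.1) * numTuple F q n k =
      Nat.card (Cfsg.GU n F q) * ∏ i : Fin k, ((q ^ 2) ^ k - (q ^ 2) ^ (i : ℕ)) := by
  classical
  haveI := Fintype.ofFinite F
  let b := Module.finBasisOfFinrankEq F W.1 W.2.1
  let t0 : IsoTuple q n k F := ⟨fun i => (b i : Fin n → F),
    b.linearIndependent.map' W.1.subtype (Submodule.ker_subtype _),
    fun i j => W.2.2 _ (b i).2 _ (b j).2⟩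
  have ht0 : Submodule.span F (Set.range t0.1) = W.1 := by
    refine Submodule.eq_of_le_of_finrank_eq
      (Submodule.span_le.mpr (by rintro _ ⟨i, rfl⟩; exact (b i).2)) ?_
    rw [finrank_span_eq_card t0.2.1, Fintype.card_fin, W.2.1]
  let M : Cfsg.GU n F q → Matrix (Fin n) (Fin n) F := fun g => g.1.1
  let act : Cfsg.GU n F q → IsoTuple q n k F := fun g =>
    ⟨fun i => M g *ᵥ t0.1 i, t0.2.1.map' (Matrix.toLin' (M g)) (LinearMap.ker_eq_bot.mpr fun x y e => by
        have h1 := congrArg (fun z => ((g.1⁻¹).1 : Matrix (Fin n) (Fin n) F) *ᵥ z) e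
        simpa [M, Matrix.mulVec_mulVec] using h1),
      fun i j => (mem_GU_iff.mp g.2 _ _).trans (t0.2.2 i j)⟩
  let K : Subgroup (Cfsg.GU n F q) :=
    { carrier := {g | ∀ i, M g *ᵥ t0.1 i = t0.1 i}
      one_mem' := fun i => Matrix.one_mulVec _
      mul_mem' := fun {g h} hg hh i => by
        change (g.1.1 * h.1.1) *ᵥ t0.1 i = _
        rw [← Matrix.mulVec_mulVec, hh i, hg i]
      inv_mem' := fun {g} hg i => by
        change (g.1⁻¹).1 *ᵥ t0.1 i = _
        conv_lhs => rw [← hg i]
        simp [M, Matrix.mulVec_mulVec] }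
  have hrel : ∀ g g', g⁻¹ * g' ∈ K ↔ act g = act g' := by
    intro g g'
    constructor
    · intro h
      refine Subtype.ext (funext fun i => ?_)
      change M g *ᵥ t0.1 i = M g' *ᵥ t0.1 i
      conv_lhs => rw [← h i]
      simp [M, Matrix.mulVec_mulVec]
    · intro h i
      have h1 : M g *ᵥ t0.1 i = M g' *ᵥ t0.1 i := congrFun (congrArg Subtype.val h) i
      change ((g.1⁻¹).1 * g'.1.1) *ᵥ t0.1 i = _
      rw [← Matrix.mulVec_mulVec, ← h1]
      simp [M, Matrix.mulVec_mulVec]
  have h1 : Nat.card (Cfsg.GU n F q) = numTuple F q n k * Nat.card K :=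
    card_eq_card_mul_card act (fun t => by
      obtain ⟨g, hg⟩ := exists_GU_family hF t0.1 t.1 t0.2.1 t.2.1
        (fun i j => by rw [t0.2.2, t.2.2])
      exact ⟨g, Subtype.ext (funext hg)⟩) K hrel
  have hKle : K ≤ guStab q W.1 := by
    intro g hg
    refine mem_guStab_of_mapsTo fun v hv => ?_
    have hle : W.1 ≤ W.1.comap (Matrix.toLin' (M g)) := by
      conv_lhs => rw [← ht0]
      rw [Submodule.span_le]
      rintro _ ⟨i, rfl⟩
      change M g *ᵥ t0.1 i ∈ W.1
      rw [hg i]; exact (b i).2
    exact hle hv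
  let act' : guStab q W.1 → {v : IsoTuple q n k F // ∀ i, v.1 i ∈ W.1} := fun g =>
    ⟨act g.1, fun i => (g.2 (t0.1 i)).mp (b i).2⟩
  have h2 : Nat.card (guStab q W.1) =
      Nat.card {v : IsoTuple q n k F // ∀ i, v.1 i ∈ W.1} * Nat.card K := by
    rw [card_eq_card_mul_card act' (fun t => by
      obtain ⟨g, hg⟩ := exists_GU_family hF t0.1 t.1.1 t0.2.1 t.1.2.1
        (fun i j => by rw [t0.2.2, t.1.2.2])
      refine ⟨⟨g, mem_guStab_of_mapsTo fun v hv => ?_⟩, Subtype.ext (Subtype.ext (funext hg))⟩
      have hle : W.1 ≤ W.1.comap (Matrix.toLin' g.1.1) := by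
        conv_lhs => rw [← ht0]
        rw [Submodule.span_le]
        rintro _ ⟨i, rfl⟩
        simpa [hg i] using t.2 i
      exact hle hv) (K.subgroupOf _) (fun g g' => by
        rw [Subgroup.mem_subgroupOf]
        exact (hrel g.1 g'.1).trans (Subtype.ext_iff (a1 := act' g) (a2 := act' g')).symm),
      Nat.card_congr (Subgroup.subgroupOfEquivOfLe hKle).toEquiv]
  rw [h1, h2, card_bases hF W]
  ring

include hF in
theorem exists_stab_det {n k : ℕ} (hn : 1 ≤ n) (W : IsoSub q n k F) {u : Fˣ}
    (hu : u ^ (q + 1) = 1) : ∃ g ∈ guStab q W.1, detGU n g = u := by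
  obtain ⟨m, rfl⟩ : ∃ m, n = m + 1 := Nat.exists_eq_succ_of_ne_zero (by omega)
  set g₀ : Cfsg.GU (m + 1) F q := diagFirst u hu
  have hg₀ : detGU (m + 1) g₀ = u := det_diagFirst u hu
  rcases eq_or_ne W.1 ⊥ with h | h
  · exact ⟨g₀, mem_guStab_of_mapsTo fun v hv => by
      rw [h] at hv ⊢; rw [(Submodule.mem_bot F).mp hv, Matrix.mulVec_zero]; exact Submodule.zero_mem _,
      hg₀⟩
  obtain ⟨p, hp, hp0⟩ := Submodule.exists_mem_ne_zero_of_ne_bot h
  have hpp := W.2.2 p hp p hp
  obtain ⟨p', -, hpp', -, hp'⟩ := exists_partner hF (H := ⊥) (x := p) (by simpa using hp0) hpp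
    (fun w hw => by rw [(Submodule.mem_bot F).mp hw]; simp [Cfsg.hermForm])
  obtain ⟨s, a, b, -, -, hsp, -, hsx⟩ := exists_SU_adjust hF g₀ hpp hp' hpp'
  set d : Cfsg.GU (m + 1) F q :=
    g₀⁻¹ * ⟨Matrix.SpecialLinearGroup.toGL s.1, s.2⟩ with hd
  have hdet : detGU (m + 1) d = u⁻¹ := by
    rw [hd, map_mul, map_inv, hg₀,
      show detGU (m + 1) ⟨Matrix.SpecialLinearGroup.toGL s.1, s.2⟩ = 1 from Units.ext s.1.2, mul_one]
  refine ⟨d⁻¹, inv_mem (mem_guStab_of_mapsTo fun v hv => ?_), by rw [map_inv, hdet, inv_inv]⟩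
  set c := Cfsg.hermForm (m + 1) F q v p'
  have hv0 : Cfsg.hermForm (m + 1) F q v p = 0 := W.2.2 v hv p hp
  have hx := hsx (v - c • p) (by rw [herm_sub_left hF, herm_smul_left, hv0, hpp, mul_zero, sub_zero])
    (by rw [herm_sub_left hF, herm_smul_left, hpp', mul_one, sub_self])
  have key : (d.1 : Matrix (Fin (m + 1)) (Fin (m + 1)) F) *ᵥ v = (v - c • p) + (c * a) • p := by
    change ((g₀.1⁻¹).1 * suMat s) *ᵥ v = _
    have hs : suMat s *ᵥ v = g₀.1.1 *ᵥ ((v - c • p) + (c * a) • p) := by
      conv_lhs => rw [show v = (v - c • p) + c • p by abel]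
      rw [Matrix.mulVec_add, Matrix.mulVec_smul, hsp, hx, Matrix.mulVec_add, Matrix.mulVec_smul,
        smul_smul]
    rw [← Matrix.mulVec_mulVec, hs]
    simp [Matrix.mulVec_mulVec]
  rw [key]
  exact W.1.add_mem (W.1.sub_mem hv (W.1.smul_mem _ hp)) (W.1.smul_mem _ hp)

include hF in
theorem card_stab_SU {n k : ℕ} (hn : 1 ≤ n) (hk : 2 * k ≤ n) (W : IsoSub q n k F) :
    (q + 1) * Nat.card ↥((Cfsg.stabilizing (Cfsg.slToMat n F)
      (W.1 : Set (Fin n → F))).subgroupOf (Cfsg.SU n F q)) =
      q ^ (k * (2 * n - 3 * k)) * (∏ i : Fin k, ((q ^ 2) ^ k - (q ^ 2) ^ (i : ℕ))) *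
        (q ^ ((n - 2 * k) * ((n - 2 * k) - 1) / 2) *
          ∏ i ∈ Finset.range (n - 2 * k), (if Even i then q ^ (i + 1) + 1 else q ^ (i + 1) - 1)) := by
  have hq := two_le_q hF
  let δ : guStab q W.1 →* Fˣ := (detGU n).comp (Subgroup.subtype _)
  have hrange : δ.range = (powMonoidHom (q + 1) : Fˣ →* Fˣ).ker := by
    ext u
    constructor
    · rintro ⟨g, rfl⟩; exact det_GU hF g.1.2
    · intro hu
      obtain ⟨g, hg, hgd⟩ := exists_stab_det hF hn W hu
      exact ⟨⟨g, hg⟩, hgd⟩
  let φ : ↥((Cfsg.stabilizing (Cfsg.slToMat n F)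
      (W.1 : Set (Fin n → F))).subgroupOf (Cfsg.SU n F q)) ≃ δ.ker :=
    { toFun := fun g => ⟨⟨⟨Matrix.SpecialLinearGroup.toGL g.1.1, g.1.2⟩, g.2⟩, Units.ext g.1.1.2⟩
      invFun := fun g => ⟨⟨⟨(g.1.1.1 : Matrix (Fin n) (Fin n) F), by
        have := congrArg Units.val (MonoidHom.mem_ker.mp g.2)
        simpa [δ, detGU] using this⟩, g.1.1.2⟩, g.1.2⟩
      left_inv := fun g => rfl
      right_inv := fun g => Subtype.ext (Subtype.ext (Subtype.ext (Units.ext rfl))) }
  have h1 : Nat.card (guStab q W.1) = Nat.card δ.ker * (q + 1) := by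
    rw [← Subgroup.card_mul_index δ.ker, Subgroup.index_ker, hrange, IsCyclic.card_powMonoidHom_ker,
      card_units_eq hF, Nat.gcd_mul_right_left]
  rw [Nat.card_congr φ, mul_comm (q + 1), ← h1]
  have hG : Nat.card (Cfsg.GU n F q) ≠ 0 := Nat.card_pos.ne'
  have h2 := card_guStab_mul hF W
  have h4 : q ^ (k * (2 * n - 3 * k)) * (q ^ ((n - 2 * k) * ((n - 2 * k) - 1) / 2) *
      ∏ i ∈ Finset.range (n - 2 * k), (if Even i then q ^ (i + 1) + 1 else q ^ (i + 1) - 1)) *
      numTuple F q n k = Nat.card (Cfsg.GU n F q) := by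
    have h3 := numTuple_eq (F := F) hF hk
    rw [guz_nat (by omega), guz_nat (by omega), ← card_GU hF n] at h3
    exact_mod_cast h3
  have hN : numTuple F q n k ≠ 0 := fun h => hG (by rw [← h4, h, mul_zero])
  apply mul_right_cancel₀ hN
  rw [h2, ← h4]
  ring

end CfsgLib.Unitary
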