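import Cfsg.Agent.Unitary.Generated
import Mathlib.GroupTheory.Abelianization.Defs

/-!
Transvections are commutators; perfectness.
-/

set_option autoImplicit false
set_option linter.style.haveILetI false

namespace CfsgLib.Unitary

open Matrix CfsgLib.Forms
open scoped commutatorElement

variable {F : Type*} [Field F] [Finite F] {q : ℕ} (hF : Nat.card F = q ^ 2)

/-- The conjugate vector. -/
def barVec (q : ℕ) {n : ℕ} (v : Fin n → F) : Fin n → F := fun j => v j ^ q

omit [Finite F] in
theorem barVec_dot {n : ℕ} (v x : Fin n → F) :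
    barVec q v ⬝ᵥ x = Cfsg.hermForm n F q x v := by
  simp [barVec, dotProduct, Cfsg.hermForm, mul_comm]

/-- The unipotent matrix attached to `v`, `a` and `s`. -/
def eichMat (q : ℕ) {n : ℕ} (v a : Fin n → F) (s : F) : Matrix (Fin n) (Fin n) F :=
  (1 + Matrix.vecMulVec a (barVec q v)) *
    (1 + Matrix.vecMulVec v (s • barVec q v - barVec q a))

theorem eichMat_mulVec {n : ℕ} {v : Fin n → F} (hv : Cfsg.hermForm n F q v v = 0) (a : Fin n → F)
    (s : F) (x : Fin n → F) :
    eichMat q v a s *ᵥ x = x + Cfsg.hermForm n F q x v • a +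
      (s * Cfsg.hermForm n F q x v - Cfsg.hermForm n F q x a) • v := by
  simp only [eichMat, ← Matrix.mulVec_mulVec, Matrix.add_mulVec, Matrix.one_mulVec,
    Matrix.vecMulVec_mulVec, op_smul_eq_smul, sub_dotProduct, smul_dotProduct, smul_eq_mul,
    barVec_dot, herm_add_left, herm_smul_left, hv, mul_zero, add_zero]
  abel

theorem det_eichMat {n : ℕ} {v a : Fin n → F} (hv : Cfsg.hermForm n F q v v = 0)
    (hav : Cfsg.hermForm n F q a v = 0) (hF : Nat.card F = q ^ 2) (s : F) :
    (eichMat q v a s).det = 1 := by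
  have hva : Cfsg.hermForm n F q v a = 0 := by
    rw [herm_swap hF a v, hav, zero_pow (by have := two_le_q hF; omega)]
  rw [eichMat, Matrix.det_mul, Matrix.vecMulVec_eq (Fin 1), Matrix.vecMulVec_eq (Fin 1),
    Matrix.det_one_add_replicateCol_mul_replicateRow, Matrix.det_one_add_replicateCol_mul_replicateRow,
    barVec_dot, hav, sub_dotProduct, smul_dotProduct, barVec_dot, barVec_dot, hv, hva]
  simp

include hF in
theorem eichMat_preserves {n : ℕ} {v a : Fin n → F} (hv : Cfsg.hermForm n F q v v = 0)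
    (hav : Cfsg.hermForm n F q a v = 0) {s : F} (hs : s + s ^ q + Cfsg.hermForm n F q a a = 0)
    (x y : Fin n → F) :
    Cfsg.hermForm n F q (eichMat q v a s *ᵥ x) (eichMat q v a s *ᵥ y) =
      Cfsg.hermForm n F q x y := by
  have hva : Cfsg.hermForm n F q v a = 0 := by
    rw [herm_swap hF a v, hav, zero_pow (by have := two_le_q hF; omega)]
  rw [eichMat_mulVec hv, eichMat_mulVec hv]
  simp only [herm_add_left, herm_add_right hF, herm_smul_left, herm_smul_right hF, hv, hav, hva]
  rw [← frobQ_apply hF (s * Cfsg.hermForm n F q y v - Cfsg.hermForm n F q y a), map_sub, map_mul]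
  simp only [frobQ_apply, ← herm_swap hF]
  linear_combination
    (Cfsg.hermForm n F q x v * Cfsg.hermForm n F q v y) * hs

/-- The unipotent element of SU. -/
def eich {n : ℕ} (hF : Nat.card F = q ^ 2) (v a : Fin n → F) (s : F)
    (hv : Cfsg.hermForm n F q v v = 0) (hav : Cfsg.hermForm n F q a v = 0)
    (hs : s + s ^ q + Cfsg.hermForm n F q a a = 0) : Cfsg.SU n F q :=
  ⟨⟨eichMat q v a s, det_eichMat hv hav hF s⟩, eichMat_preserves hF hv hav hs⟩

theorem suMat_eich {n : ℕ} (hF : Nat.card F = q ^ 2) (v a : Fin n → F) (s : F)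
    (hv : Cfsg.hermForm n F q v v = 0) (hav : Cfsg.hermForm n F q a v = 0)
    (hs : s + s ^ q + Cfsg.hermForm n F q a a = 0) (x : Fin n → F) :
    suMat (eich hF v a s hv hav hs) *ᵥ x = x + Cfsg.hermForm n F q x v • a +
      (s * Cfsg.hermForm n F q x v - Cfsg.hermForm n F q x a) • v :=
  eichMat_mulVec hv a s x

include hF in
theorem exists_root {μ : F} (hμ : μ ^ q = μ) : ∃ s : F, s + s ^ q + μ = 0 := by
  obtain ⟨s, hs⟩ := exists_trace_eq hF (μ := -μ) (by
    rw [← frobQ_apply hF, map_neg, frobQ_apply, hμ])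
  exact ⟨s, by rw [hs, neg_add_cancel]⟩

include hF in
/-- Every transvection is a commutator, `n ≥ 3`. -/
theorem mem_commutatorSet_of_tv {n : ℕ} (hn : 3 ≤ n) {A : Cfsg.SU n F q} {v : Fin n → F} {c : F}
    (hv0 : Cfsg.hermForm n F q v v = 0) (hA : suMat A = Cfsg.unitaryTransvection n q v c) :
    A ∈ commutatorSet (Cfsg.SU n F q) := by
  have hq := two_le_q hF
  rcases eq_or_ne v 0 with rfl | hv
  · refine ⟨1, 1, ?_⟩
    rw [commutatorElement_self]
    refine su_ext fun x => ?_
    rw [suMat_one, hA, utv_mulVec, Matrix.one_mulVec, smul_zero, add_zero]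
  have hc : c + c ^ q = 0 := (utv_preserves_iff hF hv hv0 c).mp fun x y => by
    rw [← hA]; exact su_preserves A x y
  -- two vectors orthogonal to `v` with form value 1
  obtain ⟨a, hav, hnot⟩ : ∃ a : Fin n → F, Cfsg.hermForm n F q a v = 0 ∧
      a ∉ Submodule.span F {v} := by
    by_contra h
    push Not at h
    let φ : (Fin n → F) →ₗ[F] F :=
      { toFun := fun x => Cfsg.hermForm n F q x v
        map_add' := fun x y => herm_add_left n x y v
        map_smul' := fun r x => herm_smul_left n r x v }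
    have hle : φ.ker ≤ Submodule.span F {v} := fun x hx => h x hx
    have h1 := φ.finrank_range_add_finrank_ker
    have h2 := Submodule.finrank_mono hle
    rw [finrank_span_singleton hv] at h2
    have h3 : Module.finrank F φ.range ≤ 1 := by
      simpa using Submodule.finrank_le φ.range
    rw [Module.finrank_fin_fun] at h1
    omega
  obtain ⟨b, hb, hab⟩ := (uForm hF n).exists_perp_one (uForm_nondeg hF n) hnot
  simp only [uForm_h] at hb hab
  have hvb := hb v (Submodule.mem_span_singleton_self v)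
  obtain ⟨t, ht⟩ := exists_trace_eq hF (μ := (1 : F)) (one_pow q)
  set a' := (t * c) • a with ha'
  have ha'v : Cfsg.hermForm n F q a' v = 0 := by rw [ha', herm_smul_left, hav, mul_zero]
  have hbv : Cfsg.hermForm n F q b v = 0 := by rw [herm_swap hF v b, hvb, zero_pow (by omega)]
  have hva' : Cfsg.hermForm n F q v a' = 0 := by rw [herm_swap hF a' v, ha'v, zero_pow (by omega)]
  have h1 : Cfsg.hermForm n F q a' b = t * c := by rw [ha', herm_smul_left, hab, mul_one]
  have h2 : Cfsg.hermForm n F q b a' = (t * c) ^ q := by rw [herm_swap hF a' b, h1]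
  obtain ⟨s, hs⟩ := exists_root hF (herm_self_fixed hF a')
  obtain ⟨r, hr⟩ := exists_root hF (herm_self_fixed hF b)
  refine ⟨eich hF v a' s hv0 ha'v hs, eich hF v b r hv0 hbv hr, ?_⟩
  set B := eich hF v a' s hv0 ha'v hs
  set C := eich hF v b r hv0 hbv hr
  suffices B * C = A * (C * B) by
    rw [commutatorElement_def, this]; group
  refine su_ext fun x => ?_
  simp only [suMat_mul, ← Matrix.mulVec_mulVec, B, C, suMat_eich, hA, utv_mulVec, herm_add_left,
    herm_smul_left, hv0, ha'v, hbv, hvb, hva', h1, h2, mul_zero, add_zero]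
  match_scalars <;> try ring
  rw [eq_neg_of_add_eq_zero_right hc]
  linear_combination Cfsg.hermForm n F q x v * c * ht

include hF in
theorem commutator_SU_eq_top {n : ℕ} (hn : 3 ≤ n) (h32 : ¬ (n = 3 ∧ q = 2)) :
    commutator (Cfsg.SU n F q) = ⊤ := by
  rw [eq_top_iff, ← tvGroup_eq_top hF (by omega) h32, commutator_eq_closure]
  refine Subgroup.closure_mono ?_
  rintro A ⟨v, c, hv, hA⟩
  exact mem_commutatorSet_of_tv hF hn hv hA

end CfsgLib.Unitary
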