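import Cfsg.Agent.Unitary.Simple
import Cfsg.Agent.Classical.RankOne

/-!
Transvections of `SU` form one conjugacy class.
-/

set_option autoImplicit false
set_option linter.style.haveILetI false

namespace CfsgLib.Unitary

open Matrix CfsgLib.Forms

variable {F : Type*} [Field F] [Finite F] {q n : ℕ} (hF : Nat.card F = q ^ 2)
include hF

/-- A transvection of SU is a unitary transvection. -/
theorem exists_utv_of_isTransvection {g : Cfsg.SU n F q} (hg : Cfsg.IsTransvection (suMat g)) :
    ∃ (v : Fin n → F) (c : F), v ≠ 0 ∧ c ≠ 0 ∧ Cfsg.hermForm n F q v v = 0 ∧ c + c ^ q = 0 ∧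
      suMat g = Cfsg.unitaryTransvection n q v c := by
  obtain ⟨v, lam, hv, ⟨x₀, hx₀⟩, hlam⟩ := CfsgLib.Linear.RankOne.exists_vec hg.1
  have hlv : lam v = 0 := by
    have h := congrArg (fun M : Matrix (Fin n) (Fin n) F => M *ᵥ x₀) hg.2
    simp only [← Matrix.mulVec_mulVec, Matrix.sub_mulVec, Matrix.one_mulVec, Matrix.zero_mulVec, hlam,
      add_sub_cancel_left] at h
    rw [map_smul, smul_eq_mul, smul_eq_zero] at h
    exact (mul_eq_zero.1 (h.resolve_right hv)).resolve_left hx₀
  have hpres : ∀ x y, lam y ^ q * Cfsg.hermForm n F q x v + lam x * Cfsg.hermForm n F q v y +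
      lam x * (lam y ^ q * Cfsg.hermForm n F q v v) = 0 := by
    intro x y
    have h := su_preserves g x y
    simp only [hlam, herm_add_left, herm_add_right hF, herm_smul_left, herm_smul_right hF] at h
    linear_combination h
  have hvv : Cfsg.hermForm n F q v v = 0 := by
    have h := hpres x₀ v
    rw [hlv, zero_pow (by have := two_le_q hF; omega), zero_mul, zero_mul, mul_zero, zero_add,
      add_zero] at h
    exact (mul_eq_zero.1 h).resolve_left hx₀
  obtain ⟨y, -, hy, -, -⟩ := exists_partner hF (H := ⊥) (x := v) (by simpa using hv) hvv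
    (fun w hw => by rw [(Submodule.mem_bot F).mp hw]; simp [Cfsg.hermForm])
  set c : F := -(lam y ^ q) with hc
  have hM : suMat g = Cfsg.unitaryTransvection n q v c := by
    refine Matrix.ext_iff_smul.mpr fun x => ?_
    rw [Matrix.smul_eq_mulVec, Matrix.smul_eq_mulVec, hlam, utv_mulVec]
    congr 2
    have h := hpres x y
    rw [hvv, hy] at h
    rw [hc]
    linear_combination h
  refine ⟨v, c, hv, fun e => hx₀ ?_, hvv, ?_, hM⟩
  · have h := congrArg (fun M => M *ᵥ x₀) hM
    simp only [hlam, utv_mulVec, e, zero_mul, zero_smul, add_zero, add_eq_left, smul_eq_zero] at h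
    exact h.resolve_right hv
  · refine (utv_preserves_iff hF hv hvv c).1 fun x y => ?_
    rw [← hM]
    exact su_preserves g x y

/-- SU is transitive on non-zero isotropic vectors for `n ≥ 3`. -/
theorem exists_SU_vec (hn : 3 ≤ n) {u v : Fin n → F} (hu : u ≠ 0) (hv : v ≠ 0)
    (hu0 : Cfsg.hermForm n F q u u = 0) (hv0 : Cfsg.hermForm n F q v v = 0) :
    ∃ s : Cfsg.SU n F q, suMat s *ᵥ u = v := by
  obtain ⟨g, hg⟩ := exists_GU_family hF (fun _ : Fin 1 => u) (fun _ => v)
    (linearIndependent_unique_iff.mpr hu) (linearIndependent_unique_iff.mpr hv)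
    (fun _ _ => by rw [hu0, hv0])
  obtain ⟨v', -, hvv', hv'v, hv'⟩ := exists_partner hF (H := ⊥) (x := v) (by simpa using hv) hv0
    (fun w hw => by rw [(Submodule.mem_bot F).mp hw]; simp [Cfsg.hermForm])
  obtain ⟨z, hz, hzz⟩ := exists_aniso hF (m := 2) (n := n) (by omega) ![v, v'] (perpK q ![v, v'])
    (fun x hx => hx) (by
      refine Submodule.eq_top_iff'.2 fun x => Submodule.mem_sup.2
        ⟨x - Cfsg.hermForm n F q x v' • v - Cfsg.hermForm n F q x v • v', fun i => ?_,
          Cfsg.hermForm n F q x v' • v + Cfsg.hermForm n F q x v • v', ?_, by abel⟩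
      · fin_cases i <;>
          simp [herm_sub_left hF, herm_smul_left, hv0, hv', hvv', hv'v]
      · exact add_mem (Submodule.smul_mem _ _ (Submodule.subset_span ⟨0, rfl⟩))
          (Submodule.smul_mem _ _ (Submodule.subset_span ⟨1, rfl⟩)))
  have hq := two_le_q hF
  have hd := det_GU hF g.2
  set h := Cfsg.hermForm n F q z z with hh
  have hhq : h ^ q = h := herm_self_fixed hF z
  set lam : F := (g.1 : Matrix (Fin n) (Fin n) F).det⁻¹ with hlam
  have hlam1 : lam * lam ^ q = 1 := by
    have h1 : (g.1 : Matrix (Fin n) (Fin n) F).det ^ (q + 1) = 1 := by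
      have := congrArg Units.val hd
      simpa using this
    rw [← pow_succ', hlam, inv_pow, h1, inv_one]
  set a : F := (lam - 1) / h with ha
  have haq : a ^ q = (lam ^ q - 1) / h := by
    rw [ha, div_pow, hhq, ← frobQ_apply hF (lam - 1), map_sub, map_one, frobQ_apply]
  have hdet : (Cfsg.unitaryTransvection n q z a * (g.1 : Matrix (Fin n) (Fin n) F)).det = 1 := by
    have hne : (g.1 : Matrix (Fin n) (Fin n) F).det ≠ 0 := fun e => by
      rw [hlam, e, _root_.inv_zero, zero_mul] at hlam1
      exact zero_ne_one hlam1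
    rw [Matrix.det_mul, det_utv, ← hh, ha, div_mul_cancel₀ _ hzz, add_sub_cancel, hlam,
      inv_mul_cancel₀ hne]
  refine ⟨⟨⟨_, hdet⟩, fun x y => ?_⟩, ?_⟩
  · change Cfsg.hermForm n F q ((Cfsg.unitaryTransvection n q z a * (g.1 : Matrix (Fin n) (Fin n) F)) *ᵥ x)
      ((Cfsg.unitaryTransvection n q z a * (g.1 : Matrix (Fin n) (Fin n) F)) *ᵥ y) = _
    rw [← mulVec_mulVec, ← mulVec_mulVec, ← mem_GU_iff.mp g.2 x y]
    generalize (g.1 : Matrix (Fin n) (Fin n) F) *ᵥ x = x'
    generalize (g.1 : Matrix (Fin n) (Fin n) F) *ᵥ y = y'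
    rw [utv_mulVec, utv_mulVec]
    simp only [herm_add_left, herm_add_right hF, herm_smul_left, herm_smul_right hF, ← hh, mul_pow,
      ← herm_swap hF, haq]
    rw [ha]
    field_simp
    linear_combination (Cfsg.hermForm n F q x' z * Cfsg.hermForm n F q z y') * hlam1
  · change (Cfsg.unitaryTransvection n q z a * (g.1 : Matrix (Fin n) (Fin n) F)) *ᵥ u = v
    rw [← mulVec_mulVec, hg 0, utv_mulVec]
    have h0 : Cfsg.hermForm n F q v z = 0 := by
      rw [herm_swap hF z v, show Cfsg.hermForm n F q z v = 0 from hz 0, zero_pow (by omega)]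
    rw [h0, mul_zero, zero_smul, add_zero]

/-- All transvections of SU are conjugate for `n ≥ 3`. -/
theorem isConj_transvection (hn : 3 ≤ n) {s t : Cfsg.SU n F q}
    (hs : Cfsg.IsTransvection (suMat s)) (ht : Cfsg.IsTransvection (suMat t)) : IsConj s t := by
  obtain ⟨v, c, hv, hc, hvv, hc0, hsM⟩ := exists_utv_of_isTransvection hF hs
  obtain ⟨w, d, hw, hd, hww, hd0, htM⟩ := exists_utv_of_isTransvection hF ht
  have hcq : c ^ q = -c := by linear_combination hc0
  have hdq : d ^ q = -d := by linear_combination hd0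
  obtain ⟨a, ha⟩ := exists_norm_eq hF (μ := d / c) (by rw [div_pow, hcq, hdq, neg_div_neg_eq])
  have ha0 : a ≠ 0 := fun e => by
    rw [e, zero_pow (by omega)] at ha
    exact div_ne_zero hd hc ha.symm
  obtain ⟨g, hg⟩ := exists_SU_vec hF hn hv (smul_ne_zero ha0 hw) hvv
    (by rw [herm_smul_left, herm_smul_right hF, hww, mul_zero, mul_zero])
  refine isConj_iff.2 ⟨g, Subtype.ext (Subtype.ext ?_)⟩
  have h1 := utv_conj g hsM
  rw [hg, utv_smul hF, ha, mul_div_cancel₀ _ hc, ← htM] at h1
  exact h1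

end CfsgLib.Unitary
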