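import Cfsg.Agent.Unitary.Generated
import Cfsg.Agent.Unitary.Isotropic

set_option autoImplicit false
set_option linter.style.haveILetI false

/-!
Involutions of `SU₃(q)`, `q` odd, as non-degenerate points.
-/

namespace CfsgLib.Unitary.SUThree

open Matrix CfsgLib.Forms CfsgLib.Unitary

variable {F : Type*} [Field F] [Finite F] {q : ℕ} (hF : Nat.card F = q ^ 2)

local notation "hm" => Cfsg.hermForm 3 F q

/-- `x ↦ -x + 2 h(x,v) v`. -/
def reflMat (q : ℕ) (v : Fin 3 → F) : Matrix (Fin 3) (Fin 3) F :=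
  -(Cfsg.unitaryTransvection 3 q v (-2))

theorem reflMat_mulVec (v x : Fin 3 → F) : reflMat q v *ᵥ x = -x + (2 * hm x v) • v := by
  rw [reflMat, Matrix.neg_mulVec, utv_mulVec]; module

theorem det_reflMat {v : Fin 3 → F} (hv : hm v v = 1) : (reflMat q v).det = 1 := by
  rw [reflMat, Matrix.det_neg, det_utv, hv, Fintype.card_fin]; ring

include hF in
theorem q_ne_zero : q ≠ 0 := by have := two_le_q hF; omega

include hF in
theorem two_ne (hq : Odd q) : (2 : F) ≠ 0 := by
  obtain ⟨p, k, hcp, hp, hqk⟩ := exists_charP_pow hF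
  intro h
  have hdvd : p ∣ 2 := (CharP.cast_eq_zero_iff F p 2).1 (by exact_mod_cast h)
  have hp2 := (Nat.prime_dvd_prime_iff_eq hp Nat.prime_two).1 hdvd
  rw [hqk, hp2] at hq
  rcases k with _ | k
  · have := two_le_q hF; rw [hqk, pow_zero] at this; omega
  · rw [Nat.odd_pow_iff k.succ_ne_zero] at hq
    exact absurd hq (by decide)

include hF in
theorem two_pow : (2 : F) ^ q = 2 := by
  rw [← frobQ_apply hF, map_ofNat]

include hF in
theorem reflMat_preserves {v : Fin 3 → F} (hv : hm v v = 1) (x y : Fin 3 → F) :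
    hm (reflMat q v *ᵥ x) (reflMat q v *ᵥ y) = hm x y := by
  rw [reflMat_mulVec, reflMat_mulVec]
  have hn : ∀ z : Fin 3 → F, -z = (-1 : F) • z := fun z => (neg_one_smul F z).symm
  have h1 : (-1 : F) ^ q = -1 := by rw [← frobQ_apply hF, map_neg, map_one]
  rw [hn x, hn y]
  simp only [herm_add_left, herm_smul_left, herm_add_right hF, herm_smul_right hF, hv, mul_pow, two_pow hF, h1,
    ← herm_swap hF y v]
  ring

/-- The reflection as an element of `SU₃`; the identity if `h(v,v) ≠ 1`. -/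
noncomputable def refl (v : Fin 3 → F) : Cfsg.SU 3 F q :=
  haveI := Classical.dec (hm v v = 1)
  if hv : hm v v = 1 then ⟨⟨reflMat q v, det_reflMat hv⟩, fun x y => reflMat_preserves hF hv x y⟩ else 1

theorem suMat_refl {v : Fin 3 → F} (hv : hm v v = 1) : suMat (refl hF v) = reflMat q v := by
  rw [refl, dif_pos hv]

theorem refl_mulVec {v : Fin 3 → F} (hv : hm v v = 1) (x : Fin 3 → F) :
    suMat (refl hF v) *ᵥ x = -x + (2 * hm x v) • v := by
  rw [suMat_refl hF hv, reflMat_mulVec]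

theorem su_ext {g h : Cfsg.SU 3 F q} (e : ∀ x, suMat g *ᵥ x = suMat h *ᵥ x) : g = h :=
  Subtype.ext (Subtype.ext (Matrix.ext_iff_mulVec.2 e))

theorem su_herm (g : Cfsg.SU 3 F q) (x y : Fin 3 → F) : hm (suMat g *ᵥ x) (suMat g *ᵥ y) = hm x y := g.2 x y

theorem refl_sq {v : Fin 3 → F} (hv : hm v v = 1) : refl hF v * refl hF v = 1 := by
  refine su_ext fun x => ?_
  rw [suMat_mul, suMat_one, Matrix.one_mulVec, ← Matrix.mulVec_mulVec, refl_mulVec hF hv, refl_mulVec hF hv]
  rw [← neg_one_smul F x, herm_add_left, herm_smul_left, herm_smul_left, hv]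
  module

theorem refl_ne_one (hq : Odd q) {v : Fin 3 → F} (hv : hm v v = 1) : refl hF v ≠ 1 := by
  intro h
  obtain ⟨u, hu0, hu⟩ : ∃ u : Fin 3 → F, u ≠ 0 ∧ hm u v = 0 := by
    let φ : (Fin 3 → F) →ₗ[F] (Fin 1 → F) :=
      Matrix.mulVecLin (Matrix.of fun (_ : Fin 1) j => v j ^ q)
    have : LinearMap.ker φ ≠ ⊥ := LinearMap.ker_ne_bot_of_finrank_lt (by simp)
    obtain ⟨u, hu, hu0⟩ := (Submodule.ne_bot_iff _).1 this
    refine ⟨u, hu0, ?_⟩
    have := congrFun (LinearMap.mem_ker.1 hu) 0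
    simpa [φ, Matrix.mulVec, dotProduct, Cfsg.hermForm, mul_comm] using this
  have := congrArg (fun g => suMat g *ᵥ u) h
  simp only [refl_mulVec hF hv, hu, mul_zero, zero_smul, add_zero, suMat_one, Matrix.one_mulVec] at this
  refine hu0 ((smul_eq_zero.1 ?_).resolve_left (two_ne hF hq))
  rw [two_smul]
  exact (eq_neg_iff_add_eq_zero.1 this.symm)

theorem refl_smul {v : Fin 3 → F} (hv : hm v v = 1) {a : F} (ha : a ^ (q + 1) = 1) :
    refl hF (a • v) = refl hF v := by
  have hv' : hm (a • v) (a • v) = 1 := by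
    rw [herm_smul_left, herm_smul_right hF, hv, mul_one, ← pow_succ', ha]
  refine su_ext fun x => ?_
  rw [refl_mulVec hF hv', refl_mulVec hF hv, herm_smul_right hF, smul_smul]
  congr 2
  rw [pow_succ] at ha
  linear_combination (2 * hm x v) * ha

theorem refl_eq_iff (hq : Odd q) {v w : Fin 3 → F} (hv : hm v v = 1) (hw : hm w w = 1) :
    refl hF w = refl hF v ↔ ∃ a : F, a ^ (q + 1) = 1 ∧ w = a • v := by
  constructor
  · intro h
    have h1 := congrArg (fun g => suMat g *ᵥ w) h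
    simp only [refl_mulVec hF hv, refl_mulVec hF hw, hw, mul_one] at h1
    have h2 : w = hm w v • v := by
      have := add_left_cancel h1
      rw [mul_smul] at this
      exact smul_right_injective _ (two_ne hF hq) this
    refine ⟨hm w v, ?_, h2⟩
    generalize hm w v = a at h2
    rw [h2, herm_smul_left, herm_smul_right hF, hv, mul_one, ← pow_succ'] at hw
    exact hw
  · rintro ⟨a, ha, rfl⟩
    exact refl_smul hF hv ha

theorem conj_refl (g : Cfsg.SU 3 F q) {v : Fin 3 → F} (hv : hm v v = 1) :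
    g * refl hF v * g⁻¹ = refl hF (suMat g *ᵥ v) := by
  have hv' : hm (suMat g *ᵥ v) (suMat g *ᵥ v) = 1 := by rw [su_herm, hv]
  refine su_ext fun x => ?_
  have e : suMat g *ᵥ (suMat g⁻¹ *ᵥ x) = x := by
    rw [Matrix.mulVec_mulVec, ← suMat_mul, mul_inv_cancel, suMat_one, Matrix.one_mulVec]
  rw [suMat_mul, suMat_mul, ← Matrix.mulVec_mulVec, ← Matrix.mulVec_mulVec, refl_mulVec hF hv,
    refl_mulVec hF hv', Matrix.mulVec_add, Matrix.mulVec_neg, Matrix.mulVec_smul, e]
  conv_rhs => arg 2; arg 1; rw [← e, su_herm]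

theorem commute_iff (hq : Odd q) {v w : Fin 3 → F} (hv : hm v v = 1) (hw : hm w w = 1) :
    Commute (refl hF v) (refl hF w) ↔ hm w v = 0 ∨ refl hF w = refl hF v := by
  have h2 := two_ne hF hq
  have hswap : hm w v = 0 → hm v w = 0 := fun h => by
    rw [herm_swap hF w v, h]; exact zero_pow (q_ne_zero hF)
  constructor
  · intro h
    by_cases h0 : hm w v = 0
    · exact Or.inl h0
    right
    rw [refl_eq_iff hF hq hv hw]
    have h1 := congrArg (fun g => suMat g *ᵥ w) h.eq
    simp only [suMat_mul, ← Matrix.mulVec_mulVec, refl_mulVec hF hv, refl_mulVec hF hw, hw,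
      ← neg_one_smul F w, smul_add, herm_add_left, herm_smul_left, smul_smul] at h1
    set a := hm w v
    have e : (4 * a) • v = (4 * (a * hm v w)) • w := by linear_combination (norm := module) h1
    have h4 : (4 : F) * a ≠ 0 := mul_ne_zero (by rw [show (4 : F) = 2 * 2 by ring]; exact mul_ne_zero h2 h2) h0
    have e' : v = hm v w • w := by
      refine smul_right_injective _ h4 ?_
      show (4 * a) • v = (4 * a) • hm v w • w
      rw [e, smul_smul, mul_assoc]
    have hN : hm v w ^ (q + 1) = 1 := by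
      generalize hm v w = b at e'
      rw [e', herm_smul_left, herm_smul_right hF, hw, mul_one, ← pow_succ'] at hv
      exact hv
    have hb : hm v w ≠ 0 := fun e => by simp [e] at hN
    refine ⟨(hm v w)⁻¹, by rw [inv_pow, hN, inv_one], ?_⟩
    have := congrArg (fun z => (hm v w)⁻¹ • z) e'
    simp only [smul_smul, inv_mul_cancel₀ hb, one_smul] at this
    exact this.symm
  · rintro (h | h)
    · refine su_ext fun x => ?_
      simp only [suMat_mul, ← Matrix.mulVec_mulVec, refl_mulVec hF hv, refl_mulVec hF hw,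
        ← neg_one_smul F x, smul_add, herm_add_left, herm_smul_left, hswap h, h, smul_smul]
      module
    · rw [h]

include hF in
theorem exists_su_e0 {v : Fin 3 → F} (hv : hm v v = 1) :
    ∃ g : Cfsg.SU 3 F q, suMat g *ᵥ Pi.single 0 1 = v := by
  have he : hm (Pi.single 0 1) (Pi.single 0 1) = 1 := by rw [herm_single_left]; simp
  have hli : ∀ x : Fin 3 → F, hm x x = 1 → LinearIndependent F (fun _ : Fin 1 => x) := fun x hx =>
    LinearIndependent.of_subsingleton 0 (fun e : x = 0 => by simp [e, Cfsg.hermForm] at hx)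
  obtain ⟨g, hg⟩ := exists_GU_family hF (fun _ : Fin 1 => Pi.single 0 1) (fun _ : Fin 1 => v)
    (hli _ he) (hli _ hv) (fun _ _ => he.trans hv.symm)
  have hd : (Matrix.GeneralLinearGroup.det g.1)⁻¹ ^ (q + 1) = 1 := by rw [inv_pow, det_GU hF g.2, inv_one]
  let d : Cfsg.GU 3 F q := guSucc (diagFirst (n := 1) _ hd)
  have hmat : ((g * d).1 : Matrix (Fin 3) (Fin 3) F).det = 1 := by
    show ((g.1 : Matrix (Fin 3) (Fin 3) F) * (d.1 : Matrix (Fin 3) (Fin 3) F)).det = 1
    rw [Matrix.det_mul, det_guSucc]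
    have h1 := congrArg Units.val (det_diagFirst (n := 1) _ hd)
    simp only [Matrix.GeneralLinearGroup.val_det_apply] at h1
    rw [h1, ← Matrix.GeneralLinearGroup.val_det_apply, ← Units.val_mul, mul_inv_cancel, Units.val_one]
  refine ⟨⟨⟨_, hmat⟩, (g * d).2⟩, ?_⟩
  show ((g.1 : Matrix (Fin 3) (Fin 3) F) * (d.1 : Matrix (Fin 3) (Fin 3) F)) *ᵥ Pi.single 0 1 = v
  rw [← Matrix.mulVec_mulVec]
  have : (d.1 : Matrix (Fin 3) (Fin 3) F) *ᵥ Pi.single 0 1 = Pi.single 0 1 := by
    have htl : Fin.tail (Pi.single 0 1 : Fin 3 → F) = 0 := by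
      funext i; simp [Fin.tail, Fin.succ_ne_zero]
    rw [guSucc_mulVec, htl, Matrix.mulVec_zero]
    funext i
    induction i using Fin.cases <;> simp [Fin.succ_ne_zero]
  rw [this]; exact hg 0

include hF in
theorem eq_refl_of_invol (hq : Odd q) {t : Cfsg.SU 3 F q} (ht : t ≠ 1) (ht2 : t * t = 1) :
    ∃ v : Fin 3 → F, hm v v = 1 ∧ t = refl hF v := by
  have h2 := two_ne hF hq
  set M := suMat t with hM
  have hMM : ∀ x, M *ᵥ (M *ᵥ x) = x := fun x => by
    rw [Matrix.mulVec_mulVec, ← suMat_mul, ht2, suMat_one, Matrix.one_mulVec]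
  obtain ⟨w, hw, hw0⟩ : ∃ w, M *ᵥ w = w ∧ hm w w ≠ 0 := by
    by_contra hall
    push Not at hall
    have hfix : ∀ x, M *ᵥ (x + M *ᵥ x) = x + M *ᵥ x := fun x => by
      rw [Matrix.mulVec_add, hMM, add_comm]
    have hz : ∀ a b : Fin 3 → F, M *ᵥ a = a → M *ᵥ b = b → hm a b = 0 := by
      intro a b ha hb
      by_contra hne
      have hc : ∀ c : F, c * hm a b + (c * hm a b) ^ q = 0 := fun c => by
        have := hall (c • a + b) (by rw [Matrix.mulVec_add, Matrix.mulVec_smul, ha, hb])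
        simp only [herm_add_left, herm_smul_left, herm_add_right hF, herm_smul_right hF, hall a ha, hall b hb] at this
        rw [herm_swap hF a b] at this
        rw [mul_pow]
        linear_combination this
      obtain ⟨s, hs⟩ := exists_trace_eq hF (μ := (1 : F)) (one_pow q)
      have := hc (s / hm a b)
      rw [div_mul_cancel₀ _ hne, hs] at this
      exact one_ne_zero this
    have hker : ∀ x, x + M *ᵥ x = 0 := by
      intro x
      refine uForm_nondeg hF 3 _ fun y => ?_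
      show hm y (x + M *ᵥ x) = 0
      have e1 : y = (2 : F)⁻¹ • (y + M *ᵥ y) + (2 : F)⁻¹ • (y + (-1 : F) • (M *ᵥ y)) := by
        rw [← smul_add, show y + M *ᵥ y + (y + (-1 : F) • (M *ᵥ y)) = (2 : F) • y by module, smul_smul,
          inv_mul_cancel₀ h2, one_smul]
      have e2 : hm (y + (-1 : F) • (M *ᵥ y)) (x + M *ᵥ x) = 0 := by
        have h := su_herm t (y + (-1 : F) • (M *ᵥ y)) (x + M *ᵥ x)
        rw [← hM, hfix, Matrix.mulVec_add, Matrix.mulVec_smul, hMM] at h
        simp only [herm_add_left, herm_smul_left] at h ⊢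
        have : (2 : F) * (hm y (x + M *ᵥ x) + -1 * hm (M *ᵥ y) (x + M *ᵥ x)) = 0 := by linear_combination -h
        exact (mul_eq_zero.1 this).resolve_left h2
      rw [e1, herm_add_left, herm_smul_left, herm_smul_left, hz _ _ (hfix y) (hfix x), e2]
      ring
    have hdet : M.det = 1 := t.1.2
    have : M = -1 := Matrix.ext_iff_mulVec.2 fun x => by
      rw [Matrix.neg_mulVec, Matrix.one_mulVec]; exact eq_neg_of_add_eq_zero_right (hker x)
    rw [this, Matrix.det_neg, Matrix.det_one, Fintype.card_fin] at hdet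
    exact h2 (by linear_combination -hdet)
  obtain ⟨a, ha⟩ := exists_length hF hw0 (μ := 1) (one_pow q)
  obtain ⟨g, hg⟩ := exists_su_e0 hF ha
  refine ⟨a • w, ha, ?_⟩
  set s := g⁻¹ * t * g with hs
  have hs2 : s * s = 1 := by
    calc s * s = g⁻¹ * (t * t) * g := by rw [hs]; group
      _ = 1 := by rw [ht2]; group
  have hse : suMat s *ᵥ Pi.single 0 1 = Pi.single 0 1 := by
    rw [hs, suMat_mul, suMat_mul, ← Matrix.mulVec_mulVec, ← Matrix.mulVec_mulVec, hg, Matrix.mulVec_smul, ← hM, hw,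
      ← hg, Matrix.mulVec_mulVec, ← suMat_mul, inv_mul_cancel, suMat_one, Matrix.one_mulVec]
  obtain ⟨A, hA⟩ := mem_range_guSucc hF (g := suToGU s) hse
  have hA2 : A * A = 1 := guSucc_injective (by rw [map_mul, hA, ← map_mul, hs2, map_one, map_one])
  set B := (A.1 : Matrix (Fin 2) (Fin 2) F) with hB
  have hB2 : B * B = 1 := by
    have := congrArg (fun x : Cfsg.GU 2 F q => (x.1 : Matrix (Fin 2) (Fin 2) F)) hA2
    simpa using this
  have hBdet : B.det = 1 := by
    have h := det_guSucc A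
    rw [hA] at h
    rw [hB, ← h]
    exact s.1.2
  have hBneg : B = -1 ∨ B = 1 := by
    have e00 := congrFun (congrFun hB2 0) 0
    have e01 := congrFun (congrFun hB2 0) 1
    have e10 := congrFun (congrFun hB2 1) 0
    have e11 := congrFun (congrFun hB2 1) 1
    simp [Matrix.mul_apply, Fin.sum_univ_two] at e00 e01 e10 e11
    rw [Matrix.det_fin_two] at hBdet
    have htr0 : B 0 0 + B 1 1 ≠ 0 := fun e => h2 (by linear_combination -hBdet + (B 0 0) * e - e00)
    have b01 : B 0 1 = 0 := (mul_eq_zero.1 (by linear_combination e01 :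
      B 0 1 * (B 0 0 + B 1 1) = 0)).resolve_right htr0
    have b10 : B 1 0 = 0 := (mul_eq_zero.1 (by linear_combination e10 :
      B 1 0 * (B 0 0 + B 1 1) = 0)).resolve_right htr0
    rw [b01, b10] at e00 hBdet
    have hb : B 0 0 = 1 ∨ B 0 0 = -1 := by
      rcases mul_eq_zero.1 (by linear_combination e00 : (B 0 0 - 1) * (B 0 0 + 1) = 0) with h | h
      · exact Or.inl (sub_eq_zero.1 h)
      · exact Or.inr (eq_neg_of_add_eq_zero_left h)
    rcases hb with hb | hb <;> rw [hb] at hBdet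
    · right
      have : B 1 1 = 1 := by linear_combination hBdet
      ext i j; fin_cases i <;> fin_cases j <;> simp [hb, b01, b10, this]
    · left
      have : B 1 1 = -1 := by linear_combination -hBdet
      ext i j; fin_cases i <;> fin_cases j <;> simp [hb, b01, b10, this]
  have hsx : ∀ x, suMat s *ᵥ x = Fin.cons (x 0) (B *ᵥ Fin.tail x) := fun x => by
    have := guSucc_mulVec A x
    rw [hA] at this
    exact this
  rcases hBneg with hneg | hone
  · have hse' : s = refl hF (Pi.single 0 1) := by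
      refine su_ext fun x => ?_
      rw [hsx, hneg, refl_mulVec hF (by rw [herm_single_left]; simp)]
      have hx : hm x (Pi.single 0 1) = x 0 := by
        simp [Cfsg.hermForm, Pi.single_apply, q_ne_zero hF]
      rw [hx]
      funext i
      induction i using Fin.cases with
      | zero => simp; ring
      | succ i => simp [Fin.tail, Pi.single_apply, Matrix.neg_mulVec]
    calc t = g * s * g⁻¹ := by rw [hs]; group
      _ = _ := by rw [hse', conj_refl hF g (by rw [herm_single_left]; simp), hg]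
  · refine absurd ?_ ht
    have : s = 1 := su_ext fun x => by
      rw [hsx, hone, Matrix.one_mulVec, suMat_one, Matrix.one_mulVec, Fin.cons_self_tail]
    calc t = g * s * g⁻¹ := by rw [hs]; group
      _ = 1 := by rw [this]; group

include hF in
/-- All involutions are conjugate. -/
theorem exists_conj (hq : Odd q) {t x : Cfsg.SU 3 F q} (ht : t ≠ 1) (ht2 : t * t = 1) (hx : x ≠ 1) (hx2 : x * x = 1) :
    ∃ g : Cfsg.SU 3 F q, g * t * g⁻¹ = x := by
  obtain ⟨v, hv, rfl⟩ := eq_refl_of_invol hF hq ht ht2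
  obtain ⟨w, hw, rfl⟩ := eq_refl_of_invol hF hq hx hx2
  obtain ⟨g, hg⟩ := exists_su_e0 hF hv
  obtain ⟨h, hh⟩ := exists_su_e0 hF hw
  refine ⟨h * g⁻¹, ?_⟩
  rw [conj_refl hF _ hv, suMat_mul, ← Matrix.mulVec_mulVec, ← hg, Matrix.mulVec_mulVec (Pi.single 0 1), ← suMat_mul,
    inv_mul_cancel, suMat_one, Matrix.one_mulVec, hh]

include hF in
/-- A property of involutions is counted on vectors of length one. -/
theorem card_invol_mul (hq : Odd q) (P : Cfsg.SU 3 F q → Prop) :
    Nat.card {x : Cfsg.SU 3 F q // x ≠ 1 ∧ x * x = 1 ∧ P x} * (q + 1) =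
      Nat.card {v : Fin 3 → F // hm v v = 1 ∧ P (refl hF v)} := by
  classical
  let f : {v : Fin 3 → F // hm v v = 1 ∧ P (refl hF v)} → {x : Cfsg.SU 3 F q // x ≠ 1 ∧ x * x = 1 ∧ P x} :=
    fun v => ⟨refl hF v.1, refl_ne_one hF hq v.2.1, refl_sq hF v.2.1, v.2.2⟩
  haveI : Fintype {x : Cfsg.SU 3 F q // x ≠ 1 ∧ x * x = 1 ∧ P x} := Fintype.ofFinite _
  suffices hfib : ∀ x, Nat.card {v // f v = x} = q + 1 by
    rw [← Nat.card_congr (Equiv.sigmaFiberEquiv f), Nat.card_sigma, Finset.sum_congr rfl (fun x _ => hfib x),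
      Finset.sum_const, smul_eq_mul, Finset.card_univ, Nat.card_eq_fintype_card]
  intro x
  obtain ⟨v, hv, hxv⟩ := eq_refl_of_invol hF hq x.2.1 x.2.2.1
  have hP : P (refl hF v) := hxv ▸ x.2.2.2
  rw [← card_norm_fiber hF one_ne_zero (one_pow q)]
  symm
  refine Nat.card_eq_of_bijective (fun a => ⟨⟨a.1 • v, ?_, ?_⟩, ?_⟩) ⟨?_, ?_⟩
  · rw [herm_smul_left, herm_smul_right hF, hv, mul_one, ← pow_succ', a.2]
  · rw [refl_smul hF hv a.2]; exact hP
  · exact Subtype.ext ((refl_smul hF hv a.2).trans hxv.symm)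
  · intro a b h
    have h' : a.1 • v = b.1 • v := congrArg (fun z => z.1.1) h
    exact Subtype.ext (smul_left_injective F (fun e : v = 0 => by simp [e, Cfsg.hermForm] at hv) h')
  · rintro ⟨⟨w, hw, hPw⟩, hwx⟩
    have : refl hF w = refl hF v := (congrArg Subtype.val hwx).trans hxv
    obtain ⟨a, ha, rfl⟩ := (refl_eq_iff hF hq hv hw).1 this
    exact ⟨⟨a, ha⟩, rfl⟩

include hF in
theorem numLen_two : (numLen F q 2 (1 : F) : ℤ) = (q : ℤ) * ((q : ℤ) ^ 2 - 1) ∧
    (numLen F q 2 (0 : F) : ℤ) = (q : ℤ) ^ 3 + q ^ 2 - q := by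
  have h1 := numLen_one hF 2
  have h0 := numLen_zero hF 2
  have hq : (q : ℤ) ≠ 0 := by exact_mod_cast q_ne_zero hF
  constructor <;> apply mul_left_cancel₀ hq
  · linear_combination h1
  · linear_combination h0

include hF in
theorem card_invol (hq : Odd q) :
    Nat.card {x : Cfsg.SU 3 F q // x ≠ 1 ∧ x * x = 1} = q ^ 2 * (q ^ 2 - q + 1) := by
  have h := card_invol_mul hF hq (fun _ => True)
  simp only [and_true] at h
  have h1 : (numLen F q 3 (1 : F) : ℤ) = (q : ℤ) ^ 2 * ((q : ℤ) ^ 3 + 1) := by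
    have := numLen_one hF 3
    apply mul_left_cancel₀ (show (q : ℤ) ≠ 0 by exact_mod_cast q_ne_zero hF)
    linear_combination this
  change _ = numLen F q 3 1 at h
  have hle : q ≤ q ^ 2 := Nat.le_self_pow two_ne_zero q
  have hz := congrArg (Nat.cast : ℕ → ℤ) h
  push_cast at hz
  rw [h1] at hz
  zify [hle]
  apply mul_right_cancel₀ (show ((q : ℤ) + 1) ≠ 0 by positivity)
  linear_combination hz

include hF in
theorem card_centralizer (hq : Odd q) {t : Cfsg.SU 3 F q} (ht : t ≠ 1) (ht2 : t * t = 1) :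
    Nat.card (Subgroup.centralizer ({t} : Set (Cfsg.SU 3 F q))) = q * (q + 1) * (q ^ 2 - 1) := by
  let f : Cfsg.SU 3 F q → {x : Cfsg.SU 3 F q // x ≠ 1 ∧ x * x = 1} := fun g => ⟨g * t * g⁻¹,
    fun e => ht (conj_eq_one_iff.1 e), by rw [show g * t * g⁻¹ * (g * t * g⁻¹) = g * (t * t) * g⁻¹ by group, ht2]; group⟩
  have hsurj : Function.Surjective f := fun x => by
    obtain ⟨g, hg⟩ := exists_conj hF hq ht ht2 x.2.1 x.2.2
    exact ⟨g, Subtype.ext hg⟩
  have key := card_eq_card_mul_card f hsurj (Subgroup.centralizer ({t} : Set (Cfsg.SU 3 F q))) fun g g' => by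
    rw [Subgroup.mem_centralizer_singleton_iff]
    constructor
    · intro h
      refine Subtype.ext ?_
      show g * t * g⁻¹ = g' * t * g'⁻¹
      calc g * t * g⁻¹ = g * (t * (g⁻¹ * g')) * g'⁻¹ := by group
        _ = g * ((g⁻¹ * g') * t) * g'⁻¹ := by rw [h]
        _ = g' * t * g'⁻¹ := by group
    · intro h
      have h' : g * t * g⁻¹ = g' * t * g'⁻¹ := congrArg Subtype.val h
      calc g⁻¹ * g' * t = g⁻¹ * (g' * t * g'⁻¹) * g' := by group
        _ = g⁻¹ * (g * t * g⁻¹) * g' := by rw [h']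
        _ = t * (g⁻¹ * g') := by group
  have hsu := card_SU_mul hF (n := 3) (by norm_num)
  rw [card_GU hF, key, card_invol hF hq] at hsu
  have h2 := two_le_q hF
  have hA : 1 ≤ q ^ 2 := Nat.one_le_pow _ _ (by omega)
  have hle : q ≤ q ^ 2 := Nat.le_self_pow two_ne_zero q
  simp [Finset.prod_range_succ, Nat.even_iff] at hsu
  have hz := congrArg (Nat.cast : ℕ → ℤ) hsu
  push_cast [Nat.cast_sub hA, Nat.cast_sub hle] at hz
  zify [hA]
  have hpos : ((q : ℤ) + 1) * ((q : ℤ) ^ 2 * ((q : ℤ) ^ 2 - q + 1)) ≠ 0 := by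
    have : (0 : ℤ) < (q : ℤ) ^ 2 - q + 1 := by nlinarith
    positivity
  apply mul_left_cancel₀ hpos
  linear_combination hz

/-! ### Around the first basis vector -/

/-- Transfer a count to the base point. -/
theorem card_at_e0 {g : Cfsg.SU 3 F q} (P : Cfsg.SU 3 F q → Prop) :
    Nat.card {x : Cfsg.SU 3 F q // x ≠ 1 ∧ x * x = 1 ∧ P (g * x * g⁻¹)} =
      Nat.card {x : Cfsg.SU 3 F q // x ≠ 1 ∧ x * x = 1 ∧ P x} := by
  refine Nat.card_congr ((MulAut.conj g).toEquiv.subtypeEquiv fun x => ?_)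
  show _ ↔ (MulAut.conj g x) ≠ 1 ∧ MulAut.conj g x * MulAut.conj g x = 1 ∧ P (g * x * g⁻¹)
  simp only [← map_mul, ne_eq, map_eq_one_iff _ (MulAut.conj g).injective]

theorem herm_e0 (x : Fin 3 → F) (hF : Nat.card F = q ^ 2) : hm x (Pi.single 0 1) = x 0 := by
  simp [Cfsg.hermForm, Pi.single_apply, q_ne_zero hF]

/-- `y` completes `v`, `w` to an orthonormal triple. -/
def Perp (q : ℕ) (v w y : Fin 3 → F) : Prop :=
  Cfsg.hermForm 3 F q y y = 1 ∧ Cfsg.hermForm 3 F q y v = 0 ∧ Cfsg.hermForm 3 F q y w = 0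

include hF in
theorem perp_e0_iff (w : Fin 3 → F) :
    (∃ y, Perp q (Pi.single 0 1) w y) ↔ (Fin.tail w = 0 ∨ Cfsg.hermForm 2 F q (Fin.tail w) (Fin.tail w) ≠ 0) := by
  have hq0 := q_ne_zero hF
  have hbr : ∀ y : Fin 3 → F, y 0 = 0 → hm y w = Cfsg.hermForm 2 F q (Fin.tail y) (Fin.tail w) ∧
      hm y y = Cfsg.hermForm 2 F q (Fin.tail y) (Fin.tail y) := by
    intro y hy
    constructor
    · conv_lhs => rw [← Fin.cons_self_tail y, ← Fin.cons_self_tail w, herm_cons, hy, zero_mul, zero_add]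
    · conv_lhs => rw [← Fin.cons_self_tail y, herm_cons, hy, zero_mul, zero_add]
  set u := Fin.tail w with hu
  constructor
  · rintro ⟨y, hyy, hyv, hyw⟩
    rw [herm_e0 y hF] at hyv
    obtain ⟨e1, e2⟩ := hbr y hyv
    rw [e1] at hyw; rw [e2] at hyy
    set z := Fin.tail y
    by_contra hne
    push Not at hne
    obtain ⟨hu0, hiso⟩ := hne
    simp only [Cfsg.hermForm, Fin.sum_univ_two] at hyy hyw hiso
    have hu01 : u 0 ≠ 0 := by
      intro e
      rw [e, zero_mul, zero_add, ← pow_succ'] at hiso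
      exact hu0 (by funext i; fin_cases i <;> simp [e, eq_zero_of_pow_eq_zero hiso])
    -- `z` is a multiple of `u`
    have hz : z 0 * u 0 ^ q * u 1 = - (z 1 * (u 1 ^ q * u 1)) := by linear_combination (u 1) * hyw
    have hpar : z 0 * u 1 = z 1 * u 0 := by
      have : (z 0 * u 1 - z 1 * u 0) * u 0 ^ q = 0 := by linear_combination hz - (z 1) * hiso
      exact sub_eq_zero.1 ((mul_eq_zero.1 this).resolve_right (pow_ne_zero _ hu01))
    have hpar' : z 0 ^ q * u 1 ^ q = z 1 ^ q * u 0 ^ q := by rw [← mul_pow, hpar, mul_pow]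
    have : u 0 * u 0 ^ q * (z 0 * z 0 ^ q + z 1 * z 1 ^ q) = 0 := by
      linear_combination (z 0 * z 0 ^ q) * hiso - (z 0 * u 1) * hpar' - (z 1 ^ q * u 0 ^ q) * hpar
    rw [hyy, mul_one] at this
    exact mul_ne_zero hu01 (pow_ne_zero _ hu01) this
  · intro h
    obtain ⟨z, hz, hzu⟩ : ∃ z : Fin 2 → F, Cfsg.hermForm 2 F q z z = 1 ∧ Cfsg.hermForm 2 F q z u = 0 := by
      rcases h with h | h
      · refine ⟨Pi.single 0 1, by rw [herm_single_left]; simp, ?_⟩
        rw [herm_single_left, h]; simp [hq0]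
      · set z₀ : Fin 2 → F := ![-(u 1 ^ q), u 0 ^ q] with hz₀
        have hn : (-(1 : F)) ^ q = -1 := by rw [← frobQ_apply hF, map_neg, map_one]
        have h1 : Cfsg.hermForm 2 F q z₀ u = 0 := by
          simp only [Cfsg.hermForm, Fin.sum_univ_two, hz₀, Matrix.cons_val_zero, Matrix.cons_val_one]; ring
        have h2 : Cfsg.hermForm 2 F q z₀ z₀ ≠ 0 := by
          intro e
          apply h
          simp only [Cfsg.hermForm, Fin.sum_univ_two, hz₀, Matrix.cons_val_zero, Matrix.cons_val_one] at e ⊢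
          rw [neg_pow, hn, pow_q_q hF, pow_q_q hF] at e
          linear_combination e
        obtain ⟨a, ha⟩ := exists_length hF h2 (μ := 1) (one_pow q)
        exact ⟨a • z₀, ha, by rw [herm_smul_left, h1, mul_zero]⟩
    refine ⟨Fin.cons 0 z, ?_, ?_, ?_⟩
    · rw [(hbr _ rfl).2, Fin.tail_cons]; exact hz
    · rw [herm_e0 _ hF]; rfl
    · rw [(hbr _ rfl).1, Fin.tail_cons]; exact hzu

include hF in
theorem perp_transport (g : Cfsg.SU 3 F q) {v w : Fin 3 → F} (y : Fin 3 → F) :
    Perp q (suMat g *ᵥ v) (suMat g *ᵥ w) (suMat g *ᵥ y) ↔ Perp q v w y := by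
  simp only [Perp, su_herm]

end CfsgLib.Unitary.SUThree

namespace CfsgLib.Unitary.SUThree

open Matrix CfsgLib.Forms CfsgLib.Unitary

variable {F : Type*} [Field F] [Finite F] {q : ℕ} (hF : Nat.card F = q ^ 2)

local notation "hm" => Cfsg.hermForm 3 F q

include hF in
theorem norm_split {w : Fin 3 → F} (hw : hm w w = 1) :
    w 0 ^ (q + 1) + Cfsg.hermForm 2 F q (Fin.tail w) (Fin.tail w) = 1 := by
  conv_rhs => rw [← hw, ← Fin.cons_self_tail w, herm_cons, ← pow_succ']

include hF in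
theorem exists_perp {v w : Fin 3 → F} (hv : hm v v = 1) (hw : hm w w = 1) (h : hm w v ^ (q + 1) ≠ 1) :
    ∃ y, Perp q v w y := by
  obtain ⟨g, rfl⟩ := exists_su_e0 hF hv
  obtain ⟨w', rfl⟩ : ∃ w', suMat g *ᵥ w' = w :=
    ⟨suMat g⁻¹ *ᵥ w, by rw [Matrix.mulVec_mulVec, ← suMat_mul, mul_inv_cancel, suMat_one, Matrix.one_mulVec]⟩
  rw [su_herm] at hw h
  rw [herm_e0 _ hF] at h
  obtain ⟨y, hy⟩ := (perp_e0_iff hF w').2 (Or.inr fun e => h (by
    have := norm_split hF hw
    rwa [e, add_zero] at this))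
  exact ⟨suMat g *ᵥ y, (perp_transport hF g y).2 hy⟩

include hF in
/-- Two perpendicular points have exactly one common neighbour. -/
theorem perp_unique {v w y y' : Fin 3 → F} (hv : hm v v = 1) (hw : hm w w = 1) (hwv : hm w v = 0)
    (hy : Perp q v w y) (hy' : Perp q v w y') : refl hF y' = refl hF y := by
  obtain ⟨g, rfl⟩ := exists_su_e0 hF hv
  have hback : ∀ x : Fin 3 → F, ∃ x', suMat g *ᵥ x' = x := fun x =>
    ⟨suMat g⁻¹ *ᵥ x, by rw [Matrix.mulVec_mulVec, ← suMat_mul, mul_inv_cancel, suMat_one, Matrix.one_mulVec]⟩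
  obtain ⟨w, rfl⟩ := hback w
  obtain ⟨z, rfl⟩ := hback y
  obtain ⟨z', rfl⟩ := hback y'
  rw [perp_transport hF] at hy hy'
  rw [su_herm] at hw
  rw [su_herm, herm_e0 _ hF] at hwv
  obtain ⟨hz, hz0, hzw⟩ := hy
  obtain ⟨hz', hz0', hzw'⟩ := hy'
  rw [herm_e0 _ hF] at hz0 hz0'
  have hq0 := q_ne_zero hF
  simp only [Cfsg.hermForm, Fin.sum_univ_three, hz0, hz0', hwv, zero_mul, zero_add] at hz hz' hzw hzw' hw
  obtain ⟨a, ha⟩ : ∃ a : F, z' = a • z := by
    have k1 : (z' 1 * z 2 - z' 2 * z 1) * w 1 ^ q = 0 := by linear_combination (z 2) * hzw' - (z' 2) * hzw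
    have k2 : (z' 1 * z 2 - z' 2 * z 1) * w 2 ^ q = 0 := by linear_combination (z' 1) * hzw - (z 1) * hzw'
    have k : z' 1 * z 2 = z' 2 * z 1 := by
      by_contra hne
      have hne' := sub_ne_zero.2 hne
      rw [(mul_eq_zero.1 k1).resolve_left hne', (mul_eq_zero.1 k2).resolve_left hne', mul_zero, mul_zero,
        add_zero] at hw
      exact zero_ne_one hw
    refine ⟨z' 1 * z 1 ^ q + z' 2 * z 2 ^ q, funext fun i => ?_⟩
    fin_cases i
    · simp [hz0, hz0']
    · show z' 1 = (z' 1 * z 1 ^ q + z' 2 * z 2 ^ q) * z 1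
      linear_combination (-(z' 1)) * hz + (z 2 ^ q) * k
    · show z' 2 = (z' 1 * z 1 ^ q + z' 2 * z 2 ^ q) * z 2
      linear_combination (-(z' 2)) * hz - (z 1 ^ q) * k
  subst ha
  have hz1 : hm z z = 1 := by simp only [Cfsg.hermForm, Fin.sum_univ_three, hz0, zero_mul, zero_add]; exact hz
  rw [Matrix.mulVec_smul]
  refine refl_smul hF (by rw [su_herm]; exact hz1) ?_
  simp only [Pi.smul_apply, smul_eq_mul, mul_pow] at hz'
  rw [pow_succ']
  linear_combination hz' - (a * a ^ q) * hz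

include hF in
/-- Vectors of length one with prescribed first coordinate and tail. -/
theorem card_commuting (hq : Odd q) :
    Nat.card {x : Cfsg.SU 3 F q // x ≠ 1 ∧ x * x = 1 ∧ (x ≠ refl hF (Pi.single 0 1) ∧
      Commute (refl hF (Pi.single 0 1)) x)} = q * (q - 1) := by
  have he : hm (Pi.single 0 1) (Pi.single 0 1) = 1 := by rw [herm_single_left]; simp
  have h := card_invol_mul hF hq (fun x => x ≠ refl hF (Pi.single 0 1) ∧ Commute (refl hF (Pi.single 0 1)) x)
  have e : Nat.card {v : Fin 3 → F // hm v v = 1 ∧ (refl hF v ≠ refl hF (Pi.single 0 1) ∧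
      Commute (refl hF (Pi.single 0 1)) (refl hF v))} = numLen F q 2 (1 : F) := by
    refine Nat.card_congr ((Equiv.subtypeEquivRight (q := fun v => hm v v = 1 ∧ v 0 = 0) fun v => ?_).trans
      { toFun := fun v => ⟨Fin.tail v.1, by
          have := norm_split hF v.2.1
          rwa [v.2.2, zero_pow (by omega), zero_add] at this⟩
        invFun := fun u => ⟨Fin.cons 0 u.1, by rw [herm_cons, u.2, zero_mul, zero_add], rfl⟩
        left_inv := fun v => Subtype.ext (by
          conv_rhs => rw [← Fin.cons_self_tail v.1, v.2.2])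
        right_inv := fun u => rfl })
    refine and_congr_right fun hv => ?_
    rw [commute_iff hF hq he hv, herm_e0 _ hF]
    constructor
    · rintro ⟨hne, h | h⟩
      · exact h
      · exact absurd h hne
    · refine fun h0 => ⟨fun e => ?_, Or.inl h0⟩
      obtain ⟨a, ha, hva⟩ := (refl_eq_iff hF hq he hv).1 e
      rw [hva] at h0
      simp [Pi.single_apply] at h0
      simp [h0] at ha
  rw [e] at h
  have h1 : 1 ≤ q := by have := two_le_q hF; omega
  have hz := congrArg (Nat.cast : ℕ → ℤ) h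
  push_cast at hz
  rw [(numLen_two hF).1] at hz
  zify [h1]
  apply mul_right_cancel₀ (show ((q : ℤ) + 1) ≠ 0 by positivity)
  linear_combination hz

include hF in
theorem far_iff (hq : Odd q) {v w : Fin 3 → F} (hv : hm v v = 1) (hw : hm w w = 1) :
    (¬ Commute (refl hF v) (refl hF w) ∧ ∀ y : Cfsg.SU 3 F q, y ≠ 1 → y * y = 1 →
      ¬ (Commute (refl hF v) y ∧ Commute y (refl hF w))) ↔
    (¬ Commute (refl hF v) (refl hF w) ∧ ¬ ∃ z, Perp q v w z) := by
  refine and_congr_right fun hnc => ⟨?_, ?_⟩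
  · rintro h ⟨z, hz, hzv, hzw⟩
    refine h _ (refl_ne_one hF hq hz) (refl_sq hF hz) ⟨(commute_iff hF hq hv hz).2 (Or.inl hzv),
      (commute_iff hF hq hz hw).2 (Or.inl ?_)⟩
    rw [herm_swap hF z w, hzw, zero_pow (q_ne_zero hF)]
  · rintro h y hy1 hy2 ⟨h1, h2⟩
    obtain ⟨z, hz, rfl⟩ := eq_refl_of_invol hF hq hy1 hy2
    rcases (commute_iff hF hq hv hz).1 h1 with e1 | e1
    · rcases (commute_iff hF hq hz hw).1 h2 with e2 | e2
      · exact h ⟨z, hz, e1, by rw [herm_swap hF w z, e2, zero_pow (q_ne_zero hF)]⟩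
      · exact hnc (e2 ▸ h1)
    · exact hnc (e1 ▸ h2)

include hF in
theorem card_far (hq : Odd q) :
    Nat.card {x : Cfsg.SU 3 F q // x ≠ 1 ∧ x * x = 1 ∧ (¬ Commute (refl hF (Pi.single 0 1)) x ∧
      ∀ y : Cfsg.SU 3 F q, y ≠ 1 → y * y = 1 → ¬ (Commute (refl hF (Pi.single 0 1)) y ∧ Commute y x))} =
      (q + 1) * (q ^ 2 - 1) := by
  have he : hm (Pi.single 0 1) (Pi.single 0 1) = 1 := by rw [herm_single_left]; simp
  have h := card_invol_mul hF hq (fun x => ¬ Commute (refl hF (Pi.single 0 1)) x ∧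
      ∀ y : Cfsg.SU 3 F q, y ≠ 1 → y * y = 1 → ¬ (Commute (refl hF (Pi.single 0 1)) y ∧ Commute y x))
  have e : Nat.card {v : Fin 3 → F // hm v v = 1 ∧ (¬ Commute (refl hF (Pi.single 0 1)) (refl hF v) ∧
      ∀ y : Cfsg.SU 3 F q, y ≠ 1 → y * y = 1 →
        ¬ (Commute (refl hF (Pi.single 0 1)) y ∧ Commute y (refl hF v)))} =
      Nat.card ({a : F // a ^ (q + 1) = 1} × {u : Fin 2 → F // u ≠ 0 ∧ Cfsg.hermForm 2 F q u u = 0}) := by
    refine Nat.card_congr ((Equiv.subtypeEquivRight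
      (q := fun v => hm v v = 1 ∧ (Fin.tail v ≠ 0 ∧ Cfsg.hermForm 2 F q (Fin.tail v) (Fin.tail v) = 0))
      fun v => ?_).trans
      { toFun := fun v => (⟨v.1 0, by
          have := norm_split hF v.2.1
          rwa [v.2.2.2, add_zero] at this⟩, ⟨Fin.tail v.1, v.2.2⟩)
        invFun := fun p => ⟨Fin.cons p.1.1 p.2.1, by rw [herm_cons, p.2.2.2, add_zero, ← pow_succ', p.1.2],
          by rw [Fin.tail_cons]; exact p.2.2⟩
        left_inv := fun v => Subtype.ext (Fin.cons_self_tail v.1)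
        right_inv := fun p => rfl })
    refine and_congr_right fun hv => ?_
    rw [far_iff hF hq he hv, perp_e0_iff hF, commute_iff hF hq he hv, herm_e0 _ hF]
    constructor
    · rintro ⟨-, h2⟩
      push Not at h2
      exact h2
    · rintro ⟨h1, h2⟩
      refine ⟨?_, by push Not; exact ⟨h1, h2⟩⟩
      rintro (h | h)
      · have := norm_split hF hv
        rw [h, h2, zero_pow (by omega), add_zero] at this
        exact zero_ne_one this
      · obtain ⟨a, -, rfl⟩ := (refl_eq_iff hF hq he hv).1 h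
        exact h1 (funext fun i => by simp [Fin.tail, Fin.succ_ne_zero])
  have hu : Nat.card {u : Fin 2 → F // u ≠ 0 ∧ Cfsg.hermForm 2 F q u u = 0} + 1 = numLen F q 2 (0 : F) := by
    classical
    haveI := Fintype.ofFinite F
    have h0 : Cfsg.hermForm 2 F q (0 : Fin 2 → F) 0 = 0 := by simp [Cfsg.hermForm]
    rw [numLen, Nat.card_eq_fintype_card, Nat.card_eq_fintype_card, Fintype.card_subtype, Fintype.card_subtype,
      show (Finset.univ.filter fun u : Fin 2 → F => u ≠ 0 ∧ Cfsg.hermForm 2 F q u u = 0) =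
        (Finset.univ.filter fun u : Fin 2 → F => Cfsg.hermForm 2 F q u u = 0).erase 0 by ext u; simp]
    exact Finset.card_erase_add_one (by simp [h0])
  rw [e, Nat.card_prod, card_norm_fiber hF one_ne_zero (one_pow q)] at h
  have hA : 1 ≤ q ^ 2 := Nat.one_le_pow _ _ (by have := two_le_q hF; omega)
  have hz := congrArg (Nat.cast : ℕ → ℤ) h
  have hzu := congrArg (Nat.cast : ℕ → ℤ) hu
  push_cast at hz hzu
  rw [(numLen_two hF).2] at hzu
  zify [hA]
  apply mul_right_cancel₀ (show ((q : ℤ) + 1) ≠ 0 by positivity)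
  linear_combination hz + ((q : ℤ) + 1) * hzu

include hF in
/-- The graph has diameter at most three. -/
theorem path_three (hq : Odd q) {t x : Cfsg.SU 3 F q} (ht : t ≠ 1) (ht2 : t * t = 1) (hx : x ≠ 1) (hx2 : x * x = 1) :
    ∃ y z : Cfsg.SU 3 F q, y ≠ 1 ∧ y * y = 1 ∧ z ≠ 1 ∧ z * z = 1 ∧
      Commute t y ∧ Commute y z ∧ Commute z x := by
  obtain ⟨v, hv, rfl⟩ := eq_refl_of_invol hF hq ht ht2
  obtain ⟨w, hw, rfl⟩ := eq_refl_of_invol hF hq hx hx2
  obtain ⟨g, rfl⟩ := exists_su_e0 hF hv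
  obtain ⟨w, rfl⟩ : ∃ w', suMat g *ᵥ w' = w :=
    ⟨suMat g⁻¹ *ᵥ w, by rw [Matrix.mulVec_mulVec, ← suMat_mul, mul_inv_cancel, suMat_one, Matrix.one_mulVec]⟩
  have hq0 := q_ne_zero hF
  have hsw : ∀ {a b : Fin 3 → F}, hm a b = 0 → hm b a = 0 := fun {a b} h => by
    rw [herm_swap hF a b, h, zero_pow hq0]
  have he : ∀ i : Fin 3, hm (Pi.single i 1) (Pi.single i 1) = 1 := fun i => by rw [herm_single_left]; simp
  have hw' : hm w w = 1 := (su_herm g w w).symm.trans hw
  by_cases hN : w 0 ^ (q + 1) = 1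
  · -- choose a basis vector perpendicular to the first
    obtain ⟨i, hi, hwi⟩ : ∃ i : Fin 3, i ≠ 0 ∧ w i ^ (q + 1) ≠ 1 := by
      by_contra hall
      push Not at hall
      have := norm_split hF hw'
      simp only [Cfsg.hermForm, Fin.sum_univ_two, Fin.tail, ← pow_succ'] at this
      rw [hN, show Fin.succ (0 : Fin 2) = (1 : Fin 3) from rfl, show Fin.succ (1 : Fin 2) = (2 : Fin 3) from rfl,
        hall 1 (by decide), hall 2 (by decide)] at this
      exact two_ne hF hq (by linear_combination this)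
    set y := suMat g *ᵥ Pi.single i 1 with hy
    have hyy : hm y y = 1 := by rw [hy, su_herm]; exact he i
    have hyv : hm y (suMat g *ᵥ Pi.single 0 1) = 0 := by
      rw [hy, su_herm, herm_single_left]; simp [hi, hq0]
    obtain ⟨z, hz, hzy, hzw⟩ := exists_perp hF hyy hw (by
      rw [hy, su_herm]; simpa [Cfsg.hermForm, Pi.single_apply, hq0] using hwi)
    exact ⟨refl hF y, refl hF z, refl_ne_one hF hq hyy, refl_sq hF hyy, refl_ne_one hF hq hz, refl_sq hF hz,
      (commute_iff hF hq hv hyy).2 (Or.inl hyv), (commute_iff hF hq hyy hz).2 (Or.inl hzy),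
      (commute_iff hF hq hz hw).2 (Or.inl (hsw hzw))⟩
  · obtain ⟨y, hyy, hyv, hyw⟩ := exists_perp hF hv hw (by rw [su_herm, herm_e0 _ hF]; exact hN)
    exact ⟨refl hF y, refl hF y, refl_ne_one hF hq hyy, refl_sq hF hyy, refl_ne_one hF hq hyy, refl_sq hF hyy,
      (commute_iff hF hq hv hyy).2 (Or.inl hyv), Commute.refl _,
      (commute_iff hF hq hyy hw).2 (Or.inl (hsw hyw))⟩

end CfsgLib.Unitary.SUThree
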